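import Cfsg.Agent.Lib.FusionControl.Step
import Cfsg.Agent.Lib.Fusion.Local
import Cfsg.Agent.Lib.Fusion.LocalSaturation
import Cfsg.Agent.Lib.FusionQuot.Joins
import Cfsg.Agent.Lib.FusionQuot.NormalClosed
import Cfsg.Agent.Lib.FusionQuot.Criterion

/-!
Normal subsystems attached to a normal subgroup: the inner system of the subgroup and the
centralizer system.
-/

set_option autoImplicit false
open Cfsg Cfsg.FusionSystem CfsgLib.Fusion CfsgLib.FusionQuot

namespace CfsgLib.Fusion.NormalPieces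

variable {Ω : Type*} [Group Ω] {S : Subgroup Ω} {F : Cfsg.FusionSystem S} {p : ℕ}

/-- An automorphism of a subgroup normal in the system induced by a map. -/
theorem exists_restrict_aut [Finite S] {P Q : Subgroup Ω} (hQ : F.IsNormal Q) {φ : P →* Ω}
    (hφ : φ ∈ F.Hom P) :
    ∃ (κ : MulAut Q) (ψ : ↥(P ⊔ Q) →* Ω), κ ∈ F.autGroup Q ∧ ψ ∈ F.Hom (P ⊔ Q) ∧
      (∀ x : P, ψ (Subgroup.inclusion le_sup_left x) = φ x) ∧
      ∀ y : Q, ψ (Subgroup.inclusion le_sup_right y) = (κ y : Q) := by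
  obtain ⟨ψ, hψ, hag, hmap⟩ := hQ.2 P φ hφ
  have : Finite Q := finite_of_le hQ.1
  obtain ⟨κ, hκ, hκx⟩ := exists_aut (restrict_mem hψ (le_sup_right : Q ≤ P ⊔ Q))
    (range_eq_of_le (hom_inj (restrict_mem hψ le_sup_right))
      fun y => mem_of_map_subgroupOf_sup_eq hmap y)
  exact ⟨κ, ψ, hκ, hψ, hag, fun y => (hκx y).symm⟩

/-- The inner system of a normal subgroup is a normal subsystem. -/
theorem inner_isNormalIn [Finite S] [Fact p.Prime] (hS : IsPGroup p S) (hF : F.IsSaturated p)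
    {Q : Subgroup Ω} (hQ : F.IsNormal Q) : (Cfsg.innerFusionSystem Q).IsNormalIn F p := by
  have hQS := hQ.1
  have : Finite Q := finite_of_le hQS
  have hQsc := CfsgLib.FusionQuot.stronglyClosed_of_isNormal hQ
  refine ⟨⟨CfsgLib.FusionControl.inner_isSaturated (hS.to_le hQS), hF, ?_, hQsc, ?_, ?_⟩, ?_⟩
  · rintro P φ ⟨hP, g, hg, hv⟩
    exact mem_of_eq_conj (hP.trans hQS) (hQS hg) φ hv
  · intro P hPQ φ hφ α hα
    obtain ⟨hP, g, hg, hv⟩ := hφ
    refine ⟨conjHom _ (α ⟨g, hg⟩ : Q), ⟨?_, _, (α ⟨g, hg⟩).2, fun _ => rfl⟩, fun x hφx hαx => ?_⟩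
    · rintro _ ⟨x, -, rfl⟩
      exact (α x).2
    · show ((α ⟨g, hg⟩ : Q) : Ω) * ((α ⟨x, hPQ x.2⟩ : Q) : Ω) * ((α ⟨g, hg⟩ : Q) : Ω)⁻¹ = _
      rw [← Subgroup.coe_inv, ← Subgroup.coe_mul, ← Subgroup.coe_mul, ← map_inv, ← map_mul, ← map_mul]
      exact congrArg (fun z : Q => ((α z : Q) : Ω)) (Subtype.ext (hv x).symm)
  · intro P hPQ φ hφ
    obtain ⟨κ, ψ, hκ, -, hag, hκx⟩ := exists_restrict_aut hQ hφ
    refine ⟨κ, hκ, P.subtype, ⟨hPQ, 1, Q.one_mem, fun x => by simp⟩, fun x hx => ?_⟩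
    rw [← hag x]
    exact hκx ⟨x, hx⟩
  · intro a ha
    obtain ⟨-, g, hg, hv⟩ := (mem_autGroup_iff_hom le_rfl).1 ha
    have hgM : g ∈ Q ⊔ centralizerIn S Q := Subgroup.mem_sup_left hg
    refine ⟨conjAut _ g (Subgroup.le_normalizer hgM),
      autInducedBy_le_autGroup F (sup_le hQS (centralizerIn_le S Q))
        (conjAut_mem_autInducedBy (hQS hg) _), fun x => (hv x).symm, fun c hc => ?_⟩
    show (c : Ω)⁻¹ * (g * c * g⁻¹) ∈ _
    rw [Subgroup.mem_centralizer_iff.1 hc.2 g hg, mul_inv_cancel_right, inv_mul_cancel]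
    exact Subgroup.one_mem _

/-- The centralizer of a normal subgroup is strongly closed. -/
theorem stronglyClosed_centralizerIn {Q : Subgroup Ω} (hQ : F.IsNormal Q) :
    F.StronglyClosed (centralizerIn S Q) := by
  refine ⟨inf_le_left, fun X hX φ hφ x => ⟨map_mem hφ x, fun r hr => ?_⟩⟩
  obtain ⟨ψ, -, hψP, hψR⟩ := hQ.2 X φ hφ
  obtain ⟨⟨z, hzX⟩, hz, rfl⟩ := hψR.ge hr
  rw [← hψP x, ← map_mul, ← map_mul]
  exact congrArg ψ (Subtype.ext (Subgroup.mem_centralizer_iff.1 (hX x.2).2 z hz))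

/-- The centralizer system of a normal subgroup is a normal subsystem. -/
theorem centralizer_isNormalIn [Finite S] [Fact p.Prime] (hS : IsPGroup p S) (hF : F.IsSaturated p)
    {Q : Subgroup Ω} (hQ : F.IsNormal Q) :
    (centralizerSystem F Q hQ.1).IsNormalIn F p := by
  have hQS := hQ.1
  have : Finite Q := finite_of_le hQS
  set X := centralizerIn S Q with hX
  have hXS : X ≤ S := centralizerIn_le S Q
  have : Finite X := finite_of_le hXS
  have hQsc := CfsgLib.FusionQuot.stronglyClosed_of_isNormal hQ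
  have hXsc : F.StronglyClosed X := stronglyClosed_centralizerIn hQ
  have hQn : F.IsFullyNormalized Q := CfsgLib.FusionQuot.isFullyNormalized_of_stronglyClosed hQsc
  have hQN : ∀ g ∈ S, g ∈ Subgroup.normalizer (Q : Set Ω) := fun g hg =>
    stronglyClosed_le_normalizer hQsc hg
  have hXQ : X ⊔ Q ≤ S := sup_le hXS hQS
  refine ⟨⟨isSaturated_centralizerSystem hS hF (isFullyCentralized_of_isFullyNormalized hS hF hQn)
    (isCentralizerSystem_centralizerSystem F Q hQS), hF, fun P φ hφ => hφ.1, hXsc, ?_, ?_⟩, ?_⟩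
  · -- invariance
    intro P hPX φ hφ α hα
    obtain ⟨hφF, -, hφX, ψ, hψ, hψP, hψQ⟩ := hφ
    have hαC : X.subtype.comp α.toMonoidHom ∈ F.Hom X := (mem_autGroup_iff_hom hXS).1 hα
    obtain ⟨κ, αe, -, hαe, hag, hκ⟩ := exists_restrict_aut hQ hαC
    have hPQ : P ⊔ Q ≤ X ⊔ Q := sup_le_sup_right hPX Q
    obtain ⟨A, a, ha, hax⟩ : ∃ (A : Subgroup Ω) (a : ↥(P ⊔ Q) ≃* A), IsFIso F a ∧
        ∀ v, (a v : Ω) = αe (Subgroup.inclusion hPQ v) := by
      obtain ⟨a, ha, hax⟩ := exists_iso (restrict_mem hαe hPQ) rfl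
      exact ⟨_, a, ha, fun v => hax v⟩
    have hψm : ∀ x, ψ x ∈ X ⊔ Q :=
      forall_mem_of_sup (fun x => by rw [hψP]; exact Subgroup.mem_sup_left (hφX x))
        (fun x => by rw [hψQ]; exact Subgroup.mem_sup_right x.2)
    have hc := F.comp_mem (F.comp_mem ha.symm hψ (fun y => (a.symm y).2)) hαe (fun y => hψm _)
    set P₁ := (P.subgroupOf X).map (X.subtype.comp α.toMonoidHom) with hP₁
    have hP₁A : P₁ ⊔ Q ≤ A := by
      refine sup_le ?_ fun y hy => ?_
      · rintro _ ⟨x, hx, rfl⟩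
        have h1 : (a ⟨x, Subgroup.mem_sup_left hx⟩ : Ω) = (α x : X) := (hax _).trans (hag x)
        exact (show _ = (X.subtype.comp α.toMonoidHom) x from h1) ▸ (a _).2
      · have h1 : (a (Subgroup.inclusion le_sup_right (κ⁻¹ ⟨y, hy⟩)) : Ω) = y := by
          rw [hax]
          show αe (Subgroup.inclusion le_sup_right (κ⁻¹ ⟨y, hy⟩)) = y
          rw [hκ, MulAut.apply_inv_self]
        exact h1 ▸ (a _).2
    set χ₀ := αe.comp (MonoidHom.codRestrict
      (ψ.comp (MonoidHom.codRestrict ((P ⊔ Q).subtype.comp a.symm.toMonoidHom) (P ⊔ Q)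
        (fun y => (a.symm y).2))) (X ⊔ Q) (fun y => hψm _)) with hχ₀
    have hval : ∀ (v : ↥(P ⊔ Q)) (w : A), (w : Ω) = a v →
        χ₀ w = αe ⟨ψ v, hψm v⟩ := by
      intro v w hw
      obtain rfl : w = a v := Subtype.ext hw
      show αe ⟨ψ ⟨(a.symm (a v) : Ω), _⟩, _⟩ = _
      refine congrArg αe (Subtype.ext ?_)
      show ψ ⟨(a.symm (a v) : Ω), _⟩ = ψ v
      exact congrArg ψ (Subtype.ext (congrArg Subtype.val (a.symm_apply_apply v) :))
    have hon : ∀ (x : P) (hw : ((α ⟨x, hPX x.2⟩ : X) : Ω) ∈ A),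
        χ₀ ⟨_, hw⟩ = ((α ⟨φ x, hφX x⟩ : X) : Ω) := by
      intro x hw
      rw [hval (Subgroup.inclusion le_sup_left x) ⟨_, hw⟩ ((hag ⟨x, hPX x.2⟩).symm.trans (hax (Subgroup.inclusion le_sup_left x)).symm)]
      refine Eq.trans ?_ (hag ⟨φ x, hφX x⟩)
      exact congrArg αe (Subtype.ext (hψP x))
    refine ⟨χ₀.comp (Subgroup.inclusion (le_sup_left.trans hP₁A)),
      ⟨restrict_mem hc _, ?_, ?_, χ₀.comp (Subgroup.inclusion hP₁A), restrict_mem hc hP₁A,
        fun x => rfl, fun y => ?_⟩, fun x hφx hαx => hon x _⟩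
    · rintro _ ⟨x, -, rfl⟩
      exact (α x).2
    · rintro ⟨_, x, hx, rfl⟩
      show χ₀ ⟨((α x : X) : Ω), _⟩ ∈ X
      exact (congrArg (· ∈ X) (hon ⟨(x : Ω), hx⟩ _)).mpr (α _).2
    · set v := κ⁻¹ y with hv
      have hvy : (a (Subgroup.inclusion le_sup_right v) : Ω) = y := by
        rw [hax]
        show αe (Subgroup.inclusion le_sup_right v) = y
        rw [hκ, hv, MulAut.apply_inv_self]
      show χ₀ ⟨(y : Ω), _⟩ = y
      rw [hval (Subgroup.inclusion le_sup_right v) ⟨(y : Ω), hP₁A (Subgroup.mem_sup_right y.2)⟩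
        hvy.symm]
      have h7 : (⟨ψ (Subgroup.inclusion le_sup_right v), hψm _⟩ : ↥(X ⊔ Q)) =
          Subgroup.inclusion le_sup_right v := Subtype.ext (hψQ v)
      rw [h7, hκ, hv, MulAut.apply_inv_self]
  · -- Frattini
    intro P hPX φ hφ
    obtain ⟨κ, ψ, hκ, hψ, hag, hκx⟩ := exists_restrict_aut hQ hφ
    have hφX : ∀ x : P, φ x ∈ X := fun x => hXsc.2 P hPX φ hφ x
    have hrec := isReceptive_of_isFullyNormalized hS hF hQn
    have hXn : X ≤ Subgroup.normalizer (Q : Set Ω) := fun x hx => hQN x (hXS hx)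
    obtain ⟨κe, hκe, -, hκex⟩ := ((mem_autGroup_iff hQS).1 hκ).exists_extension hrec
      (le_sup_right : Q ≤ X ⊔ Q) (fun g hg => ⟨hXQ hg, hQN g (hXQ hg)⟩) (fun g hg => by
        have hg' : g ∈ ((X ⊔ Q : Subgroup Ω) : Set Ω) := hg
        rw [Subgroup.coe_mul_of_left_le_normalizer_right X Q hXn] at hg'
        obtain ⟨x, hx, k, hk, rfl⟩ := hg'
        have h1 : conjAut Q (x * k) (hQN _ (hXQ hg)) ∈ Cfsg.Inn Q := by
          rw [inn_eq_autInducedBy, mem_autInducedBy_iff]
          refine ⟨k, hk, fun y => ?_⟩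
          show x * k * (y : Ω) * (x * k)⁻¹ = k * y * k⁻¹
          have h2 := Subgroup.mem_centralizer_iff.1 hx.2 _
            (Q.mul_mem (Q.mul_mem hk y.2) (Q.inv_mem hk))
          calc x * k * (y : Ω) * (x * k)⁻¹ = x * (k * y * k⁻¹) * x⁻¹ := by group
            _ = k * y * k⁻¹ * x * x⁻¹ := by rw [h2]
            _ = k * y * k⁻¹ := by group
        exact inn_le_autInducedBy hQS ((inn_normal Q).conj_mem _ h1 κ))
    obtain ⟨α, hα, hαx⟩ := exists_aut (restrict_mem hκe (le_sup_left : X ≤ X ⊔ Q))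
      (range_eq_of_le (hom_inj (restrict_mem hκe le_sup_left))
        fun x => hXsc.2 X le_rfl _ (restrict_mem hκe le_sup_left) x)
    -- undo it
    obtain ⟨ρ, hρ, hρx⟩ := F.inv_mem hκe
    have hmem : ∀ z, ψ z ∈ κe.range := forall_mem_of_sup
      (fun x => ⟨⟨_, Subgroup.mem_sup_left (α⁻¹ ⟨φ x, hφX x⟩).2⟩, by
        rw [hag]
        have := hαx (α⁻¹ ⟨φ x, hφX x⟩)
        rw [MulAut.apply_inv_self] at this
        exact this.symm⟩)
      (fun y => ⟨Subgroup.inclusion le_sup_right y, by rw [hκx]; exact hκex y⟩)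
    have hc := F.comp_mem hψ hρ hmem
    have hres := restrict_mem hc (le_sup_left : P ≤ P ⊔ Q)
    refine ⟨α, hα, _, ⟨hres, hPX, fun x => hXsc.2 P hPX _ hres x, _, hc, fun x => rfl, fun y => ?_⟩,
      fun x hx => ?_⟩
    · show ρ ⟨ψ (Subgroup.inclusion le_sup_right y), hmem _⟩ = y
      refine Eq.trans (congrArg ρ (Subtype.ext ?_)) (hρx (Subgroup.inclusion le_sup_right y))
      exact (hκx y).trans (hκex y).symm
    · rw [← hag x]
      obtain ⟨z, hz⟩ := hmem (Subgroup.inclusion le_sup_left x)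
      have hρz : ρ ⟨ψ (Subgroup.inclusion le_sup_left x), hmem _⟩ = z :=
        Eq.trans (congrArg ρ (Subtype.ext hz.symm)) (hρx z)
      rw [← hz]
      refine Eq.trans ?_ (hαx ⟨_, hx⟩).symm
      exact congrArg κe (Subtype.ext hρz.symm)
  · -- extension
    intro a ha
    set V := X ⊔ Q with hV
    obtain ⟨ψ, hψ, hag, hQf⟩ : ∃ ψ ∈ F.Hom V,
        (∀ x : X, ψ (Subgroup.inclusion le_sup_left x) = ((a x : X) : Ω)) ∧
        ∀ k : Q, ψ (Subgroup.inclusion le_sup_right k) = k :=
      ((mem_autGroup_iff_hom le_rfl).1 ha).2.2.2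
    have hVsc : F.StronglyClosed V := CfsgLib.FusionQuot.stronglyClosed_sup hS hF hXsc hQsc
    have : Finite V := finite_of_le hXQ
    obtain ⟨e, he, hex⟩ := exists_iso hψ (range_eq_of_le (hom_inj hψ)
      fun v => hVsc.2 V le_rfl ψ hψ v)
    have hrec := isReceptive_of_isFullyNormalized hS hF
      (CfsgLib.FusionQuot.isFullyNormalized_of_stronglyClosed hVsc)
    have hCn : centralizerIn S X ≤ Subgroup.normalizer (V : Set Ω) := fun c hc =>
      stronglyClosed_le_normalizer hVsc hc.1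
    have hVc : V ⊔ centralizerIn S X ≤ normalizerIn S V :=
      sup_le (le_normalizerIn hXQ) fun c hc => ⟨hc.1, hCn hc⟩
    obtain ⟨ψe, hψe, -, hψex⟩ := he.exists_extension hrec (le_sup_left : V ≤ V ⊔ centralizerIn S X)
      hVc fun g hg => by
        have hg' : g ∈ ((V ⊔ centralizerIn S X : Subgroup Ω) : Set Ω) := hg
        rw [Subgroup.coe_mul_of_right_le_normalizer_left V _ hCn] at hg'
        obtain ⟨v, hv, c, hc, rfl⟩ := hg'
        have hcn := hCn hc
        have hsplit : conjAut V (v * c) (hVc hg).2 =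
            conjAut V v (Subgroup.le_normalizer hv) * conjAut V c hcn :=
          MulEquiv.ext fun y => Subtype.ext (by
            show v * c * (y : Ω) * (v * c)⁻¹ = v * (c * y * c⁻¹) * v⁻¹
            group)
        rw [hsplit, map_mul]
        refine Subgroup.mul_mem _ ?_ ?_
        · refine inn_le_autInducedBy hXQ ((inn_normal V).conj_mem _ ?_ (e : MulAut V))
          rw [inn_eq_autInducedBy]
          exact conjAut_mem_autInducedBy hv _
        · -- conjugation by `c` commutes with the extension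
          have h1 : MulAut.congr e (conjAut V c hcn) = conjAut V c hcn := by
            refine MulEquiv.ext fun y => ?_
            obtain ⟨z, rfl⟩ := e.surjective y
            rw [congr_apply, MulEquiv.symm_apply_apply]
            have hz : ∀ z : V, e (conjAut V c hcn z) = conjAut V c hcn (e z) := by
              let M : Subgroup V :=
                { carrier := {z | e (conjAut V c hcn z) = conjAut V c hcn (e z)}
                  one_mem' := by simp
                  mul_mem' := fun {s t} hs ht => by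
                    show e (conjAut V c hcn (s * t)) = conjAut V c hcn (e (s * t))
                    rw [map_mul, map_mul, map_mul, map_mul, hs, ht]
                  inv_mem' := fun {s} hs => by
                    show e (conjAut V c hcn s⁻¹) = conjAut V c hcn (e s⁻¹)
                    rw [map_inv, map_inv, map_inv, map_inv, hs] }
              intro z
              have hle : V ≤ M.map V.subtype := by
                refine sup_le (fun x hx => ?_) (fun k hk => ?_)
                · refine ⟨⟨x, Subgroup.mem_sup_left hx⟩, ?_, rfl⟩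
                  have hfix : ∀ w : V, (w : Ω) ∈ X → conjAut V c hcn w = w := fun w hw =>
                    Subtype.ext (by
                      show c * (w : Ω) * c⁻¹ = w
                      rw [← Subgroup.mem_centralizer_iff.1 hc.2 _ hw, mul_inv_cancel_right])
                  show e (conjAut V c hcn ⟨x, _⟩) = conjAut V c hcn (e ⟨x, _⟩)
                  rw [hfix _ hx, hfix]
                  rw [hex]
                  exact hXsc.2 X le_rfl _ (restrict_mem hψ le_sup_left) ⟨x, hx⟩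
                · refine ⟨⟨k, Subgroup.mem_sup_right hk⟩, ?_, rfl⟩
                  have hid : ∀ w : V, (w : Ω) ∈ Q → e w = w := fun w hw =>
                    Subtype.ext ((hex w).trans (hQf ⟨w, hw⟩))
                  show e (conjAut V c hcn ⟨k, _⟩) = conjAut V c hcn (e ⟨k, _⟩)
                  rw [hid ⟨k, _⟩ hk, hid _ (conj_mem_of_mem_normalizer (hQN c hc.1) hk)]
              obtain ⟨w, hw, hwz⟩ := hle z.2
              exact (Subtype.ext hwz : w = z) ▸ hw
            rw [hz]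
          rw [h1]
          exact conjAut_mem_autInducedBy hc.1 hcn
    set M := X ⊔ centralizerIn S X with hM
    have hMle : M ≤ V ⊔ centralizerIn S X := sup_le_sup_right le_sup_left _
    set f := ψe.comp (Subgroup.inclusion hMle) with hf
    have hfM : f ∈ F.Hom M := restrict_mem hψe hMle
    have hfX : ∀ x : X, f (Subgroup.inclusion le_sup_left x) = ((a x : X) : Ω) := fun x =>
      ((hψex (Subgroup.inclusion le_sup_left x)).trans (hex _)).trans (hag x)
    have hfQ : ∀ k : Q, ψe ⟨k, Subgroup.mem_sup_left (Subgroup.mem_sup_right k.2)⟩ = k := fun k =>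
      ((hψex (Subgroup.inclusion le_sup_right k)).trans (hex _)).trans (hQf k)
    have hdiff : ∀ (c : M), (c : Ω) ∈ centralizerIn S X →
        (c : Ω)⁻¹ * f c ∈ X ⊓ Subgroup.centralizer (X : Set Ω) := by
      intro c hc
      have hfcX : f c ∈ Subgroup.centralizer (X : Set Ω) := by
        refine Subgroup.mem_centralizer_iff.2 fun y hy => ?_
        obtain ⟨x, hx⟩ := a.surjective ⟨y, hy⟩
        have h2 : (Subgroup.inclusion le_sup_left x : M) * c = c * Subgroup.inclusion le_sup_left x :=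
          Subtype.ext (Subgroup.mem_centralizer_iff.1 hc.2 _ x.2)
        have h3 := congrArg f h2
        rw [map_mul, map_mul, hfX, hx] at h3
        exact h3
      refine ⟨⟨S.mul_mem (S.inv_mem hc.1) (map_mem hfM c), Subgroup.mem_centralizer_iff.2 fun k hk => ?_⟩,
        Subgroup.mul_mem _ (Subgroup.inv_mem _ hc.2) hfcX⟩
      have hck : (c : Ω) * k * (c : Ω)⁻¹ ∈ Q := conj_mem_of_mem_normalizer (hQN _ hc.1) hk
      have h4 : ψe (⟨(c : Ω), hMle c.2⟩ * ⟨k, Subgroup.mem_sup_left (Subgroup.mem_sup_right hk)⟩ *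
          ⟨(c : Ω), hMle c.2⟩⁻¹) = (c : Ω) * k * (c : Ω)⁻¹ := hfQ ⟨_, hck⟩
      rw [map_mul, map_mul, map_inv, hfQ ⟨k, hk⟩] at h4
      show k * ((c : Ω)⁻¹ * ψe ⟨(c : Ω), _⟩) = (c : Ω)⁻¹ * ψe ⟨(c : Ω), _⟩ * k
      calc k * ((c : Ω)⁻¹ * ψe ⟨(c : Ω), hMle c.2⟩)
          = (c : Ω)⁻¹ * ((c : Ω) * k * (c : Ω)⁻¹) * ψe ⟨(c : Ω), hMle c.2⟩ := by group
        _ = (c : Ω)⁻¹ * ψe ⟨(c : Ω), hMle c.2⟩ * k := by rw [← h4]; group
    have hfmaps : ∀ m : M, f m ∈ M := forall_mem_of_sup
      (fun x => by rw [hfX]; exact Subgroup.mem_sup_left (a x).2)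
      (fun c => by
        have h5 := M.mul_mem (Subgroup.mem_sup_right c.2)
          (Subgroup.mem_sup_left (hdiff (Subgroup.inclusion le_sup_right c) c.2).1)
        rwa [Subgroup.coe_inclusion, mul_inv_cancel_left] at h5)
    have : Finite M := finite_of_le (dom_le hfM)
    obtain ⟨β, hβ, hβx⟩ := exists_aut hfM (range_eq_of_le (hom_inj hfM) hfmaps)
    exact ⟨β, hβ, fun x => (hβx _).trans (hfX x), fun c hc => by rw [hβx]; exact hdiff c hc⟩

end CfsgLib.Fusion.NormalPieces
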