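import Cfsg.Agent.Lib.Fusion.CentralLift.Basic
import Cfsg.Agent.Lib.Fusion.CentricExtend
import Cfsg.Agent.Lib.Fusion.Stability
import Cfsg.Agent.Lib.Fusion.Invariant
import Cfsg.Agent.Lib.FusionQuot.GroupCriterion

/-!
The automizers lying over a normal subsystem of a central factor system.
-/

set_option autoImplicit false
open Cfsg Cfsg.FusionSystem CfsgLib.Fusion CfsgLib.FusionQuot

namespace CfsgLib.Fusion.CentralLift

variable {Ω Ω' : Type*} [Group Ω] [Group Ω'] {S Z : Subgroup Ω} {C : Cfsg.FusionSystem S}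
  {S' U' : Subgroup Ω'} {θ : S →* Ω'} {C' : Cfsg.FusionSystem S'} {E' : Cfsg.FusionSystem U'}
  {p : ℕ}

/-- The automorphisms of `P` in `C` moving each element by an element of `Z`. -/
def disp (C : Cfsg.FusionSystem S) (Z P : Subgroup Ω) : Subgroup (MulAut P) where
  carrier := {α | α ∈ C.autGroup P ∧ ∀ x : P, (x : Ω)⁻¹ * (α x : P) ∈ Z}
  one_mem' := ⟨one_mem _, fun x => by simp⟩
  mul_mem' := by
    rintro a b ⟨ha, ha'⟩ ⟨hb, hb'⟩
    refine ⟨mul_mem ha hb, fun x => ?_⟩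
    have := Z.mul_mem (hb' x) (ha' (b x))
    rwa [mul_assoc, mul_inv_cancel_left] at this
  inv_mem' := by
    rintro a ⟨ha, ha'⟩
    refine ⟨inv_mem ha, fun x => ?_⟩
    have := Z.inv_mem (ha' (a⁻¹ x))
    rwa [MulAut.apply_inv_self, mul_inv_rev, inv_inv] at this

/-- The automorphisms of `P` in `C` lying over an automorphism in `E'` of its image. -/
def big (C : Cfsg.FusionSystem S) (θ : S →* Ω') (E' : Cfsg.FusionSystem U') (P : Subgroup Ω) :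
    Subgroup (MulAut P) where
  carrier := {α | α ∈ C.autGroup P ∧
    (P ≤ S → ∃ α' ∈ E'.autGroup (dn θ P), Over θ α α')}
  one_mem' := ⟨one_mem _, fun _ => ⟨1, one_mem _, over_refl θ P _⟩⟩
  mul_mem' := by
    rintro a b ⟨ha, ha'⟩ ⟨hb, hb'⟩
    refine ⟨mul_mem ha hb, fun hP => ?_⟩
    obtain ⟨a', haE, hao⟩ := ha' hP
    obtain ⟨b', hbE, hbo⟩ := hb' hP
    exact ⟨a' * b', mul_mem haE hbE, Over.trans hbo hao hP⟩
  inv_mem' := by
    rintro a ⟨ha, ha'⟩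
    refine ⟨inv_mem ha, fun hP => ?_⟩
    obtain ⟨a', haE, hao⟩ := ha' hP
    exact ⟨a'⁻¹, inv_mem haE, Over.symm hao hP⟩

/-- The hypotheses: `E'` is a normal subsystem of the central factor system. -/
structure LSetting (C : Cfsg.FusionSystem S) (Z : Subgroup Ω) (θ : S →* Ω')
    (C' : Cfsg.FusionSystem S') (E' : Cfsg.FusionSystem U') (p : ℕ) : Prop
    extends Setting C Z θ C' p where
  nor : E'.IsNormalIn C' p

/-- The subgroups containing `Z` whose image is centric in `E'`. -/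
def Fam (Z : Subgroup Ω) (θ : S →* Ω') (E' : Cfsg.FusionSystem U') (P : Subgroup Ω) : Prop :=
  Z ≤ P ∧ P ≤ S ∧ E'.IsCentric (dn θ P)

theorem cast_autGroup {F : Cfsg.FusionSystem S'} {X Y : Subgroup Ω'} (hXY : X = Y) {α : MulAut X}
    (hα : α ∈ F.autGroup X) :
    ∃ β ∈ F.autGroup Y, ∀ (y : Y) (x : X), (x : Ω') = y →
      ((β y : Y) : Ω') = ((α x : X) : Ω') := by
  subst hXY
  exact ⟨α, hα, fun y x hxy => congrArg (fun z : X => ((α z : X) : Ω')) (Subtype.ext hxy).symm⟩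

namespace LSetting

variable (h : LSetting C Z θ C' E' p)
include h

theorem inv : E'.IsInvariantIn C' := h.nor.1.2.2
theorem sub : E'.IsSubsystemOf C' := h.inv.1
theorem satE : E'.IsSaturated p := h.nor.1.1
theorem sc' : C'.StronglyClosed U' := h.inv.2.1
theorem U'_le : U' ≤ S' := h.sc'.1

theorem finU' [Finite S] : Finite U' := by
  have := h.finite'
  exact finite_of_le h.U'_le

theorem pU' [Finite S] [Fact p.Prime] : IsPGroup p U' := h.pGroup'.to_le h.U'_le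

theorem dn_up_U : dn θ (up θ U') = U' := h.dn_up h.U'_le

theorem sc [Finite S] : C.StronglyClosed (up θ U') :=
  CfsgLib.FusionQuot.stronglyClosed_preimageAlong
    ⟨fun s => h.range_eq ▸ ⟨s, rfl⟩, fun P φ hφ => by
      obtain ⟨χ, hχ⟩ := exists_induced (α := θ) (dom_le hφ) (map_mem hφ) fun x hx => by
        have hxZ := (h.ker _).1 hx
        refine (h.ker _).2 ?_
        show φ x ∈ Z
        rw [h.fix hφ x hxZ]
        exact hxZ
      obtain ⟨ψ, hψ, hψP, -⟩ := (CfsgLib.FusionQuot.isCentral_center C).2 P φ hφ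
      refine ⟨χ, ?_, hχ⟩
      set X : Subgroup Ω := P ⊔ C.center with hX
      have hXS := dom_le hψ
      have hZX : Z ≤ X := h.le_center.trans le_sup_right
      obtain ⟨f, hf, hfv⟩ := exists_iso hψ rfl
      obtain ⟨f', hf', ho⟩ := h.exists_down hZX hf
      have hle : dn θ P ≤ dn θ X := imageAlong_mono le_sup_left
      refine mem_of_restrict (show _ ∈ C'.Hom _ from hf') hle χ ?_
      rintro ⟨y, hy⟩
      obtain ⟨x, hx, hxP, rfl⟩ := h.dn_mem hy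
      rw [induced_apply hχ ⟨x, hxP⟩ hx hy (map_mem hφ _)]
      refine Eq.trans ?_ (ho ⟨x, Subgroup.mem_sup_left hxP⟩ hx
        (hfv _ ▸ map_mem hψ _) (hle hy)).symm
      refine congrArg θ (Subtype.ext ?_)
      rw [hfv]
      exact (hψP ⟨x, hxP⟩).symm⟩ h.sc'

theorem fam_le {P : Subgroup Ω} (hP : Fam Z θ E' P) : P ≤ up θ U' := fun x hx =>
  mem_preimageAlong.2 ⟨hP.2.1 hx, hP.2.2.1 (apply_mem_imageAlong _ hx)⟩

theorem fam_of_le {P Q : Subgroup Ω} (hP : Fam Z θ E' P) (hPQ : P ≤ Q) (hQ : Q ≤ up θ U') :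
    Fam Z θ E' Q :=
  ⟨hP.1.trans hPQ, hQ.trans (preimageAlong_le U'), isCentric_mono hP.2.2 (imageAlong_mono hPQ)
    (le_trans (imageAlong_mono hQ) h.dn_up_U.le)⟩

theorem mem_of_act_disp {P : Subgroup Ω} (hP : Fam Z θ E' P) {c : Ω} (hc : c ∈ up θ U')
    (hact : ∀ x ∈ P, x⁻¹ * (c * x * c⁻¹) ∈ Z) : c ∈ P := by
  obtain ⟨hcS, hcU⟩ := mem_preimageAlong.1 hc
  refine (h.mem_dn_iff hP.2.1 hP.1 hcS).1 (hP.2.2.2 _ ⟨(dn θ P).subtype,
    subtype_mem E' hP.2.2.1, Subgroup.range_subtype _⟩ ⟨hcU, fun y hy => ?_⟩)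
  obtain ⟨x, hx, hxP, rfl⟩ := h.dn_mem hy
  have h1 := (h.ker ((⟨x, hx⟩ : S)⁻¹ * (⟨c, hcS⟩ * ⟨x, hx⟩ * ⟨c, hcS⟩⁻¹))).2 (hact x hxP)
  rw [map_mul, map_mul, map_mul, map_inv, map_inv, inv_mul_eq_one, eq_mul_inv_iff_mul_eq] at h1
  exact h1

theorem aut_inf_disp {P : Subgroup Ω} (hP : Fam Z θ E' P) :
    autInducedBy (up θ U') P ⊓ disp C Z P ≤ Cfsg.Inn P := by
  rintro α ⟨hα, -, hd⟩
  obtain ⟨u, hu, huU, rfl⟩ := exists_eq_conjAut hα
  rw [inn_eq_autInducedBy]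
  exact conjAut_mem_autInducedBy (h.mem_of_act_disp hP huU fun x hx => hd ⟨x, hx⟩) hu

theorem disp_le {P : Subgroup Ω} (hP : dn θ P ≤ U') : disp C Z P ≤ big C θ E' P := by
  rintro α ⟨hα, hd⟩
  refine ⟨hα, fun hPS => ⟨1, one_mem _, fun x hx hy hm => ?_⟩⟩
  show θ ⟨x, hx⟩ = θ ⟨(α x : P), hy⟩
  rw [← inv_mul_eq_one, ← map_inv, ← map_mul]
  exact (h.ker _).2 (hd x)

theorem disp_comm [Finite S] {P : Subgroup Ω} (hP : P ≤ S) {a b : MulAut P}
    (ha : a ∈ disp C Z P) (hb : b ∈ disp C Z P) : a * b = b * a := by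
  refine MulEquiv.ext fun x => Subtype.ext ?_
  have key : ∀ (c : MulAut P), c ∈ disp C Z P → ∀ z : P, (z : Ω) ∈ Z → c z = z := fun c hc z hz =>
    Subtype.ext (h.fix ((mem_autGroup_iff_hom hP).1 hc.1) z hz)
  have ex : ∀ (c d : MulAut P), c ∈ disp C Z P → d ∈ disp C Z P →
      ((c (d x) : P) : Ω) = x * ((x : Ω)⁻¹ * (c x : P)) * ((x : Ω)⁻¹ * (d x : P)) := by
    intro c d hc hd
    have h1 : c (d x) = c x * (x⁻¹ * d x) := by
      conv_lhs => rw [show d x = x * (x⁻¹ * d x) by group, map_mul, key c hc (x⁻¹ * d x) (hd.2 x)]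
    rw [h1]
    show (c x : Ω) * ((x : Ω)⁻¹ * (d x : P)) = _
    group
  show ((a (b x) : P) : Ω) = ((b (a x) : P) : Ω)
  rw [ex a b ha hb, ex b a hb ha]
  have hc : ((x : Ω)⁻¹ * (a x : P)) * ((x : Ω)⁻¹ * (b x : P)) =
      ((x : Ω)⁻¹ * (b x : P)) * ((x : Ω)⁻¹ * (a x : P)) := h.central (hb.2 x) (h.Z_le (ha.2 x))
  calc (x : Ω) * ((x : Ω)⁻¹ * (a x : P)) * ((x : Ω)⁻¹ * (b x : P))
      = (x : Ω) * (((x : Ω)⁻¹ * (a x : P)) * ((x : Ω)⁻¹ * (b x : P))) := mul_assoc _ _ _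
    _ = (x : Ω) * (((x : Ω)⁻¹ * (b x : P)) * ((x : Ω)⁻¹ * (a x : P))) := by rw [hc]
    _ = _ := (mul_assoc _ _ _).symm

theorem disp_conj [Finite S] {P : Subgroup Ω} (hP : P ≤ S) {α : MulAut P} (hα : α ∈ C.autGroup P)
    {d : MulAut P} (hd : d ∈ disp C Z P) : α * d * α⁻¹ ∈ disp C Z P := by
  refine ⟨mul_mem (mul_mem hα hd.1) (inv_mem hα), fun x => ?_⟩
  obtain ⟨y, rfl⟩ := α.surjective x
  have h1 : (y⁻¹ * d y : P) = α (y⁻¹ * d y) :=
    Subtype.ext (h.fix ((mem_autGroup_iff_hom hP).1 hα) _ (hd.2 y)).symm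
  rw [map_mul, map_inv] at h1
  show ((α y : P) : Ω)⁻¹ * (α (d (α⁻¹ (α y))) : P) ∈ Z
  rw [MulAut.inv_apply_self, ← Subgroup.coe_inv, ← Subgroup.coe_mul, ← h1]
  exact hd.2 y

theorem disp_isPGroup [Finite S] [Fact p.Prime] {P : Subgroup Ω} (hP : P ≤ S) :
    IsPGroup p (disp C Z P) := by
  have : Finite P := finite_of_le hP
  have : Finite (MulAut P) := finite_mulAut
  refine Stability.isPGroup_of_coprime_eq_one fun a ha => Subtype.ext (MulEquiv.ext fun x => ?_)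
  refine Stability.eq_self_of_disp_fixed (isPGroup_of_le h.pGroup hP) _
    (by rw [Subgroup.orderOf_coe]; exact ha) (Subtype.ext ?_)
  exact h.fix ((mem_autGroup_iff_hom hP).1 a.2.1) _ (a.2.2 x)

theorem big_le (P : Subgroup Ω) : big C θ E' P ≤ C.autGroup P := fun _ hα => hα.1

theorem big_conj [Finite S] {P : Subgroup Ω} (hP : P ≤ S) (hZ : Z ≤ P) (hPU : dn θ P ≤ U')
    {α : MulAut P} (hα : α ∈ C.autGroup P) {g : MulAut P} (hg : g ∈ big C θ E' P) :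
    α * g * α⁻¹ ∈ big C θ E' P := by
  refine ⟨mul_mem (mul_mem hα hg.1) (inv_mem hα), fun _ => ?_⟩
  obtain ⟨⟨α', hα'⟩, hαo⟩ := h.exists_autDown hP hZ ⟨α, hα⟩
  obtain ⟨g', hg', hgo⟩ := hg.2 hP
  exact ⟨α' * g' * α'⁻¹, conj_mem_autGroup_of_invariant h.inv hPU hα' hg',
    Over.trans (Over.symm hαo hP) (Over.trans hgo hαo hP) hP⟩

theorem exists_big [Finite S] {P : Subgroup Ω} (hP : P ≤ S) (hZ : Z ≤ P)
    {α' : MulAut (dn θ P)} (hα' : α' ∈ E'.autGroup (dn θ P)) (hPU : dn θ P ≤ U') :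
    ∃ α ∈ big C θ E' P, Over θ α α' := by
  obtain ⟨α, hα, ho⟩ := h.exists_up hP hZ hP hZ
    ((mem_autGroup_iff (h.dn_le P)).1 (autGroup_le_of_subsystem h.sub _ hα'))
  exact ⟨α, ⟨(mem_autGroup_iff hP).2 hα, fun _ => ⟨α', hα', ho⟩⟩, ho⟩

theorem disp_of_over_aut {P : Subgroup Ω} (hP : P ≤ S) {a b : MulAut P}
    (ha : a ∈ C.autGroup P) (hb : b ∈ C.autGroup P) {c' : MulAut (dn θ P)}
    (hao : Over θ a c') (hbo : Over θ b c') : a⁻¹ * b ∈ disp C Z P := by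
  refine ⟨mul_mem (inv_mem ha) hb, fun x => ?_⟩
  have ho : Over θ (a⁻¹ * b : MulAut P) ((c'⁻¹ * c' : MulAut (dn θ P))) :=
    Over.trans hbo (Over.symm hao hP) hP
  rw [inv_mul_cancel] at ho
  exact h.disp_of_over hP hP (e := (1 : MulAut P)) (f := (a⁻¹ * b : MulAut P))
    (e' := (1 : MulAut (dn θ P))) (fun _ _ _ _ => rfl) ho x

theorem autInducedBy_le_big [Finite S] {P : Subgroup Ω} (hP : P ≤ S) (hPU : dn θ P ≤ U') :
    autInducedBy (up θ U') P ≤ big C θ E' P := by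
  intro α hα
  obtain ⟨u, hu, huU, rfl⟩ := exists_eq_conjAut hα
  obtain ⟨huS, huU'⟩ := mem_preimageAlong.1 huU
  refine ⟨autInducedBy_le_autGroup C hP (conjAut_mem_autInducedBy huS hu), fun _ => ?_⟩
  have hu' : θ ⟨u, huS⟩ ∈ Subgroup.normalizer (dn θ P : Set Ω') := by
    refine Subgroup.mem_normalizer_iff.2 fun y => ⟨fun hy => ?_, fun hy => ?_⟩
    · obtain ⟨x, hx, hxP, rfl⟩ := h.dn_mem hy
      rw [← map_inv, ← map_mul, ← map_mul]
      exact apply_mem_imageAlong (P := P) _ ((Subgroup.mem_normalizer_iff.1 hu x).1 hxP)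
    · obtain ⟨x, hx, hxP, he⟩ := h.dn_mem hy
      have h1 : θ (⟨u, huS⟩⁻¹ * ⟨x, hx⟩ * ⟨u, huS⟩) = y := by
        rw [map_mul, map_mul, map_inv, he]; group
      rw [← h1]
      exact apply_mem_imageAlong (P := P) _ ((Subgroup.mem_normalizer_iff''.1 hu x).1 hxP)
  refine ⟨conjAut (dn θ P) _ hu', autInducedBy_le_autGroup E' hPU
    (conjAut_mem_autInducedBy huU' hu'), fun x hx hy hm => ?_⟩
  show θ ⟨u, huS⟩ * θ ⟨x, hx⟩ * (θ ⟨u, huS⟩)⁻¹ = θ ⟨u * x * u⁻¹, hy⟩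
  rw [← map_inv, ← map_mul, ← map_mul]
  rfl

end LSetting

end CfsgLib.Fusion.CentralLift
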