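import Cfsg.Agent.Lib.Fusion.ConstrainedFactor
import Cfsg.Agent.Lib.Fusion.Saturation
import Cfsg.Agent.Lib.FusionQuot.Invariant
import Cfsg.Agent.Lib.FusionQuot.Factor

/-!
A saturated system and its factor system by a central subgroup: the dictionary between subgroups
containing the kernel and their images, between isomorphisms and automizers on the two levels.
-/

set_option autoImplicit false
open Cfsg Cfsg.FusionSystem CfsgLib.Fusion CfsgLib.FusionQuot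

namespace CfsgLib.Fusion.CentralLift

variable {Ω Ω' : Type*} [Group Ω] [Group Ω'] {S Z : Subgroup Ω} {C : Cfsg.FusionSystem S}
  {S' : Subgroup Ω'} {θ : S →* Ω'} {C' : Cfsg.FusionSystem S'} {p : ℕ}

/-- The standing hypotheses: `C'` is the factor system of `C` by the central subgroup `Z`. -/
structure Setting (C : Cfsg.FusionSystem S) (Z : Subgroup Ω) (θ : S →* Ω')
    (C' : Cfsg.FusionSystem S') (p : ℕ) : Prop where
  pGroup : IsPGroup p S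
  sat : C.IsSaturated p
  le_center : Z ≤ C.center
  fac : C.IsFactorSystem Z θ C'

/-- The image of a subgroup. -/
abbrev dn (θ : S →* Ω') (P : Subgroup Ω) : Subgroup Ω' := imageAlong θ P

/-- The preimage of a subgroup. -/
abbrev up (θ : S →* Ω') (P' : Subgroup Ω') : Subgroup Ω := preimageAlong θ P'

namespace Setting

variable (h : Setting C Z θ C' p)
include h

theorem ker (s : S) : θ s = 1 ↔ (s : Ω) ∈ Z := h.fac.2.1 s

theorem range_eq : θ.range = S' := h.fac.2.2.1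

theorem Z_le : Z ≤ S := h.fac.1

theorem finite' [Finite S] : Finite S' := finite_of_isFactorSystem h.fac

theorem pGroup' [Finite S] [Fact p.Prime] : IsPGroup p S' :=
  isPGroup_of_isFactorSystem h.pGroup h.fac

theorem central {z : Ω} (hz : z ∈ Z) {s : Ω} (hs : s ∈ S) : s * z = z * s :=
  C.center_le_centralizer (h.le_center hz) s hs

theorem fix [Finite S] {P : Subgroup Ω} {φ : P →* Ω} (hφ : φ ∈ C.Hom P) (x : P) (hx : (x : Ω) ∈ Z) :
    φ x = x := apply_eq_self_of_center hφ x (h.le_center hx)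

theorem stronglyClosed [Finite S] : C.StronglyClosed Z :=
  ⟨h.Z_le, fun _ hR φ hφ x => by rw [h.fix hφ x (hR x.2)]; exact hR x.2⟩

theorem sat' [Finite S] [Fact p.Prime] : C'.IsSaturated p :=
  isSaturated_factor h.pGroup h.sat h.stronglyClosed h.fac

theorem Z_le_up (P' : Subgroup Ω') : Z ≤ up θ P' := fun z hz =>
  mem_preimageAlong.2 ⟨h.Z_le hz, by rw [(h.ker ⟨z, h.Z_le hz⟩).2 hz]; exact P'.one_mem⟩

theorem up_le (P' : Subgroup Ω') : up θ P' ≤ S := preimageAlong_le P'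

theorem dn_le (P : Subgroup Ω) : dn θ P ≤ S' := h.range_eq ▸ imageAlong_le_range P

theorem mem_dn_iff {P : Subgroup Ω} (hP : P ≤ S) (hZ : Z ≤ P) {x : Ω} (hx : x ∈ S) :
    θ ⟨x, hx⟩ ∈ dn θ P ↔ x ∈ P := by
  refine ⟨fun hm => ?_, fun hm => apply_mem_imageAlong hx hm⟩
  obtain ⟨y, hy, hyP, he⟩ := mem_imageAlong.1 hm
  have h1 : y⁻¹ * x ∈ Z := by
    refine (h.ker ((⟨y, hy⟩ : S)⁻¹ * ⟨x, hx⟩)).1 ?_
    rw [map_mul, map_inv, he, inv_mul_cancel]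
  simpa using P.mul_mem hyP (hZ h1)

theorem up_dn {P : Subgroup Ω} (hP : P ≤ S) (hZ : Z ≤ P) : up θ (dn θ P) = P := by
  ext x
  rw [mem_preimageAlong]
  exact ⟨fun ⟨hx, hm⟩ => (h.mem_dn_iff hP hZ hx).1 hm, fun hx => ⟨hP hx, (h.mem_dn_iff hP hZ _).2 hx⟩⟩

theorem dn_up {P' : Subgroup Ω'} (hP' : P' ≤ S') : dn θ (up θ P') = P' :=
  imageAlong_preimageAlong (hP'.trans h.range_eq.ge)

theorem dn_mem {P : Subgroup Ω} {y : Ω'} (hy : y ∈ dn θ P) :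
    ∃ (x : Ω) (hx : x ∈ S), x ∈ P ∧ θ ⟨x, hx⟩ = y := mem_imageAlong.1 hy

theorem dn_le_dn_iff {P Q : Subgroup Ω} (hP : P ≤ S) (hQ : Q ≤ S) (hZQ : Z ≤ Q) :
    dn θ P ≤ dn θ Q ↔ P ≤ Q :=
  ⟨fun hle x hx => (h.mem_dn_iff hQ hZQ (hP hx)).1 (hle (apply_mem_imageAlong _ hx)),
    fun hle => imageAlong_mono hle⟩

theorem card_eq [Finite S] {P : Subgroup Ω} (hP : P ≤ S) (hZ : Z ≤ P) :
    Nat.card P = Nat.card Z * Nat.card (dn θ P) := by
  have h1 : dn θ P = (θ.comp (Subgroup.inclusion hP)).range := by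
    ext y
    constructor
    · intro hy
      obtain ⟨x, hx, hxP, rfl⟩ := h.dn_mem hy
      exact ⟨⟨x, hxP⟩, rfl⟩
    · rintro ⟨x, rfl⟩
      exact apply_mem_imageAlong _ x.2
  have h2 : (θ.comp (Subgroup.inclusion hP)).ker = Z.subgroupOf P := by
    ext x
    exact h.ker (Subgroup.inclusion hP x)
  have := Subgroup.card_eq_card_quotient_mul_card_subgroup (θ.comp (Subgroup.inclusion hP)).ker
  rw [Nat.card_congr (QuotientGroup.quotientKerEquivRange _).toEquiv, ← h1, h2,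
    Nat.card_congr (Subgroup.subgroupOfEquivOfLe hZ).toEquiv] at this
  rw [this, mul_comm]

theorem dn_inf {P Q : Subgroup Ω} (hQ : Q ≤ S) (hZQ : Z ≤ Q) : dn θ (P ⊓ Q) = dn θ P ⊓ dn θ Q := by
  refine le_antisymm (le_inf (imageAlong_mono inf_le_left) (imageAlong_mono inf_le_right)) ?_
  rintro y ⟨hy1, hy2⟩
  obtain ⟨x, hx, hxP, rfl⟩ := h.dn_mem hy1
  exact apply_mem_imageAlong hx ⟨hxP, (h.mem_dn_iff hQ hZQ hx).1 hy2⟩

theorem mem_normalizer_iff {P : Subgroup Ω} (hP : P ≤ S) (hZ : Z ≤ P) {g : Ω} (hg : g ∈ S) :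
    g ∈ Subgroup.normalizer (P : Set Ω) ↔
      θ ⟨g, hg⟩ ∈ Subgroup.normalizer (dn θ P : Set Ω') := by
  have key : ∀ (x : Ω) (hx : x ∈ S), θ ⟨g, hg⟩ * θ ⟨x, hx⟩ * (θ ⟨g, hg⟩)⁻¹ =
      θ ⟨g * x * g⁻¹, S.mul_mem (S.mul_mem hg hx) (S.inv_mem hg)⟩ := fun x hx => by
    rw [← map_inv, ← map_mul, ← map_mul]; rfl
  constructor
  · intro hn
    refine Subgroup.mem_normalizer_iff.2 fun y => ⟨fun hy => ?_, fun hy => ?_⟩
    · obtain ⟨x, hx, hxP, rfl⟩ := h.dn_mem hy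
      rw [key]
      exact apply_mem_imageAlong _ ((Subgroup.mem_normalizer_iff.1 hn x).1 hxP)
    · obtain ⟨x, hx, hxP, he⟩ := h.dn_mem hy
      have hm : g⁻¹ * x * g ∈ P :=
        (Subgroup.mem_normalizer_iff''.1 hn x).1 hxP
      have : y = θ ⟨g⁻¹ * x * g, hP hm⟩ := by
        have h1 : θ (⟨g, hg⟩⁻¹ * ⟨x, hx⟩ * ⟨g, hg⟩) = y := by
          rw [map_mul, map_mul, map_inv, he]
          group
        exact h1.symm
      rw [this]
      exact apply_mem_imageAlong _ hm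
  · intro hn
    refine Subgroup.mem_normalizer_iff.2 fun x => ⟨fun hx => ?_, fun hx => ?_⟩
    · refine (h.mem_dn_iff hP hZ (S.mul_mem (S.mul_mem hg (hP hx)) (S.inv_mem hg))).1 ?_
      rw [← key x (hP hx)]
      exact (Subgroup.mem_normalizer_iff.1 hn _).1 (apply_mem_imageAlong _ hx)
    · have hxS : x ∈ S := by
        have := S.mul_mem (S.mul_mem (S.inv_mem hg) (hP hx)) hg
        simpa [mul_assoc] using this
      refine (h.mem_dn_iff hP hZ hxS).1 ((Subgroup.mem_normalizer_iff.1 hn _).2 ?_)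
      rw [key x hxS]
      exact apply_mem_imageAlong _ hx

/-- Normalizers inside a preimage. -/
theorem normalizerIn_up {V' : Subgroup Ω'} {P : Subgroup Ω} (hP : P ≤ S) (hZ : Z ≤ P) :
    normalizerIn (up θ V') P = up θ (normalizerIn V' (dn θ P)) := by
  ext g
  constructor
  · rintro ⟨hgV, hgN⟩
    obtain ⟨hg, hgV'⟩ := mem_preimageAlong.1 hgV
    exact mem_preimageAlong.2 ⟨hg, hgV', (h.mem_normalizer_iff hP hZ hg).1 hgN⟩
  · intro hm
    obtain ⟨hg, hgV', hgN⟩ := mem_preimageAlong.1 hm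
    exact ⟨mem_preimageAlong.2 ⟨hg, hgV'⟩, (h.mem_normalizer_iff hP hZ hg).2 hgN⟩

theorem up_top : up θ S' = S := le_antisymm (h.up_le S') fun x hx =>
  mem_preimageAlong.2 ⟨hx, h.range_eq ▸ ⟨_, rfl⟩⟩

theorem dn_normalizerIn {P : Subgroup Ω} (hP : P ≤ S) (hZ : Z ≤ P) :
    dn θ (normalizerIn S P) = normalizerIn S' (dn θ P) := by
  have hn := h.normalizerIn_up (V' := S') hP hZ
  rw [h.up_top] at hn
  rw [hn]
  exact h.dn_up (normalizerIn_le _ _)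

end Setting

/-- An isomorphism `e'` of images lies under an isomorphism `e`. -/
def Over (θ : S →* Ω') {P Q : Subgroup Ω} (e : P ≃* Q) {P' Q' : Subgroup Ω'} (e' : P' ≃* Q') : Prop :=
  ∀ (x : P) (hx : (x : Ω) ∈ S) (hy : (e x : Ω) ∈ S) (hm : θ ⟨x, hx⟩ ∈ P'),
    ((e' ⟨_, hm⟩ : Q') : Ω') = θ ⟨(e x : Ω), hy⟩

theorem over_refl (θ : S →* Ω') (P : Subgroup Ω) (P' : Subgroup Ω') :
    Over θ (MulEquiv.refl P) (MulEquiv.refl P') := fun _ _ _ _ => rfl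

theorem Over.trans {P Q R : Subgroup Ω} {e : P ≃* Q} {f : Q ≃* R} {e' : (dn θ P) ≃* (dn θ Q)}
    (he : Over θ e e') {f' : (dn θ Q) ≃* (dn θ R)} (hf : Over θ f f') (hQ : Q ≤ S) :
    Over θ (e.trans f) (e'.trans f') := by
  intro x hx hy hm
  have hm' : θ ⟨(e x : Ω), hQ (e x).2⟩ ∈ dn θ Q := apply_mem_imageAlong _ (e x).2
  show ((f' (e' ⟨_, hm⟩) : dn θ R) : Ω') = _
  rw [show e' ⟨_, hm⟩ = ⟨_, hm'⟩ from Subtype.ext (he x hx (hQ (e x).2) hm)]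
  exact hf (e x) (hQ (e x).2) hy hm'

theorem Over.symm {P Q : Subgroup Ω} {e : P ≃* Q} {e' : (dn θ P) ≃* (dn θ Q)} (he : Over θ e e')
    (hP : P ≤ S) : Over θ e.symm e'.symm := by
  intro y hy hx hm
  have hm' : θ ⟨(e.symm y : Ω), hx⟩ ∈ dn θ P := apply_mem_imageAlong _ (e.symm y).2
  have h1 : e' ⟨_, hm'⟩ = ⟨_, hm⟩ := by
    refine Subtype.ext ?_
    refine (he (e.symm y) hx (by rwa [MulEquiv.apply_symm_apply]) hm').trans ?_
    exact congrArg θ (Subtype.ext (congrArg Subtype.val (e.apply_symm_apply y) :))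
  show ((e'.symm ⟨_, hm⟩ : dn θ P) : Ω') = _
  rw [← h1, MulEquiv.symm_apply_apply]

namespace Setting

variable (h : Setting C Z θ C' p)
include h

theorem over_unique {P Q : Subgroup Ω} (hP : P ≤ S) (hQ : Q ≤ S) {e : P ≃* Q}
    {e₁ e₂ : (dn θ P) ≃* (dn θ Q)} (h₁ : Over θ e e₁) (h₂ : Over θ e e₂) : e₁ = e₂ := by
  refine MulEquiv.ext fun ⟨y, hy⟩ => Subtype.ext ?_
  obtain ⟨x, hx, hxP, rfl⟩ := h.dn_mem hy
  exact (h₁ ⟨x, hxP⟩ hx (hQ (e ⟨x, hxP⟩).2) hy).trans (h₂ ⟨x, hxP⟩ hx (hQ (e ⟨x, hxP⟩).2) hy).symm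

/-- The same image is taken by maps differing by a displacement into `Z`. -/
theorem disp_of_over {P Q : Subgroup Ω} (hP : P ≤ S) (hQ : Q ≤ S) {e f : P ≃* Q}
    {e' : (dn θ P) ≃* (dn θ Q)} (h₁ : Over θ e e') (h₂ : Over θ f e') (x : P) :
    (e x : Ω)⁻¹ * (f x : Ω) ∈ Z := by
  have hm : θ ⟨x, hP x.2⟩ ∈ dn θ P := apply_mem_imageAlong _ x.2
  refine (h.ker ((⟨(e x : Ω), hQ (e x).2⟩ : S)⁻¹ * ⟨(f x : Ω), hQ (f x).2⟩)).1 ?_
  rw [map_mul, map_inv, ← h₁ x (hP x.2) (hQ (e x).2) hm, ← h₂ x (hP x.2) (hQ (f x).2) hm,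
    inv_mul_cancel]

/-- Every isomorphism between subgroups containing `Z` goes down. -/
theorem exists_down [Finite S] {P Q : Subgroup Ω} (hZ : Z ≤ P) {e : P ≃* Q} (he : IsFIso C e) :
    ∃ e' : (dn θ P) ≃* (dn θ Q), IsFIso C' e' ∧ Over θ e e' := by
  set φ : P →* Ω := Q.subtype.comp e.toMonoidHom with hφdef
  have hφ : φ ∈ C.Hom P := he
  have hP := he.le_left
  have hQ := he.le_right
  obtain ⟨χ, hχ⟩ := exists_induced (α := θ) hP (map_mem hφ) fun x hx => by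
    have hxZ := (h.ker _).1 hx
    refine (h.ker _).2 ?_
    show φ x ∈ Z
    rw [h.fix hφ x hxZ]
    exact hxZ
  have hχC : χ ∈ C'.Hom (dn θ P) :=
    (h.fac.2.2.2 _ _).2 ⟨h.dn_le P, by
      rw [show preimageAlong θ (dn θ P) = P from h.up_dn hP hZ]; exact ⟨φ, hφ, hχ⟩⟩
  have hr : χ.range = dn θ Q := by
    ext y
    constructor
    · rintro ⟨⟨w, hw⟩, rfl⟩
      obtain ⟨x, hx, hxP, rfl⟩ := h.dn_mem hw
      rw [induced_apply hχ ⟨x, hxP⟩ hx hw (map_mem hφ _)]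
      exact apply_mem_imageAlong _ (e ⟨x, hxP⟩).2
    · intro hy
      obtain ⟨q, hq, hqQ, rfl⟩ := h.dn_mem hy
      have hxP := (e.symm ⟨q, hqQ⟩).2
      refine ⟨⟨θ ⟨_, hP hxP⟩, apply_mem_imageAlong _ hxP⟩, ?_⟩
      rw [induced_apply hχ ⟨_, hxP⟩ (hP hxP) _ (map_mem hφ _)]
      refine congrArg θ (Subtype.ext ?_)
      exact (congrArg Subtype.val (e.apply_symm_apply ⟨q, hqQ⟩) :)
  obtain ⟨e', he', hex⟩ := exists_iso hχC hr
  refine ⟨e', he', fun x hx hy hm => ?_⟩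
  rw [hex]
  exact induced_apply hχ x hx hm _

/-- Every isomorphism downstairs comes from one upstairs. -/
theorem exists_up [Finite S] {P Q : Subgroup Ω} (hP : P ≤ S) (hZP : Z ≤ P) (hQ : Q ≤ S)
    (hZQ : Z ≤ Q) {e' : (dn θ P) ≃* (dn θ Q)} (he' : IsFIso C' e') :
    ∃ e : P ≃* Q, IsFIso C e ∧ Over θ e e' := by
  obtain ⟨-, φ, hφ, hind⟩ := (h.fac.2.2.2 _ _).1 (show _ ∈ C'.Hom _ from he')
  have hpre : preimageAlong θ (dn θ P) = P := h.up_dn hP hZP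
  set ψ : P →* Ω := φ.comp (Subgroup.inclusion hpre.ge) with hψdef
  have hψ : ψ ∈ C.Hom P := restrict_mem hφ hpre.ge
  have hval : ∀ (x : P) (hm : θ ⟨x, hP x.2⟩ ∈ dn θ P),
      ((e' ⟨_, hm⟩ : dn θ Q) : Ω') = θ ⟨ψ x, map_mem hψ x⟩ := fun x hm =>
    induced_apply hind (Subgroup.inclusion hpre.ge x) (hP x.2) hm (map_mem hφ _)
  have hr : ψ.range = Q := by
    ext y
    constructor
    · rintro ⟨x, rfl⟩
      refine (h.mem_dn_iff hQ hZQ (map_mem hψ x)).1 ?_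
      rw [← hval x (apply_mem_imageAlong _ x.2)]
      exact (e' _).2
    · intro hy
      obtain ⟨x, hx, hxP, hxe⟩ := h.dn_mem (e'.symm ⟨_, apply_mem_imageAlong (hQ hy) hy⟩).2
      have hm : θ ⟨x, hP hxP⟩ ∈ dn θ P := apply_mem_imageAlong _ hxP
      have h1 : θ ⟨ψ ⟨x, hxP⟩, map_mem hψ _⟩ = θ ⟨y, hQ hy⟩ := by
        rw [← hval ⟨x, hxP⟩ hm]
        have : (⟨_, hm⟩ : dn θ P) = e'.symm ⟨_, apply_mem_imageAlong (hQ hy) hy⟩ := Subtype.ext hxe
        rw [this, MulEquiv.apply_symm_apply]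
      have hz : (ψ ⟨x, hxP⟩)⁻¹ * y ∈ Z := by
        refine (h.ker ((⟨ψ ⟨x, hxP⟩, map_mem hψ _⟩ : S)⁻¹ * ⟨y, hQ hy⟩)).1 ?_
        rw [map_mul, map_inv, h1, inv_mul_cancel]
      refine ⟨⟨x, hxP⟩ * ⟨_, hZP hz⟩, ?_⟩
      rw [map_mul, h.fix hψ ⟨_, hZP hz⟩ hz]
      show ψ ⟨x, hxP⟩ * ((ψ ⟨x, hxP⟩)⁻¹ * y) = y
      group
  obtain ⟨e, he, hex⟩ := exists_iso hψ hr
  refine ⟨e, he, fun x hx hy hm => ?_⟩
  rw [hval x hm]
  exact congrArg θ (Subtype.ext (hex x).symm)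

theorem isConj_down [Finite S] {P Q : Subgroup Ω} (hZ : Z ≤ P) (hPQ : C.IsConj P Q) :
    C'.IsConj (dn θ P) (dn θ Q) := by
  obtain ⟨e, he⟩ := exists_iso_of_isConj hPQ
  obtain ⟨e', he', -⟩ := h.exists_down hZ he
  exact he'.isConj

theorem Z_le_of_iso [Finite S] {P Q : Subgroup Ω} (hZ : Z ≤ P) {e : P ≃* Q} (he : IsFIso C e) :
    Z ≤ Q := fun z hz => by
  have h1 : Q.subtype.comp e.toMonoidHom ⟨z, hZ hz⟩ = z := h.fix he ⟨z, hZ hz⟩ hz
  exact h1 ▸ (e ⟨z, hZ hz⟩).2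

theorem isFullyNormalized_down [Finite S] {P : Subgroup Ω} (hZ : Z ≤ P)
    (hP : C.IsFullyNormalized P) : C'.IsFullyNormalized (dn θ P) := by
  refine ⟨h.dn_le P, fun Q' hQ' => ?_⟩
  have hQ'S := isConj_le_right hQ'
  rw [← h.dn_up hQ'S] at hQ' ⊢
  set Q := up θ Q' with hQdef
  obtain ⟨e', he'⟩ := exists_iso_of_isConj hQ'
  obtain ⟨e, he, -⟩ := h.exists_up hP.1 hZ (h.up_le Q') (h.Z_le_up Q') he'
  have h1 := hP.2 Q he.isConj
  rw [← h.dn_normalizerIn (h.up_le Q') (h.Z_le_up Q'), ← h.dn_normalizerIn hP.1 hZ]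
  rw [h.card_eq (normalizerIn_le S Q) ((h.Z_le_up Q').trans (le_normalizerIn (h.up_le Q'))),
    h.card_eq (normalizerIn_le S P) (hZ.trans (le_normalizerIn hP.1))] at h1
  have : Finite Z := finite_of_le h.Z_le
  exact Nat.le_of_mul_le_mul_left h1 Nat.card_pos

theorem exists_autDown [Finite S] {P : Subgroup Ω} (hP : P ≤ S) (hZ : Z ≤ P) (α : C.autGroup P) :
    ∃ α' : C'.autGroup (dn θ P), Over θ (α : MulAut P) (α' : MulAut (dn θ P)) := by
  obtain ⟨e', he', ho⟩ := h.exists_down hZ ((mem_autGroup_iff hP).1 α.2)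
  exact ⟨⟨e', (mem_autGroup_iff (h.dn_le P)).2 he'⟩, ho⟩

end Setting

end CfsgLib.Fusion.CentralLift
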