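import Cfsg.Agent.Lib.Fusion.CentralLift.Auto
import Cfsg.Agent.Lib.Fusion.PSolvAut

/-!
The displacement group is central in the automizer lying over a normal subsystem, modulo inner
automorphisms.
-/

set_option autoImplicit false
open Cfsg Cfsg.FusionSystem CfsgLib.Fusion CfsgLib.FusionQuot

namespace CfsgLib.Fusion.CentralLift

section Group

variable {G : Type*} [Group G] [Finite G] {p : ℕ}

theorem card_le_of_map_card_le {H : Type*} [Group H] [Finite H] (f : G →* H) (T W : Subgroup G)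
    (hker : f.ker ≤ T) (hle : Nat.card (W.map f) ≤ Nat.card (T.map f)) :
    Nat.card W ≤ Nat.card T := by
  have key : ∀ K : Subgroup G, Nat.card K = Nat.card (K.map f) * Nat.card (f.ker ⊓ K : Subgroup G) := by
    intro K
    have h1 := Subgroup.card_eq_card_quotient_mul_card_subgroup (f.comp K.subtype).ker
    rw [Nat.card_congr (QuotientGroup.quotientKerEquivRange _).toEquiv] at h1
    rw [h1]
    congr 1
    · rw [MonoidHom.range_comp, Subgroup.range_subtype]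
    · rw [← Subgroup.card_map_of_injective (K := (f.comp K.subtype).ker) K.subtype_injective,
        ← MonoidHom.comap_ker, Subgroup.map_comap_eq, Subgroup.range_subtype, inf_comm]
  rw [key W, key T, inf_eq_left.2 hker]
  exact Nat.mul_le_mul hle (Subgroup.card_le_of_le inf_le_left)

/-- A commutator of `p`-power order that is centralized by an element of order prime to `p`
is trivial, modulo a normal subgroup. -/
theorem commutator_mem_of_coprime [Fact p.Prime] (I : Subgroup G) [I.Normal] (g a : G)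
    (hg : (orderOf g).Coprime p) (hd : ∃ k : ℕ, (g * a * g⁻¹ * a⁻¹) ^ p ^ k = 1)
    (h2 : g * (g * a * g⁻¹ * a⁻¹) * g⁻¹ * (g * a * g⁻¹ * a⁻¹)⁻¹ ∈ I) :
    g * a * g⁻¹ * a⁻¹ ∈ I := by
  set d := g * a * g⁻¹ * a⁻¹ with hd'
  let π := QuotientGroup.mk' I
  rw [← QuotientGroup.eq_one_iff] at h2 ⊢
  change π d = 1
  have hcomm : π g * π d * (π g)⁻¹ = π d := by
    have h3 : π (g * d * g⁻¹ * d⁻¹) = 1 := h2
    rwa [map_mul, map_mul, map_mul, map_inv, map_inv, mul_inv_eq_one] at h3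
  have hga : π g * π a * (π g)⁻¹ = π d * π a := by
    rw [← map_inv, ← map_mul, ← map_mul, ← map_mul, hd']
    congr 1
    group
  have hpow : ∀ n : ℕ, π g ^ n * π a * (π g ^ n)⁻¹ = π d ^ n * π a := by
    intro n
    induction n with
    | zero => simp
    | succ n ih =>
      have hc : Commute (π g) (π d) := by
        show π g * π d = π d * π g
        exact mul_inv_eq_iff_eq_mul.1 hcomm
      calc π g ^ (n + 1) * π a * (π g ^ (n + 1))⁻¹
          = π g * (π g ^ n * π a * (π g ^ n)⁻¹) * (π g)⁻¹ := by rw [pow_succ']; group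
        _ = π d ^ n * (π g * π a * (π g)⁻¹) := by
            rw [ih, ← mul_assoc, (hc.pow_right n).eq, mul_assoc (π d ^ n), mul_assoc (π d ^ n)]
        _ = π d ^ (n + 1) * π a := by rw [hga, ← mul_assoc, pow_succ]
  have h1 := hpow (orderOf g)
  rw [← map_pow π g, pow_orderOf_eq_one, map_one, one_mul, inv_one, mul_one] at h1
  have hn : π d ^ orderOf g = 1 := mul_eq_right.1 h1.symm
  obtain ⟨k, hk⟩ := hd
  have hk' : π d ^ p ^ k = 1 := by rw [← map_pow, hk, map_one]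
  exact orderOf_eq_one_iff.1 (Nat.eq_one_of_dvd_coprimes (hg.pow_right k)
    (orderOf_dvd_of_pow_eq_one hn) (orderOf_dvd_of_pow_eq_one hk'))

end Group

variable {Ω Ω' : Type*} [Group Ω] [Group Ω'] {S Z : Subgroup Ω} {C : Cfsg.FusionSystem S}
  {S' U' : Subgroup Ω'} {θ : S →* Ω'} {C' : Cfsg.FusionSystem S'} {E' : Cfsg.FusionSystem U'}
  {p : ℕ}

namespace LSetting

variable (h : LSetting C Z θ C' E' p)
include h

theorem centric_transport [Finite S] {P' Q' : Subgroup Ω'} (hP : E'.IsCentric P') {e' : P' ≃* Q'}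
    (he : IsFIso C' e') : E'.IsCentric Q' := by
  have := h.finU'
  have hQU : Q' ≤ U' := fun y hy => by
    have h1 := h.sc'.2 P' hP.1 _ he (e'.symm ⟨y, hy⟩)
    simpa using h1
  refine ⟨hQU, fun R hR => ?_⟩
  obtain ⟨f, hf⟩ := exists_iso_of_isConj hR
  have hg := he.trans (isFIso_of_subsystem h.sub hf)
  obtain ⟨α, hα, φ₀, hφ₀, hval⟩ := h.inv.2.2.2 P' hP.1 _ hg
  have hc := hP.2 _ (isConj_of_mem hφ₀)
  intro c hcR
  have hcU : c ∈ U' := hcR.1
  have hα' : ((α.symm ⟨c, hcU⟩ : U') : Ω') ∈ φ₀.range := by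
    refine hc ⟨(α.symm _).2, ?_⟩
    rintro _ ⟨x, rfl⟩
    have h1 := Subgroup.mem_centralizer_iff.1 hcR.2 _ (f (e' x)).2
    have h2 : ((f (e' x) : R) : Ω') = ((α ⟨φ₀ x, map_mem hφ₀ x⟩ : U') : Ω') := hval x _
    rw [h2] at h1
    have h3 : α (⟨φ₀ x, map_mem hφ₀ x⟩ * α.symm ⟨c, hcU⟩) =
        α (α.symm ⟨c, hcU⟩ * ⟨φ₀ x, map_mem hφ₀ x⟩) := by
      rw [map_mul, map_mul, MulEquiv.apply_symm_apply]
      exact Subtype.ext h1
    exact congrArg Subtype.val (α.injective h3)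
  obtain ⟨x, hx⟩ := hα'
  have h2 : ((f (e' x) : R) : Ω') = ((α ⟨φ₀ x, map_mem hφ₀ x⟩ : U') : Ω') := hval x _
  rw [show (⟨φ₀ x, map_mem hφ₀ x⟩ : U') = α.symm ⟨c, hcU⟩ from Subtype.ext hx,
    MulEquiv.apply_symm_apply] at h2
  have h4 := (f (e' x)).2
  rwa [h2] at h4

theorem fam_transport [Finite S] {P Q : Subgroup Ω} (hP : Fam Z θ E' P) {e : P ≃* Q}
    (he : IsFIso C e) : Fam Z θ E' Q := by
  obtain ⟨e', he', -⟩ := h.exists_down hP.1 he
  exact ⟨h.Z_le_of_iso hP.1 he, he.le_right, h.centric_transport hP.2.2 he'⟩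

theorem disp_transport [Finite S] {P Q : Subgroup Ω} {e : P ≃* Q} (he : IsFIso C e) {a : MulAut P}
    (ha : a ∈ disp C Z P) : MulAut.congr e a ∈ disp C Z Q := by
  refine ⟨IsFIso.congr_mem he ha.1, fun y => ?_⟩
  obtain ⟨x, rfl⟩ := e.surjective y
  rw [congr_apply, MulEquiv.symm_apply_apply]
  have h1 : Q.subtype.comp e.toMonoidHom (x⁻¹ * a x) = ((x⁻¹ * a x : P) : Ω) :=
    h.fix he (x⁻¹ * a x) (ha.2 x)
  rw [map_mul, map_inv] at h1
  have h2 : (e x : Ω)⁻¹ * (e (a x) : Ω) = ((x⁻¹ * a x : P) : Ω) := h1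
  rw [h2]
  exact ha.2 x

theorem big_transport [Finite S] {P Q : Subgroup Ω} (hP : Fam Z θ E' P) {e : P ≃* Q}
    (he : IsFIso C e) {g : MulAut P} (hg : g ∈ big C θ E' P) :
    MulAut.congr e g ∈ big C θ E' Q := by
  obtain ⟨e', he', ho⟩ := h.exists_down hP.1 he
  refine ⟨IsFIso.congr_mem he hg.1, fun hQ => ?_⟩
  obtain ⟨g', hg', hgo⟩ := hg.2 hP.2.1
  exact ⟨MulAut.congr e' g', congr_mem_autGroup_of_invariant h.inv hP.2.2.1
    (h.centric_transport hP.2.2 he').1 he' hg',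
    Over.trans (Over.trans (Over.symm ho hP.2.1) hgo hP.2.1) ho hP.2.1⟩

omit h in
theorem inn_transport {P Q : Subgroup Ω} (e : P ≃* Q) {g : MulAut P} (hg : g ∈ Cfsg.Inn P) :
    MulAut.congr e g ∈ Cfsg.Inn Q := by
  rw [inn_eq_autInducedBy] at hg ⊢
  obtain ⟨u, hu, huP, rfl⟩ := exists_eq_conjAut hg
  rw [mem_autInducedBy_iff]
  refine ⟨e ⟨u, huP⟩, (e _).2, fun y => ?_⟩
  rw [congr_apply]
  have : conjAut P u hu (e.symm y) = ⟨u, huP⟩ * e.symm y * ⟨u, huP⟩⁻¹ := Subtype.ext rfl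
  rw [this, map_mul, map_mul, map_inv, MulEquiv.apply_symm_apply]
  rfl

theorem exists_conj_of_disp [Finite S] [Fact p.Prime] {R : Subgroup Ω}
    (hR : C.IsFullyNormalized R) {a : MulAut R} (ha : a ∈ disp C Z R) :
    a ∈ autInducedBy S R := by
  have : Finite R := finite_of_le hR.1
  have : Finite (MulAut R) := finite_mulAut
  obtain ⟨-, T, hT⟩ := isFullyAutomized_of_isFullyNormalized h.pGroup h.sat hR
  have hn : ((disp C Z R).subgroupOf (C.autGroup R)).Normal :=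
    ⟨fun d hd g => h.disp_conj hR.1 g.2 hd⟩
  have hp : IsPGroup p ((disp C Z R).subgroupOf (C.autGroup R)) :=
    (h.disp_isPGroup hR.1).comap_subtype
  have h1 := (CfsgLib.Solvable.le_pCore hn hp).trans (CfsgLib.Solvable.pCore_le_sylow T)
    (show (⟨a, ha.1⟩ : C.autGroup R) ∈ (disp C Z R).subgroupOf (C.autGroup R) from ha)
  rw [hT] at h1
  exact h1

theorem fn_E [Finite S] [Fact p.Prime] {R : Subgroup Ω} (hR : Fam Z θ E' R)
    (hRn : C.IsFullyNormalized R) : E'.IsFullyNormalized (dn θ R) := by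
  have := h.finite'
  exact isFullyNormalized_of_subsystem h.pGroup' h.sat' h.sc' h.sub hR.2.2.1
    (h.isFullyNormalized_down hR.1 hRn)

/-- The automorphisms induced by `U` and the displacements make up a Sylow subgroup. -/
theorem sylow_big [Finite S] [Fact p.Prime] {R : Subgroup Ω} (hR : Fam Z θ E' R)
    (hRn : C.IsFullyNormalized R) :
    ∃ T : Sylow p (big C θ E' R), (T : Subgroup (big C θ E' R)) =
      (autInducedBy (up θ U') R ⊔ disp C Z R).subgroupOf (big C θ E' R) := by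
  have := h.finU'
  have : Finite R := finite_of_le hR.2.1
  have : Finite (MulAut R) := finite_mulAut
  have : Finite (dn θ R) := finite_of_le hR.2.2.1
  have : Finite (MulAut (dn θ R)) := finite_mulAut
  have hle : autInducedBy (up θ U') R ⊔ disp C Z R ≤ autInducedBy S R :=
    sup_le (autInducedBy_mono (preimageAlong_le U') R) fun a ha => h.exists_conj_of_disp hRn ha
  have hTp : IsPGroup p ((autInducedBy (up θ U') R ⊔ disp C Z R).subgroupOf (big C θ E' R)) :=
    IsPGroup.comap_subtype ((isPGroup_autInducedBy h.pGroup R).to_le hle)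
  obtain ⟨T, hT⟩ := hTp.exists_le_sylow
  refine ⟨T, (Subgroup.eq_of_le_of_card_ge hT ?_).symm⟩
  choose π hπ hπo using fun g : big C θ E' R => g.2.2 hR.2.1
  let f : big C θ E' R →* E'.autGroup (dn θ R) :=
    { toFun := fun g => ⟨π g, hπ g⟩
      map_one' := Subtype.ext (h.over_unique hR.2.1 hR.2.1 (hπo 1) (over_refl θ R _))
      map_mul' := fun a b => Subtype.ext (h.over_unique hR.2.1 hR.2.1 (hπo (a * b))
        (Over.trans (hπo b) (hπo a) hR.2.1)) }
  refine card_le_of_map_card_le f _ _ ?_ ?_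
  · intro g hg
    refine Subgroup.mem_sup_right ?_
    have h1 : π g = 1 := congrArg Subtype.val hg
    have := h.disp_of_over_aut hR.2.1 (one_mem _) g.2.1 (c' := 1) (over_refl θ R _) (h1 ▸ hπo g)
    rwa [inv_one, one_mul] at this
  · obtain ⟨-, T', hT'⟩ := isFullyAutomized_of_isFullyNormalized h.pU' h.satE (h.fn_E hR hRn)
    refine le_trans (?_ : _ ≤ Nat.card (T' : Subgroup (E'.autGroup (dn θ R)))) ?_
    · obtain ⟨g, hg⟩ := exists_conj_le_sylow T' (T.2.map f)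
      exact Nat.card_le_card_of_injective (fun u : (T : Subgroup (big C θ E' R)).map f =>
          (⟨g * u * g⁻¹, hg u u.2⟩ : (T' : Subgroup (E'.autGroup (dn θ R)))))
        fun a b hab => Subtype.ext (mul_left_cancel (mul_right_cancel (Subtype.ext_iff.1 hab)))
    · refine Subgroup.card_le_of_le ?_
      intro α hα
      rw [hT'] at hα
      obtain ⟨u', hu', hu'U, he⟩ := exists_eq_conjAut (show (α : MulAut (dn θ R)) ∈ _ from hα)
      obtain ⟨⟨u, huS⟩, rfl⟩ := h.range_eq.ge (h.U'_le hu'U)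
      have hu : u ∈ Subgroup.normalizer (R : Set Ω) := (h.mem_normalizer_iff hR.2.1 hR.1 huS).2 hu'
      have huU : u ∈ up θ U' := mem_preimageAlong.2 ⟨huS, hu'U⟩
      have hm := conjAut_mem_autInducedBy huU hu
      refine ⟨⟨conjAut R u hu, h.autInducedBy_le_big hR.2.1 hR.2.2.1 hm⟩,
        Subgroup.mem_sup_left hm, Subtype.ext ?_⟩
      refine h.over_unique hR.2.1 hR.2.1 (hπo _) ?_
      rw [he]
      intro x hx hy hm'
      show θ ⟨u, huS⟩ * θ ⟨x, hx⟩ * (θ ⟨u, huS⟩)⁻¹ = θ ⟨u * x * u⁻¹, hy⟩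
      rw [← map_inv, ← map_mul, ← map_mul]
      rfl

/-- `disp` is central in `big` modulo inner automorphisms. -/
theorem comm_disp [Finite S] [Fact p.Prime] : ∀ (P : Subgroup Ω), Fam Z θ E' P →
    ∀ g ∈ big C θ E' P, ∀ a ∈ disp C Z P, g * a * g⁻¹ * a⁻¹ ∈ Cfsg.Inn P := by
  suffices key : ∀ (n : ℕ) (P : Subgroup Ω), Fam Z θ E' P →
      Nat.card (up θ U') ≤ Nat.card P + n →
      ∀ g ∈ big C θ E' P, ∀ a ∈ disp C Z P, g * a * g⁻¹ * a⁻¹ ∈ Cfsg.Inn P from
    fun P hP => key _ P hP (Nat.le_add_left _ _)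
  intro n
  induction n using Nat.strong_induction_on with
  | _ n ih =>
  intro P hP hn
  -- it is enough to treat a fully normalized conjugate
  obtain ⟨R, hPR, hRn⟩ := exists_isFullyNormalized C hP.2.1
  obtain ⟨e, he⟩ := exists_iso_of_isConj hPR
  have hR := h.fam_transport hP he
  suffices hmain : ∀ g ∈ big C θ E' R, ∀ a ∈ disp C Z R, g * a * g⁻¹ * a⁻¹ ∈ Cfsg.Inn R by
    intro g hg a ha
    have h1 := inn_transport e.symm
      (hmain _ (h.big_transport hP he hg) _ (h.disp_transport he ha))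
    have h2 : MulAut.congr e.symm
        (MulAut.congr e g * MulAut.congr e a * (MulAut.congr e g)⁻¹ * (MulAut.congr e a)⁻¹) =
        g * a * g⁻¹ * a⁻¹ := by
      rw [← map_inv, ← map_inv, ← map_mul, ← map_mul, ← map_mul]
      exact MulEquiv.ext fun x => by simp [congr_apply]
    rwa [h2] at h1
  rw [isConj_card_eq hPR] at hn
  have hRS := hR.2.1
  have hRU : R ≤ up θ U' := h.fam_le hR
  have : Finite R := finite_of_le hRS
  have : Finite (MulAut R) := finite_mulAut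
  have : Finite (up θ U') := finite_of_le (preimageAlong_le U')
  have := h.finite'
  have := h.finU'
  have hinn : (Cfsg.Inn R).Normal := inn_normal R
  have hUS : up θ U' ≤ S := preimageAlong_le U'
  rcases eq_or_lt_of_le hRU with hEq | hlt
  · -- the top: use the extension condition
    subst hEq
    intro g hg a ha
    obtain ⟨g', hg', hgo⟩ := hg.2 hRS
    obtain ⟨g₁, hg₁, hg₁v⟩ := cast_autGroup (F := C')
      h.dn_up_U (autGroup_le_of_subsystem h.sub _ hg')
    obtain ⟨g₂, hg₂, hg₂v⟩ : ∃ g₂ ∈ E'.autGroup U', ∀ y : U', ∀ hy : (y : Ω') ∈ dn θ (up θ U'),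
        ((g₂ y : U') : Ω') = ((g' ⟨y, hy⟩ : dn θ (up θ U')) : Ω') := by
      have key : ∀ (X : Subgroup Ω'), X = U' → ∀ (g' : MulAut X), g' ∈ E'.autGroup X →
          ∃ g₂ ∈ E'.autGroup U', ∀ y : U', ∀ hy : (y : Ω') ∈ X,
            ((g₂ y : U') : Ω') = ((g' ⟨y, hy⟩ : X) : Ω') := by
        rintro X rfl g' hg'
        exact ⟨g', hg', fun y hy => rfl⟩
      exact key _ h.dn_up_U g' hg'
    obtain ⟨β, hβ, hβU, hβC⟩ := h.nor.2 g₂ hg₂
    set W' := U' ⊔ centralizerIn S' U' with hW'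
    have hW'S : W' ≤ S' := sup_le h.U'_le inf_le_left
    set V := up θ W' with hV
    obtain ⟨b', hb', hbv⟩ := cast_autGroup (h.dn_up hW'S).symm hβ
    obtain ⟨b, hb, hbo⟩ := h.exists_up (preimageAlong_le W') (h.Z_le_up W') (preimageAlong_le W')
      (h.Z_le_up W') ((mem_autGroup_iff (h.dn_le _)).1 hb')
    obtain ⟨s, hs, hsS, rfl⟩ := exists_eq_conjAut (h.exists_conj_of_disp hRn ha)
    have hsC : θ ⟨s, hsS⟩ ∈ centralizerIn S' U' := by
      refine ⟨h.range_eq ▸ ⟨_, rfl⟩, fun y hy => ?_⟩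
      rw [← h.dn_up_U] at hy
      obtain ⟨x, hx, hxP, rfl⟩ := h.dn_mem hy
      have h1 := (h.ker ((⟨x, hx⟩ : S)⁻¹ * (⟨s, hsS⟩ * ⟨x, hx⟩ * ⟨s, hsS⟩⁻¹))).2 (ha.2 ⟨x, hxP⟩)
      rw [map_mul, map_mul, map_mul, map_inv, map_inv, inv_mul_eq_one, eq_mul_inv_iff_mul_eq] at h1
      exact h1
    have hsV : s ∈ V := mem_preimageAlong.2 ⟨hsS, Subgroup.mem_sup_right hsC⟩
    have hUV : up θ U' ≤ V := preimageAlong_mono le_sup_left
    have hbU : ∀ x : up θ U', (b (Subgroup.inclusion hUV x) : Ω) ∈ up θ U' := fun x =>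
      stronglyClosed_apply_mem h.sc (show _ ∈ C.Hom V from hb) (Subgroup.inclusion hUV x) x.2
    let g₀ : MulAut (up θ U') := (isoOfInjective
      (hom_inj (restrict_mem (show _ ∈ C.Hom V from hb) hUV))
      (range_eq_of_le (hom_inj (restrict_mem (show _ ∈ C.Hom V from hb) hUV)) hbU))
    have hg₀ : ∀ x : up θ U', (g₀ x : Ω) = (b (Subgroup.inclusion hUV x) : Ω) := fun x =>
      isoOfInjective_apply _ _ x
    have hg₀C : g₀ ∈ C.autGroup (up θ U') :=
      (mem_autGroup_iff_hom hRS).2 (mem_of_restrict (show _ ∈ C.Hom V from hb) hUV _ hg₀)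
    have hg₀o : Over θ g₀ g' := by
      intro x hx hy hm
      have hmW : θ ⟨x, hx⟩ ∈ W' := Subgroup.mem_sup_left (h.dn_up_U.le hm)
      have hmV : θ ⟨x, hx⟩ ∈ dn θ V := (h.dn_up hW'S).ge hmW
      have h1 := hbo (Subgroup.inclusion hUV x) hx (hg₀ x ▸ hy) hmV
      have h2 := hbv ⟨_, hmV⟩ ⟨_, hmW⟩ rfl
      have h3 := hβU ⟨_, h.dn_up_U.le hm⟩
      have h4 := hg₂v ⟨_, h.dn_up_U.le hm⟩ hm
      refine Eq.trans ?_ (h1.trans (congrArg θ (Subtype.ext (hg₀ x).symm)))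
      exact (h2.trans (h3.trans h4)).symm
    have hd₀ := h.disp_of_over_aut hRS hg.1 hg₀C hgo hg₀o
    -- the displacement of `s`
    set s₁ : Ω := (b ⟨s, hsV⟩ : Ω) with hs₁
    have hs₁S : s₁ ∈ S := preimageAlong_le W' (b ⟨s, hsV⟩).2
    have hu : s⁻¹ * s₁ ∈ up θ U' := by
      refine mem_preimageAlong.2 ⟨S.mul_mem (S.inv_mem hsS) hs₁S, ?_⟩
      have hmW : θ ⟨s, hsS⟩ ∈ W' := Subgroup.mem_sup_right hsC
      have hmV : θ ⟨s, hsS⟩ ∈ dn θ V := (h.dn_up hW'S).ge hmW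
      have h1 := hbo ⟨s, hsV⟩ hsS hs₁S hmV
      have h2 := hbv ⟨_, hmV⟩ ⟨_, hmW⟩ rfl
      have h5 := (hβC ⟨_, hmW⟩ hsC).1
      rw [← h2, h1] at h5
      rw [← map_inv, ← map_mul] at h5
      exact h5
    have hconj : g₀ * conjAut (up θ U') s hs * g₀⁻¹ * (conjAut (up θ U') s hs)⁻¹ ∈
        Cfsg.Inn (up θ U') := by
      rw [inn_eq_autInducedBy, mem_autInducedBy_iff]
      refine ⟨s₁ * s⁻¹, ?_, fun x => ?_⟩
      · rw [show s₁ * s⁻¹ = s * (s⁻¹ * s₁) * s⁻¹ by group]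
        exact conj_mem_of_mem_normalizer hs hu
      set a := conjAut (up θ U') s hs
      set y := g₀⁻¹ (a⁻¹ x)
      have h1 : ((g₀ (a y) : up θ U') : Ω) = s₁ * (g₀ y : Ω) * s₁⁻¹ := by
        rw [hg₀, hg₀, show Subgroup.inclusion hUV (a y) =
          ⟨s, hsV⟩ * Subgroup.inclusion hUV y * ⟨s, hsV⟩⁻¹ from Subtype.ext rfl, map_mul, map_mul,
          map_inv]
        rfl
      show ((g₀ (a (g₀⁻¹ (a⁻¹ x))) : up θ U') : Ω) = _
      rw [h1, show g₀ y = a⁻¹ x from MulAut.apply_inv_self _ _ _]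
      have h2 : ((a (a⁻¹ x) : up θ U') : Ω) = s * (a⁻¹ x : up θ U') * s⁻¹ := rfl
      rw [MulAut.apply_inv_self] at h2
      rw [h2]
      group
    have hc := h.disp_comm hRS hd₀ ha
    have he : g * conjAut (up θ U') s hs * g⁻¹ = g₀ * conjAut (up θ U') s hs * g₀⁻¹ := by
      conv_rhs => rw [show g₀ = g * (g⁻¹ * g₀) by group, mul_assoc g (g⁻¹ * g₀) _, hc]
      group
    rw [he]
    exact hconj
  · -- below: use the normalizer in the preimage
    set U := up θ U' with hU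
    set N := normalizerIn U R with hN
    have hRN : R ≤ N := le_normalizerIn hRU
    have hNU : N ≤ U := normalizerIn_le U R
    have hltN : R < N := lt_normalizerIn (h.pGroup.to_le hUS) hlt
    have hNS : N ≤ S := hNU.trans hUS
    have : Finite N := finite_of_le hNS
    have hcard : Nat.card R < Nat.card N := lt_of_not_ge fun hge =>
      hltN.ne (Subgroup.eq_of_le_of_card_ge hRN hge)
    have hNfam := h.fam_of_le hR hRN hNU
    have hNle : Nat.card N ≤ Nat.card U := Subgroup.card_le_of_le hNU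
    have ihN := ih (Nat.card U - Nat.card N) (by omega) N hNfam (by omega)
    set B := big C θ E' R with hB
    let X : Subgroup B :=
      { carrier := {g | ∀ a ∈ disp C Z R, (g : MulAut R) * a * (g : MulAut R)⁻¹ * a⁻¹ ∈ Cfsg.Inn R}
        one_mem' := fun a _ => by simp
        mul_mem' := by
          intro g k hg hk a ha
          have : ((g * k : B) : MulAut R) * a * ((g * k : B) : MulAut R)⁻¹ * a⁻¹ =
              ((g : MulAut R) * ((k : MulAut R) * a * (k : MulAut R)⁻¹ * a⁻¹) * (g : MulAut R)⁻¹) *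
              ((g : MulAut R) * a * (g : MulAut R)⁻¹ * a⁻¹) := by
            rw [Subgroup.coe_mul]; group
          rw [this]
          exact mul_mem (hinn.conj_mem _ (hk a ha) _) (hg a ha)
        inv_mem' := by
          intro g hg a ha
          have : ((g⁻¹ : B) : MulAut R) * a * ((g⁻¹ : B) : MulAut R)⁻¹ * a⁻¹ =
              (g : MulAut R)⁻¹ * ((g : MulAut R) * a * (g : MulAut R)⁻¹ * a⁻¹)⁻¹ * (g : MulAut R) := by
            rw [Subgroup.coe_inv]; group
          rw [this]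
          simpa using hinn.conj_mem _ (inv_mem (hg a ha)) (g : MulAut R)⁻¹ }
    suffices hX : X = ⊤ from fun g hg a ha =>
      (hX ▸ Subgroup.mem_top (⟨g, hg⟩ : B) : (⟨g, hg⟩ : B) ∈ X) a ha
    have hXn : X.Normal := ⟨fun g hg k a ha => by
      have ha' : (k : MulAut R)⁻¹ * a * (k : MulAut R) ∈ disp C Z R := by
        simpa using h.disp_conj hRS (inv_mem k.2.1) ha
      have : ((k * g * k⁻¹ : B) : MulAut R) * a * ((k * g * k⁻¹ : B) : MulAut R)⁻¹ * a⁻¹ =
          (k : MulAut R) * ((g : MulAut R) * ((k : MulAut R)⁻¹ * a * (k : MulAut R)) *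
            (g : MulAut R)⁻¹ * ((k : MulAut R)⁻¹ * a * (k : MulAut R))⁻¹) * (k : MulAut R)⁻¹ := by
        rw [Subgroup.coe_mul, Subgroup.coe_mul, Subgroup.coe_inv]; group
      rw [this]
      exact hinn.conj_mem _ (hg _ ha') _⟩
    obtain ⟨T, hT⟩ := h.sylow_big hR hRn
    have hTX : (T : Subgroup B) ≤ X := by
      rw [hT, Subgroup.subgroupOf_sup (h.autInducedBy_le_big hRS hR.2.2.1) (h.disp_le hR.2.2.1)]
      refine sup_le (fun g hg a ha => ?_) (fun g hg a ha => ?_)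
      · obtain ⟨u, hu, huU, hgu⟩ := exists_eq_conjAut (show (g : MulAut R) ∈ _ from hg)
        obtain ⟨s, hs, hsS, rfl⟩ := exists_eq_conjAut (h.exists_conj_of_disp hRn ha)
        refine h.aut_inf_disp hR ⟨?_, mul_mem (h.disp_conj hRS g.2.1 ha) (Subgroup.inv_mem _ ha)⟩
        show _ ∈ autInducedBy (up θ U') R
        rw [mem_autInducedBy_iff]
        refine ⟨u * s * u⁻¹ * s⁻¹, ?_, fun x => ?_⟩
        · have h1 : s * u⁻¹ * s⁻¹ ∈ U := stronglyClosed_apply_mem h.sc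
            (C.conj_mem le_rfl hsS) ⟨u⁻¹, hUS (U.inv_mem huU)⟩ (U.inv_mem huU)
          rw [show u * s * u⁻¹ * s⁻¹ = u * (s * u⁻¹ * s⁻¹) by group]
          exact U.mul_mem huU h1
        · rw [hgu]
          show u * (s * (u⁻¹ * (s⁻¹ * (x : Ω) * s⁻¹⁻¹) * u⁻¹⁻¹) * s⁻¹) * u⁻¹ = _
          group
      · show (g : MulAut R) * a * (g : MulAut R)⁻¹ * a⁻¹ ∈ Cfsg.Inn R
        rw [h.disp_comm hRS (show (g : MulAut R) ∈ disp C Z R from hg) ha]
        simp
    have hfr := Sylow.normalizer_sup_eq_top' T hTX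
    refine eq_top_iff.2 (hfr.ge.trans (sup_le ?_ le_rfl))
    intro g hg
    -- split off the `p`-part
    obtain ⟨k, m, hm, hord⟩ := Nat.exists_eq_pow_mul_and_not_dvd (orderOf_pos g).ne' p
      (Fact.out : p.Prime).ne_one
    have hgm : g ^ m ∈ X := by
      refine hTX ?_
      have hz : IsPGroup p (Subgroup.zpowers (g ^ m)) := by
        refine IsPGroup.iff_orderOf.2 fun x => ?_
        obtain ⟨i, hi⟩ := x.2
        have h1 : orderOf x ∣ p ^ k := by
          refine orderOf_dvd_of_pow_eq_one (Subtype.ext ?_)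
          show (x : B) ^ p ^ k = 1
          rw [← hi, ← zpow_natCast (_ ^ i), ← zpow_mul, mul_comm, zpow_mul, zpow_natCast, ← pow_mul,
            mul_comm m, ← hord, pow_orderOf_eq_one, one_zpow]
        obtain ⟨j, -, hj⟩ := (Nat.dvd_prime_pow Fact.out).1 h1
        exact ⟨j, hj⟩
      have h2 := IsPGroup.inf_normalizer_sylow hz T
      exact (h2.le ⟨Subgroup.mem_zpowers _,
        pow_mem (show g ∈ Subgroup.normalizer ((T : Subgroup B) : Set B) from hg) m⟩).2
    suffices hgk : g ^ p ^ k ∈ X by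
      obtain ⟨u, v, huv⟩ : ∃ u v : ℤ, ((p ^ k : ℕ) : ℤ) * u + (m : ℤ) * v = 1 := by
        have hco : Nat.Coprime (p ^ k) m :=
          Nat.Coprime.pow_left k ((Fact.out : p.Prime).coprime_iff_not_dvd.2 hm)
        exact ⟨_, _, by rw [← Nat.gcd_eq_gcd_ab, hco.gcd_eq_one]; rfl⟩
      have : g = (g ^ p ^ k) ^ u * (g ^ m) ^ v := by
        rw [← zpow_natCast, ← zpow_natCast, ← zpow_mul, ← zpow_mul, ← zpow_add, huv, zpow_one]
      rw [this]
      exact X.mul_mem (X.zpow_mem hgk u) (X.zpow_mem hgm v)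
    set g₁ := g ^ p ^ k with hg₁
    have hg₁T : g₁ ∈ Subgroup.normalizer ((T : Subgroup B) : Set B) := pow_mem hg _
    have hg₁o : (orderOf (g₁ : MulAut R)).Coprime p := by
      rw [Subgroup.orderOf_coe]
      refine Nat.Coprime.coprime_dvd_left ?_ ((Fact.out : p.Prime).coprime_iff_not_dvd.2 hm).symm
      rw [orderOf_dvd_iff_pow_eq_one, hg₁, ← pow_mul, ← hord, pow_orderOf_eq_one]
    intro a ha
    obtain ⟨s, hs, hsS, rfl⟩ := exists_eq_conjAut (h.exists_conj_of_disp hRn ha)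
    -- extend `g₁` to `N`
    have hrec := isReceptive_of_isFullyNormalized h.pGroup h.sat hRn
    have hiso : IsFIso C ((g₁ : MulAut R) : R ≃* R) := (mem_autGroup_iff hRS).1 (g₁ : B).2.1
    obtain ⟨ψ, hψ, hψN, hψx⟩ := hiso.exists_extension hrec hRN
      (le_inf hNS (inf_le_right : N ≤ _)) fun u hu => by
        have hcu : conjAut R u hu.2 ∈ autInducedBy U R := conjAut_mem_autInducedBy hu.1 hu.2
        have hmT : (⟨conjAut R u hu.2, h.autInducedBy_le_big hRS hR.2.2.1 hcu⟩ : B) ∈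
            (T : Subgroup B) := by rw [hT]; exact Subgroup.mem_sup_left hcu
        have h1 := (Subgroup.mem_normalizer_iff.1 hg₁T _).1 hmT
        rw [hT] at h1
        exact sup_le (autInducedBy_mono hUS R) (fun b hb => h.exists_conj_of_disp hRn hb) h1
    have hψU : ∀ x : N, ψ x ∈ N := fun x => ⟨h.sc.2 N hNU ψ hψ x, (hψN x).2⟩
    obtain ⟨ĝ, hĝ, hĝx⟩ := exists_iso hψ (range_eq_of_le (hom_inj hψ) hψU)
    obtain ⟨ĝ', hĝ', hĝo⟩ := h.exists_down hNfam.1 hĝ
    obtain ⟨g₁', hg₁', hg₁'o⟩ := (g₁ : B).2.2 hRS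
    have hR'N : dn θ R ≤ dn θ N := imageAlong_mono hRN
    have hNn : N = up θ (normalizerIn U' (dn θ R)) := h.normalizerIn_up hRS hR.1
    have hN' : dn θ N = normalizerIn U' (dn θ R) := by
      rw [hNn]; exact h.dn_up ((normalizerIn_le _ _).trans h.U'_le)
    have hag : ∀ x : dn θ R, (ĝ' ⟨x, hR'N x.2⟩ : Ω') = (g₁' x : Ω') := by
      rintro ⟨y, hy⟩
      obtain ⟨x, hx, hxR, rfl⟩ := h.dn_mem hy
      refine (hĝo ⟨x, hRN hxR⟩ hx (hNS (ĝ _).2) (hR'N hy)).trans ?_
      refine Eq.trans ?_ (hg₁'o ⟨x, hxR⟩ hx (hRS ((g₁ : MulAut R) _).2) hy).symm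
      exact congrArg θ (Subtype.ext ((hĝx ⟨x, hRN hxR⟩).trans (hψx ⟨x, hxR⟩)))
    have hrecE := isReceptive_of_isCentric h.pU' h.satE hR.2.2
    have hisoE : IsFIso E' (g₁' : dn θ R ≃* dn θ R) := (mem_autGroup_iff hR.2.2.1).1 hg₁'
    obtain ⟨χ, hχ, hχN, hχx⟩ := hisoE.exists_extension hrecE hR'N hN'.le fun y hy => by
      have hy2 : y ∈ Subgroup.normalizer (dn θ R : Set Ω') := (hN'.le hy).2
      rw [congr_conjAut_eq_of_extends (ψ := (dn θ N).subtype.comp ĝ'.toMonoidHom) hR'N hag hy hy2]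
      exact conjAut_mem_autInducedBy (hN'.le (ĝ' ⟨y, hy⟩).2).1 _
    have : Finite (dn θ N) := finite_of_le (h.dn_le N)
    obtain ⟨χ', hχ', hχ'x⟩ := exists_aut hχ (range_eq_of_le (hom_inj hχ) fun x => hN'.ge (hχN x))
    obtain ⟨γ₀, hγ₀, hγ₀o⟩ := h.exists_big hNS hNfam.1 hχ' hNfam.2.2.1
    -- the stabilizer of `R` and its action on `R`
    let St : Subgroup (MulAut N) :=
      { carrier := {b | ∀ x : N, ((b x : N) : Ω) ∈ R ↔ (x : Ω) ∈ R}
        one_mem' := fun _ => Iff.rfl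
        mul_mem' := fun {b c} hb hc x => (hb (c x)).trans (hc x)
        inv_mem' := fun {b} hb x => by
          have := hb (b⁻¹ x)
          rw [MulAut.apply_inv_self] at this
          exact this.symm }
    let res : St →* MulAut R :=
      { toFun := fun b =>
          { toFun := fun x => ⟨(b : MulAut N) ⟨x, hRN x.2⟩, ((b.2 _).2 x.2)⟩
            invFun := fun x => ⟨(b : MulAut N)⁻¹ ⟨x, hRN x.2⟩, (((St.inv_mem b.2) _).2 x.2)⟩
            left_inv := fun x => Subtype.ext (congrArg Subtype.val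
              (MulAut.inv_apply_self _ (b : MulAut N) (⟨x, hRN x.2⟩ : N)) :)
            right_inv := fun x => Subtype.ext (congrArg Subtype.val
              (MulAut.apply_inv_self _ (b : MulAut N) (⟨x, hRN x.2⟩ : N)) :)
            map_mul' := fun x y => Subtype.ext (congrArg Subtype.val
              (map_mul (b : MulAut N) (⟨x, hRN x.2⟩ : N) ⟨y, hRN y.2⟩) :) }
        map_one' := rfl
        map_mul' := fun _ _ => rfl }
    have hres : ∀ (b : St), (b : MulAut N) ∈ C.autGroup N → res b ∈ C.autGroup R := fun b hb =>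
      (mem_autGroup_iff_hom hRS).2 (mem_of_restrict ((mem_autGroup_iff_hom hNS).1 hb) hRN _
        fun _ => rfl)
    have hdSt : ∀ b ∈ disp C Z N, b ∈ St := fun b hb x => by
      have h1 : (x : Ω)⁻¹ * (b x : N) ∈ R := hR.1 (hb.2 x)
      exact ⟨fun hbx => by simpa using R.mul_mem hbx (R.inv_mem h1),
        fun hx => by simpa using R.mul_mem hx h1⟩
    have hdres : ∀ (b : St), (b : MulAut N) ∈ disp C Z N → res b ∈ disp C Z R := fun b hb =>
      ⟨hres b hb.1, fun x => hb.2 ⟨x, hRN x.2⟩⟩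
    have hγ₀St : γ₀ ∈ St := fun x => by
      have hx := hNS x.2
      have hm : θ ⟨x, hx⟩ ∈ dn θ N := apply_mem_imageAlong _ x.2
      rw [← h.mem_dn_iff hRS hR.1 (hNS (γ₀ x).2), ← h.mem_dn_iff hRS hR.1 hx,
        ← hγ₀o x hx (hNS (γ₀ x).2) hm, hχ'x]
      constructor
      · intro hmem
        have h6 : χ ⟨_, hm⟩ = χ ⟨_, hR'N (g₁'⁻¹ ⟨_, hmem⟩).2⟩ := by
          rw [hχx, MulAut.apply_inv_self]
        have h7 := congrArg (fun z : dn θ N => (z : Ω')) (hom_inj hχ h6)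
        simp only at h7
        rw [h7]
        exact (g₁'⁻¹ ⟨_, hmem⟩).2
      · intro hmem
        rw [hχx ⟨_, hmem⟩]
        exact (g₁' _).2
    obtain ⟨j, hj, hjg⟩ := PSolv.exists_pPrime_part (⟨γ₀, hγ₀St⟩ : St) (g₁ : MulAut R) hg₁o
    set γ : St := ⟨γ₀, hγ₀St⟩ ^ j with hγ
    have hγbig : (γ : MulAut N) ∈ big C θ E' N := by
      rw [hγ, Subgroup.coe_pow]; exact pow_mem hγ₀ j
    -- over the same map of the image
    have hd₀ : (g₁ : MulAut R)⁻¹ * res ⟨γ₀, hγ₀St⟩ ∈ disp C Z R := by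
      refine h.disp_of_over_aut hRS (g₁ : B).2.1 (hres ⟨γ₀, hγ₀St⟩ hγ₀.1) hg₁'o fun x hx hy hm => ?_
      have h8 := hγ₀o ⟨x, hRN x.2⟩ hx hy (hR'N hm)
      refine Eq.trans ?_ h8
      rw [hχ'x]
      exact (hχx ⟨_, hm⟩).symm
    have hpow : ∀ i : ℕ, ((g₁ : MulAut R) ^ i)⁻¹ * res ⟨γ₀, hγ₀St⟩ ^ i ∈ disp C Z R := by
      intro i
      induction i with
      | zero => simp
      | succ i ih2 =>
        have h1 := h.disp_conj hRS (inv_mem (hres ⟨γ₀, hγ₀St⟩ hγ₀.1)) ih2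
        rw [inv_inv] at h1
        have h2 : ((g₁ : MulAut R) ^ (i + 1))⁻¹ * res ⟨γ₀, hγ₀St⟩ ^ (i + 1) =
            (g₁ : MulAut R)⁻¹ * res ⟨γ₀, hγ₀St⟩ * ((res ⟨γ₀, hγ₀St⟩)⁻¹ *
              (((g₁ : MulAut R) ^ i)⁻¹ * res ⟨γ₀, hγ₀St⟩ ^ i) * res ⟨γ₀, hγ₀St⟩) := by
          rw [pow_succ (res _), pow_succ (g₁ : MulAut R)]; group
        rw [h2]
        exact mul_mem hd₀ h1
    have hγres : (g₁ : MulAut R)⁻¹ * res γ ∈ disp C Z R := by
      rw [hγ, map_pow]
      have h1 := hpow j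
      rwa [hjg] at h1
    -- conjugation by `s` on `N`
    have hsN : s ∈ Subgroup.normalizer (N : Set Ω) := by
      refine Subgroup.mem_normalizer_iff.2 fun z => ?_
      have key : ∀ t ∈ S, t ∈ Subgroup.normalizer (R : Set Ω) → ∀ z ∈ N, t * z * t⁻¹ ∈ N :=
        fun t ht htR z hz => ⟨stronglyClosed_apply_mem h.sc (C.conj_mem le_rfl ht) ⟨z, hNS hz⟩ hz.1,
          mul_mem (mul_mem htR hz.2) (Subgroup.inv_mem _ htR)⟩
      refine ⟨key s hsS hs z, fun hz => ?_⟩
      have := key s⁻¹ (S.inv_mem hsS) (Subgroup.inv_mem _ hs) _ hz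
      simpa [mul_assoc] using this
    have hxSt : conjAut N s hsN ∈ St := fun z => (Subgroup.mem_normalizer_iff.1 hs z).symm
    have hxC : conjAut N s hsN ∈ C.autGroup N :=
      autInducedBy_le_autGroup C hNS (conjAut_mem_autInducedBy hsS hsN)
    set x₁ : St := ⟨conjAut N s hsN, hxSt⟩ with hx₁
    have hx₁res : res x₁ = conjAut R s hs := MulEquiv.ext fun z => Subtype.ext rfl
    obtain ⟨x', hx'⟩ := h.exists_autDown hNS hNfam.1 ⟨_, hxC⟩
    obtain ⟨γ', hγ', hγ'o⟩ := hγbig.2 hNS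
    set w' : MulAut (dn θ N) := γ' * (x' : MulAut (dn θ N)) * γ'⁻¹ * (x' : MulAut (dn θ N))⁻¹ with hw'
    have hw'E : w' ∈ E'.autGroup (dn θ N) := by
      rw [hw', show γ' * (x' : MulAut (dn θ N)) * γ'⁻¹ * (x' : MulAut (dn θ N))⁻¹ =
        γ' * ((x' : MulAut (dn θ N)) * γ'⁻¹ * (x' : MulAut (dn θ N))⁻¹) by group]
      exact mul_mem hγ' (conj_mem_autGroup_of_invariant h.inv hNfam.2.2.1 x'.2 (inv_mem hγ'))
    set w : St := γ * x₁ * γ⁻¹ * x₁⁻¹ with hw
    have hwo : Over θ (w : MulAut N) w' := by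
      rw [hw, hw']
      simp only [Subgroup.coe_mul, Subgroup.coe_inv]
      exact Over.trans (Over.trans (Over.symm hx' hNS) (Over.trans (Over.symm hγ'o hNS)
        (Over.trans hx' hγ'o hNS) hNS) hNS) (over_refl θ N _) hNS
    have hwres : res w = (g₁ : MulAut R) * conjAut R s hs * (g₁ : MulAut R)⁻¹ *
        (conjAut R s hs)⁻¹ := by
      rw [hw, map_mul, map_mul, map_mul, map_inv, map_inv, hx₁res]
      have hc := h.disp_comm hRS hγres ha
      conv_lhs => rw [show res γ = (g₁ : MulAut R) * ((g₁ : MulAut R)⁻¹ * res γ) by group,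
        mul_assoc (g₁ : MulAut R) _ (conjAut R s hs), hc]
      group
    set d : MulAut R := (g₁ : MulAut R) * conjAut R s hs * (g₁ : MulAut R)⁻¹ * (conjAut R s hs)⁻¹
      with hd
    have hdd : d ∈ disp C Z R := mul_mem (h.disp_conj hRS (g₁ : B).2.1 ha) (Subgroup.inv_mem _ ha)
    -- `w'` is conjugation by an element of the centre of the image of `R`
    obtain ⟨z', hz'R, hz'c, hz'⟩ := eq_comp_conj_of_eq_on_centric h.pU' h.satE hR.2.2 hR'N
      (subtype_mem E' hNfam.2.2.1) ((mem_autGroup_iff_hom hNfam.2.2.1).1 hw'E) (fun y hy => by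
        obtain ⟨y, hy'⟩ := y
        obtain ⟨v, hv, hvR, rfl⟩ := h.dn_mem hy
        have h9 := hwo ⟨v, hRN hvR⟩ hv (hNS ((w : MulAut N) _).2) hy'
        show θ ⟨v, hv⟩ = ((w' ⟨_, hy'⟩ : dn θ N) : Ω')
        rw [h9]
        have hdv := hdd.2 ⟨v, hvR⟩
        rw [← hwres] at hdv
        rw [← inv_mul_eq_one, ← map_inv, ← map_mul]
        exact (h.ker _).2 hdv)
    obtain ⟨z, hzS, hzR, hzz⟩ := h.dn_mem hz'R
    have hzn : z ∈ Subgroup.normalizer (N : Set Ω) := Subgroup.le_normalizer (hRN hzR)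
    have hzSt : conjAut N z hzn ∈ St := fun v =>
      (Subgroup.mem_normalizer_iff.1 (Subgroup.le_normalizer hzR) v).symm
    set y : St := (⟨_, hzSt⟩ : St)⁻¹ * w with hy
    have hwC : (w : MulAut N) ∈ C.autGroup N := by
      rw [hw]
      simp only [Subgroup.coe_mul, Subgroup.coe_inv]
      exact mul_mem (mul_mem (mul_mem hγbig.1 hxC) (inv_mem hγbig.1)) (inv_mem hxC)
    have hzC : conjAut N z hzn ∈ C.autGroup N :=
      autInducedBy_le_autGroup C hNS (conjAut_mem_autInducedBy hzS hzn)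
    have hzo : Over θ (conjAut N z hzn) w' := by
      intro v hv hcv hm
      refine (hz' ⟨_, hm⟩).trans ?_
      show (z' : Ω') * θ ⟨v, hv⟩ * (z' : Ω')⁻¹ = θ ⟨z * v * z⁻¹, hcv⟩
      rw [← hzz, ← map_inv, ← map_mul, ← map_mul]
      rfl
    have hyd : (y : MulAut N) ∈ disp C Z N := h.disp_of_over_aut hNS hzC hwC hzo hwo
    have hzres : res ⟨_, hzSt⟩ ∈ Cfsg.Inn R := by
      rw [inn_eq_autInducedBy, mem_autInducedBy_iff]
      exact ⟨z, hzR, fun _ => rfl⟩
    have hdy : d * (res y)⁻¹ ∈ Cfsg.Inn R := by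
      rw [show res y = (res ⟨_, hzSt⟩)⁻¹ * res w by rw [← map_inv, ← map_mul], ← hwres,
        mul_inv_rev, inv_inv, ← mul_assoc, mul_inv_cancel, one_mul]
      exact hzres
    -- `γ` centralizes `y` modulo inner automorphisms of `N`
    have hyN := ihN _ hγbig _ hyd
    have hgy : (g₁ : MulAut R) * res y * (g₁ : MulAut R)⁻¹ * (res y)⁻¹ ∈ Cfsg.Inn R := by
      refine h.aut_inf_disp hR ⟨?_, mul_mem (h.disp_conj hRS (g₁ : B).2.1 (hdres y hyd))
        (Subgroup.inv_mem _ (hdres y hyd))⟩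
      have h10 : (g₁ : MulAut R) * res y * (g₁ : MulAut R)⁻¹ = res (γ * y * γ⁻¹) := by
        rw [map_mul res (γ * y) γ⁻¹, map_mul res γ y, map_inv res γ]
        have hc := h.disp_comm hRS hγres (hdres y hyd)
        conv_rhs => rw [show res γ = (g₁ : MulAut R) * ((g₁ : MulAut R)⁻¹ * res γ) by group,
          mul_assoc (g₁ : MulAut R) _ (res y), hc]
        group
      rw [h10, ← map_inv, ← map_mul]
      rw [inn_eq_autInducedBy, mem_autInducedBy_iff] at hyN
      obtain ⟨m', hm'N, hm'x⟩ := hyN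
      show _ ∈ autInducedBy U R
      rw [mem_autInducedBy_iff]
      exact ⟨m', hNU hm'N, fun v => hm'x ⟨v, hRN v.2⟩⟩
    refine commutator_mem_of_coprime (Cfsg.Inn R) _ _ hg₁o ?_ ?_
    · obtain ⟨i, hi⟩ := h.disp_isPGroup hRS ⟨d, hdd⟩
      exact ⟨i, congrArg Subtype.val hi⟩
    · set i₀ := d * (res y)⁻¹ with hi₀
      have hde : d = i₀ * res y := by rw [hi₀]; group
      rw [← hd, hde]
      rw [show (g₁ : MulAut R) * (i₀ * res y) * (g₁ : MulAut R)⁻¹ * (i₀ * res y)⁻¹ =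
        ((g₁ : MulAut R) * i₀ * (g₁ : MulAut R)⁻¹) *
          ((g₁ : MulAut R) * res y * (g₁ : MulAut R)⁻¹ * (res y)⁻¹) * i₀⁻¹ by group]
      exact mul_mem (mul_mem (hinn.conj_mem _ hdy _) hgy) (inv_mem hdy)

end LSetting

end CfsgLib.Fusion.CentralLift
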