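import Cfsg.Agent.Lib.Fusion.CentralLift.Relative

/-!
The displacements in the lifted automizers are inner.
-/

set_option autoImplicit false
open Cfsg Cfsg.FusionSystem CfsgLib.Fusion CfsgLib.FusionQuot

namespace CfsgLib.Fusion.CentralLift

variable {Ω Ω' : Type*} [Group Ω] [Group Ω'] {S Z : Subgroup Ω} {C : Cfsg.FusionSystem S}
  {S' U' : Subgroup Ω'} {θ : S →* Ω'} {C' : Cfsg.FusionSystem S'} {E' : Cfsg.FusionSystem U'}
  {p : ℕ}

/-- An isomorphism of the lift extending to the normalizer in the preimage. -/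
def NormExt (C : Cfsg.FusionSystem S) (Z : Subgroup Ω) (θ : S →* Ω') (E' : Cfsg.FusionSystem U')
    (p : ℕ) {P R : Subgroup Ω} (h₀ : P ≃* R) : Prop :=
  LiftIso C Z θ E' p h₀ ∧ ∃ (W : Subgroup Ω) (ψ : normalizerIn (up θ U') P ≃* W),
    LiftIso C Z θ E' p ψ ∧ W ≤ normalizerIn (up θ U') R ∧
      ∀ (x : P) (hx : (x : Ω) ∈ normalizerIn (up θ U') P), (ψ ⟨x, hx⟩ : Ω) = h₀ x

namespace LSetting

variable (h : LSetting C Z θ C' E' p)
include h

theorem finite_le_up [Finite S] {P : Subgroup Ω} (hP : P ≤ up θ U') : Finite P :=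
  finite_of_le (hP.trans (preimageAlong_le U'))

/-- An isomorphism in the normalizer of `R` fixing `R` induces a generator on `R`. -/
theorem claimI [Finite S] [Fact p.Prime] {R : Subgroup Ω} (hR : Fam Z θ E' R)
    (hRn : E'.IsFullyNormalized (dn θ R))
    (hbig : ∀ X : Subgroup Ω, Fam Z θ E' X → Nat.card R < Nat.card X → Good C Z θ E' p X)
    {M₁ M₂ : Subgroup Ω} (hlt : R < M₁) (hM₁ : M₁ ≤ normalizerIn (up θ U') R)
    {κ : M₁ ≃* M₂} (hκ : LiftIso C Z θ E' p κ)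
    (hκR : ∀ x : M₁, (x : Ω) ∈ R → (κ x : Ω) ∈ R) :
    ∃ g ∈ gens C θ E' p R, ∀ x : R, (κ ⟨x, hlt.le x.2⟩ : Ω) = (g x : R) := by
  have hRM := hlt.le
  have hFR := h.finite_le_up (h.fam_le hR)
  have hM₁U : M₁ ≤ up θ U' := hM₁.trans (normalizerIn_le _ _)
  have hFM := h.finite_le_up hM₁U
  have hM₁S : M₁ ≤ S := hM₁U.trans (preimageAlong_le U')
  have hZM : Z ≤ M₁ := hR.1.trans hRM
  have hiso := h.liftIso_isFIso hκ
  -- `κ` carries `R` onto `R`
  have honto : ∀ r : R, ∃ x : R, (κ ⟨x, hRM x.2⟩ : Ω) = r := by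
    let r₀ : R → R := fun x => ⟨_, hκR ⟨x, hRM x.2⟩ x.2⟩
    have hinj : Function.Injective r₀ := fun a b hab =>
      Subgroup.inclusion_injective hRM (κ.injective (Subtype.ext (congrArg Subtype.val hab :)))
    exact fun r => ((Finite.injective_iff_surjective.1 hinj) r).imp fun x hx =>
      congrArg Subtype.val hx
  obtain ⟨κ', hκ', hko⟩ := h.liftIso_over hκ hZM
  have hM₂S : M₂ ≤ S := hiso.le_right
  have hM₂U : M₂ ≤ up θ U' := (h.liftIso_le hκ).2
  have hM₂n : M₂ ≤ normalizerIn (up θ U') R := fun w hw => by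
    refine ⟨hM₂U hw, ?_⟩
    obtain ⟨m, hm⟩ := κ.surjective ⟨w, hw⟩
    have hconj : ∀ (m : M₁) (r : R), (κ m : Ω) * r * (κ m : Ω)⁻¹ ∈ R := fun m r => by
      obtain ⟨x, hx⟩ := honto r
      rw [← hx]
      have := hκR (m * ⟨x, hRM x.2⟩ * m⁻¹) (conj_mem_of_mem_normalizer (hM₁ m.2).2 x.2)
      rwa [map_mul, map_mul, map_inv] at this
    refine Subgroup.mem_normalizer_iff.2 fun z => ⟨fun hz => ?_, fun hz => ?_⟩
    · have := hconj m ⟨z, hz⟩
      rwa [hm] at this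
    · have := hconj m⁻¹ ⟨_, hz⟩
      rw [map_inv, hm] at this
      simpa [mul_assoc] using this
  -- the image is a map of the normalizer system
  have hM₁' : dn θ M₁ ≤ normalizerIn U' (dn θ R) := by
    refine (imageAlong_mono hM₁).trans ?_
    rw [h.normalizerIn_up hR.2.1 hR.1]
    exact (h.dn_up ((normalizerIn_le _ _).trans h.U'_le)).le
  have hM₂' : dn θ M₂ ≤ normalizerIn U' (dn θ R) := by
    refine (imageAlong_mono hM₂n).trans ?_
    rw [h.normalizerIn_up hR.2.1 hR.1]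
    exact (h.dn_up ((normalizerIn_le _ _).trans h.U'_le)).le
  have hR'M : dn θ R ≤ dn θ M₁ := imageAlong_mono hRM
  have hmem : (dn θ M₂).subtype.comp κ'.toMonoidHom ∈
      (normalizerSystem E' (dn θ R) hR.2.2.1).Hom (dn θ M₁) := by
    refine ⟨hκ', hM₁', fun x => hM₂' (κ' x).2, _, restrict_mem hκ' (sup_le le_rfl hR'M),
      fun x => rfl, ?_⟩
    ext y
    rw [mem_map_subgroupOf]
    constructor
    · rintro ⟨x, hx, hxR, rfl⟩
      obtain ⟨v, hv, hvR, rfl⟩ := h.dn_mem hxR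
      show ((κ' ⟨_, _⟩ : dn θ M₂) : Ω') ∈ dn θ R
      rw [hko ⟨v, hRM hvR⟩ hv (hM₂S (κ _).2) (sup_le le_rfl hR'M hx)]
      exact apply_mem_imageAlong _ (hκR ⟨v, hRM hvR⟩ hvR)
    · intro hy
      obtain ⟨r, hr, hrR, rfl⟩ := h.dn_mem hy
      obtain ⟨x, hx⟩ := honto ⟨r, hrR⟩
      have hxm : θ ⟨(x : Ω), hR.2.1 x.2⟩ ∈ dn θ R := apply_mem_imageAlong _ x.2
      refine ⟨_, le_sup_right (a := dn θ M₁) hxm, hxm, ?_⟩
      refine (hko ⟨x, hRM x.2⟩ (hR.2.1 x.2) (hM₂S (κ _).2) (hR'M hxm)).trans ?_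
      exact congrArg θ (Subtype.ext hx)
  obtain ⟨-, W, e, he, hex, g, hg, hge⟩ := h.le_relSystem hR hRn hbig _ hmem
  -- compare the lift with `κ`
  have hpre : up θ (dn θ M₁) ⊔ R = M₁ := by
    rw [h.up_dn hM₁S hZM]; exact sup_eq_left.2 hRM
  have hW : W = M₂ := by
    have hZM₂ : Z ≤ M₂ := h.Z_le_of_iso hZM hiso
    have hWS : W ≤ S := (h.liftIso_le he).2.trans (preimageAlong_le U')
    have hFW : Finite W := finite_of_le hWS
    have hFM₂ : Finite M₂ := finite_of_le hM₂S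
    refine Subgroup.eq_of_le_of_card_ge (fun w hw => ?_) ?_
    · obtain ⟨⟨x, hx⟩, hxw⟩ := e.surjective ⟨w, hw⟩
      have hxM : x ∈ M₁ := hpre.le hx
      have hm : θ ⟨x, hM₁S hxM⟩ ∈ dn θ M₁ := apply_mem_imageAlong _ hxM
      have h1 := hex ⟨x, mem_preimageAlong.2 ⟨hM₁S hxM, hm⟩⟩ (hM₁S hxM) hm (hWS (e _).2)
      have h2 : (⟨(e (Subgroup.inclusion le_sup_left ⟨x, mem_preimageAlong.2 ⟨hM₁S hxM, hm⟩⟩) : Ω),
          hWS (e _).2⟩ : S) = ⟨w, hWS hw⟩ := Subtype.ext (congrArg Subtype.val hxw :)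
      rw [h2] at h1
      refine (h.mem_dn_iff hM₂S hZM₂ (hWS hw)).1 ?_
      rw [← h1]
      exact (κ' _).2
    · rw [← Nat.card_congr κ.toEquiv, ← Nat.card_congr e.toEquiv, hpre]
  subst hW
  set e₁ : M₁ ≃* W := (MulEquiv.subgroupCongr hpre.symm).trans e with he₁
  have he₁L : LiftIso C Z θ E' p e₁ := he.restrict hpre.ge _ fun x => rfl
  have ho₁ : Over θ e₁ κ' := by
    intro x hx hy hm
    exact hex ⟨(x : Ω), mem_preimageAlong.2 ⟨hx, hm⟩⟩ hx hm hy
  set a : MulAut M₁ := e₁.trans κ.symm with ha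
  have haL : LiftIso C Z θ E' p (a : M₁ ≃* M₁) := he₁L.trans hκ.symm
  have had : a ∈ disp C Z M₁ := by
    have ho : Over θ a (κ'.trans κ'.symm) := Over.trans ho₁ (Over.symm hko hM₁S) hM₂S
    rw [MulEquiv.self_trans_symm] at ho
    have := h.disp_of_over_aut hM₁S (one_mem _) ((mem_autGroup_iff hM₁S).2 (h.liftIso_isFIso haL))
      (c' := 1) (over_refl θ M₁ _) ho
    rwa [inv_one, one_mul] at this
  have hFam : Fam Z θ E' M₁ := h.fam_of_le hR hRM hM₁U
  have hcard : Nat.card R < Nat.card M₁ := lt_of_not_ge fun hge =>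
    hlt.ne (Subgroup.eq_of_le_of_card_ge hRM hge)
  have hai := hbig M₁ hFam hcard a haL had
  rw [inn_eq_autInducedBy] at hai
  obtain ⟨m, hm, hmM, hae⟩ := exists_eq_conjAut hai
  have hmR : m ∈ Subgroup.normalizer (R : Set Ω) := (hM₁ hmM).2
  refine ⟨g * (conjAut R m hmR)⁻¹, Subgroup.mul_mem _ hg (Subgroup.inv_mem _
    (autInducedBy_le_gens R (conjAut_mem_autInducedBy (hM₁U hmM) hmR))), fun x => ?_⟩
  set y := (conjAut R m hmR)⁻¹ x with hy
  have h1 : (a ⟨y, hRM y.2⟩ : M₁) = ⟨x, hRM x.2⟩ := by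
    refine Subtype.ext ?_
    rw [hae]
    show m * (y : Ω) * m⁻¹ = x
    have h2 : ((conjAut R m hmR y : R) : Ω) = m * (y : Ω) * m⁻¹ := rfl
    rw [← h2, hy, MulAut.apply_inv_self]
  rw [← h1, ha, MulEquiv.trans_apply, MulEquiv.apply_symm_apply]
  show _ = ((g y : R) : Ω)
  rw [← hge y]
  rfl

/-- Every subgroup of a class reaches the fully normalized one by a map extending to normalizers. -/
theorem exists_normExt [Finite S] [Fact p.Prime] {P R : Subgroup Ω} (hP : Fam Z θ E' P)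
    (hR : Fam Z θ E' R) (hRn : E'.IsFullyNormalized (dn θ R))
    (hconj : E'.IsConj (dn θ P) (dn θ R)) : ∃ h₀ : P ≃* R, NormExt C Z θ E' p h₀ := by
  have := h.finU'
  obtain ⟨e', he', ψ', hψ', hval, hag⟩ := exists_normalizer_map h.pU' h.satE hRn hconj
  obtain ⟨-, W, f, hf, hfx⟩ := h.le_liftedSystem _ hψ'
  have hN : normalizerIn (up θ U') P = up θ (normalizerIn U' (dn θ P)) :=
    h.normalizerIn_up hP.2.1 hP.1
  have hPN : P ≤ up θ (normalizerIn U' (dn θ P)) := (le_normalizerIn (h.fam_le hP)).trans hN.le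
  obtain ⟨Y, f₀, -, hf₀, hf₀x⟩ := hf.exists_restrict hPN
  have hWU := (h.liftIso_le hf).2
  have hWS : W ≤ S := hWU.trans (preimageAlong_le U')
  have himg : ∀ (x : P), ∃ hy : (f₀ x : Ω) ∈ S,
      θ ⟨(f₀ x : Ω), hy⟩ = ((e' ⟨_, apply_mem_imageAlong (hP.2.1 x.2) x.2⟩ : dn θ R) : Ω') := by
    intro x
    have hy : (f₀ x : Ω) ∈ S := by rw [hf₀x]; exact hWS (f _).2
    have hm : θ ⟨(x : Ω), hP.2.1 x.2⟩ ∈ normalizerIn U' (dn θ P) :=
      (mem_preimageAlong.1 (hPN x.2)).2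
    refine ⟨hy, ?_⟩
    rw [← hag ⟨_, apply_mem_imageAlong (hP.2.1 x.2) x.2⟩]
    refine Eq.trans ?_ (hfx ⟨x, hPN x.2⟩ (hP.2.1 x.2) hm (hWS (f _).2)).symm
    exact congrArg θ (Subtype.ext (hf₀x x))
  have hY : Y = R := by
    have hFR := h.finite_le_up (h.fam_le hR)
    refine Subgroup.eq_of_le_of_card_ge (fun y hy => ?_) ?_
    · obtain ⟨x, hx⟩ := f₀.surjective ⟨y, hy⟩
      obtain ⟨hyS, h1⟩ := himg x
      have hyS' : y ∈ S := (show (f₀ x : Ω) = y from congrArg Subtype.val hx) ▸ hyS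
      refine (h.mem_dn_iff hR.2.1 hR.1 hyS').1 ?_
      have h2 : (⟨(f₀ x : Ω), hyS⟩ : S) = ⟨y, hyS'⟩ := Subtype.ext (congrArg Subtype.val hx :)
      rw [← h2, h1]
      exact (e' _).2
    · rw [← Nat.card_congr f₀.toEquiv, h.card_eq hP.2.1 hP.1, h.card_eq hR.2.1 hR.1,
        Nat.card_congr e'.toEquiv]
  subst hY
  refine ⟨f₀, hf₀, W, (MulEquiv.subgroupCongr hN).trans f, hf.restrict hN.le _ (fun x => rfl),
    fun w hw => ?_, fun x hx => (hf₀x x).symm⟩
  rw [h.normalizerIn_up hR.2.1 hR.1]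
  obtain ⟨⟨x, hx⟩, hxw⟩ := f.surjective ⟨w, hw⟩
  obtain ⟨hxS, hxN⟩ := mem_preimageAlong.1 hx
  refine mem_preimageAlong.2 ⟨hWS hw, ?_⟩
  have h1 := hfx ⟨x, hx⟩ hxS hxN (hWS (f _).2)
  have h2 : (⟨(f ⟨x, hx⟩ : Ω), hWS (f _).2⟩ : S) = ⟨w, hWS hw⟩ :=
    Subtype.ext (congrArg Subtype.val hxw :)
  rw [← h2, ← h1]
  exact hval _

/-- A map extending above `P` gives a generator between two normalized positions. -/
theorem cross [Finite S] [Fact p.Prime] {R P Q M M' : Subgroup Ω} (hR : Fam Z θ E' R)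
    (hRn : E'.IsFullyNormalized (dn θ R))
    (hbig : ∀ X : Subgroup Ω, Fam Z θ E' X → Nat.card R < Nat.card X → Good C Z θ E' p X)
    {h₁ : P ≃* R} (hh₁ : NormExt C Z θ E' p h₁) {h₂ : Q ≃* R} (hh₂ : NormExt C Z θ E' p h₂)
    {e : P ≃* Q} {f : M ≃* M'} (hf : LiftIso C Z θ E' p f) (hlt : P < M)
    (hM : M ≤ normalizerIn (up θ U') P) (hfe : ∀ x : P, (f ⟨x, hlt.le x.2⟩ : Ω) = e x) :
    ((h₁.symm.trans e).trans h₂ : MulAut R) ∈ gens C θ E' p R := by
  obtain ⟨-, W₁, ψ₁, hψ₁, hW₁, hψ₁x⟩ := hh₁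
  obtain ⟨-, W₂, ψ₂, hψ₂, hW₂, hψ₂x⟩ := hh₂
  have hPM := hlt.le
  obtain ⟨M₁, k₁, hM₁, hk₁, hk₁x⟩ := hψ₁.exists_restrict hM
  have hfPQ : ∀ q : Q, (f ⟨e.symm q, hPM (e.symm q).2⟩ : Ω) = q := fun q => by
    rw [hfe, MulEquiv.apply_symm_apply]
  have hM'N : M' ≤ normalizerIn (up θ U') Q := fun w hw => by
    refine ⟨(h.liftIso_le hf).2 hw, ?_⟩
    obtain ⟨m, hm⟩ := f.surjective ⟨w, hw⟩
    have hconj : ∀ (m : M) (q : Q), (f m : Ω) * q * (f m : Ω)⁻¹ ∈ Q := fun m q => by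
      have hc : (m : Ω) * (e.symm q : Ω) * (m : Ω)⁻¹ ∈ P :=
        conj_mem_of_mem_normalizer (hM m.2).2 (e.symm q).2
      have h1 := hfe ⟨_, hc⟩
      rw [show (⟨((⟨_, hc⟩ : P) : Ω), hPM hc⟩ : M) = m * ⟨e.symm q, hPM (e.symm q).2⟩ * m⁻¹ from
        Subtype.ext rfl, map_mul, map_mul, map_inv, Subgroup.coe_mul, Subgroup.coe_mul,
        Subgroup.coe_inv, hfPQ] at h1
      rw [h1]
      exact (e _).2
    refine Subgroup.mem_normalizer_iff.2 fun z => ⟨fun hz => ?_, fun hz => ?_⟩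
    · have := hconj m ⟨z, hz⟩
      rwa [hm] at this
    · have := hconj m⁻¹ ⟨_, hz⟩
      rw [map_inv, hm] at this
      simpa [mul_assoc] using this
  obtain ⟨M₂, k₂, -, hk₂, hk₂x⟩ := hψ₂.exists_restrict hM'N
  set κ := (k₁.symm.trans f).trans k₂ with hκ
  have hκL : LiftIso C Z θ E' p κ := (hk₁.symm.trans hf).trans hk₂
  -- `κ` on the elements of `R`
  have hr : ∀ r : R, ∃ hm : (r : Ω) ∈ M₁, (κ ⟨r, hm⟩ : Ω) = h₂ (e (h₁.symm r)) := by
    intro r
    have hxM : (h₁.symm r : Ω) ∈ M := hPM (h₁.symm r).2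
    have h1 : (k₁ ⟨_, hxM⟩ : Ω) = r := by
      rw [hk₁x, hψ₁x, MulEquiv.apply_symm_apply]
    refine ⟨h1 ▸ (k₁ _).2, ?_⟩
    have h2 : k₁.symm ⟨(r : Ω), h1 ▸ (k₁ _).2⟩ = ⟨_, hxM⟩ := by
      rw [MulEquiv.symm_apply_eq]
      exact Subtype.ext h1.symm
    rw [hκ, MulEquiv.trans_apply, MulEquiv.trans_apply, h2, hk₂x]
    have h3 := hfe (h₁.symm r)
    have h4 : (⟨(f ⟨_, hxM⟩ : Ω), hM'N (f _).2⟩ : normalizerIn (up θ U') Q) =
        ⟨(e (h₁.symm r) : Ω), h3 ▸ hM'N (f _).2⟩ := Subtype.ext h3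
    rw [h4]
    exact hψ₂x _ _
  have hRM₁ : R ≤ M₁ := fun r hr' => (hr ⟨r, hr'⟩).1
  have hM₁N : M₁ ≤ normalizerIn (up θ U') R := hM₁.trans hW₁
  have hFM := h.finite_le_up (hM.trans (normalizerIn_le _ _))
  have hlt₁ : R < M₁ := lt_of_le_of_ne hRM₁ fun heq => by
    have h5 : Nat.card M ≤ Nat.card P := by
      rw [Nat.card_congr k₁.toEquiv, ← heq, Nat.card_congr h₁.toEquiv]
    exact hlt.ne (Subgroup.eq_of_le_of_card_ge hPM h5)
  obtain ⟨g, hg, hgx⟩ := h.claimI hR hRn hbig hlt₁ hM₁N hκL fun x hx => by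
    obtain ⟨_, h6⟩ := hr ⟨(x : Ω), hx⟩
    exact h6.symm ▸ (h₂ _).2
  have h7 : ((h₁.symm.trans e).trans h₂ : MulAut R) = g := MulEquiv.ext fun r => Subtype.ext (by
    obtain ⟨_, h6⟩ := hr r
    rw [← hgx r]
    exact h6.symm)
  rw [h7]
  exact hg

theorem normExt_top [Finite S] {P Q : Subgroup Ω} {e : P ≃* Q} (he : LiftIso C Z θ E' p e) :
    Nat.card (up θ U') ≤ Nat.card P → ∃ g ∈ gens C θ E' p (up θ U'),
      ∀ (x : P) (hx : (x : Ω) ∈ up θ U'), (e x : Ω) = (g ⟨x, hx⟩ : up θ U') := by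
  induction he with
  | @aut R P Q hR hPR g hg e hx =>
    intro hc
    have hFU := h.finite_le_up (P := up θ U') le_rfl
    have hPU := hPR.trans (h.fam_le hR)
    have hP : P = up θ U' := Subgroup.eq_of_le_of_card_ge hPU hc
    have hReq : R = up θ U' := le_antisymm (h.fam_le hR) (hP.ge.trans hPR)
    subst hReq
    exact ⟨g, hg, fun x _ => hx x⟩
  | @trans P Q R e f he hf ihe ihf =>
    intro hc
    obtain ⟨g, hg, hgx⟩ := ihe hc
    obtain ⟨k, hk, hkx⟩ := ihf (hc.trans (Nat.card_congr e.toEquiv).le)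
    refine ⟨k * g, Subgroup.mul_mem _ hk hg, fun x hx => ?_⟩
    show (f (e x) : Ω) = (k (g ⟨x, hx⟩) : up θ U')
    rw [hkx (e x) ((h.liftIso_le he).2 (e x).2)]
    exact congrArg (fun z : up θ U' => ((k z : up θ U') : Ω)) (Subtype.ext (hgx x hx))

/-- Along a class, the lift stays in the generated automizer of the fully normalized member. -/
theorem chain [Finite S] [Fact p.Prime] {R : Subgroup Ω} (hR : Fam Z θ E' R)
    (hRn : E'.IsFullyNormalized (dn θ R))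
    (hbig : ∀ X : Subgroup Ω, Fam Z θ E' X → Nat.card R < Nat.card X → Good C Z θ E' p X)
    (hRU : Nat.card R < Nat.card (up θ U')) {P Q : Subgroup Ω} {e : P ≃* Q}
    (he : LiftIso C Z θ E' p e) :
    Fam Z θ E' P → E'.IsConj (dn θ P) (dn θ R) → ∀ (h₁ : P ≃* R), NormExt C Z θ E' p h₁ →
      ∀ (h₂ : Q ≃* R), NormExt C Z θ E' p h₂ →
      ((h₁.symm.trans e).trans h₂ : MulAut R) ∈ gens C θ E' p R := by
  induction he with
  | @aut X P Q hX hPX g hg e hx =>
    intro hP hconj h₁ hh₁ h₂ hh₂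
    have hXU := h.fam_le hX
    have hFX := h.finite_le_up hXU
    have hFQ := h.finite_le_up (hh₂.1 |> fun h2 => (h.liftIso_le h2).1)
    rcases eq_or_lt_of_le hPX with rfl | hlt
    · have hQP : Q = P := Subgroup.eq_of_le_of_card_ge (fun y hy => by
        have h1 := hx (e.symm ⟨y, hy⟩)
        rw [MulEquiv.apply_symm_apply] at h1
        exact (show y = _ from h1) ▸ (g _).2) (Nat.card_congr e.toEquiv).le
      subst hQP
      have hFU := h.finite_le_up (P := up θ U') le_rfl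
      obtain ⟨W, ψ, hψ, hW, hψx⟩ := hh₂.2
      have hPU : Q ≤ up θ U' := h.fam_le hP
      have hPlt : Q < up θ U' := lt_of_le_of_ne hPU fun heq => by
        rw [← Nat.card_congr h₁.toEquiv, heq] at hRU
        exact lt_irrefl _ hRU
      have hdiff : ((h₁.symm.trans (MulEquiv.refl Q)).trans h₂ : MulAut R) ∈ gens C θ E' p R :=
        h.cross hR hRn hbig hh₁ hh₂
          (h.liftIso_one (normalizerIn_le (up θ U') Q))
          (lt_normalizerIn (h.pGroup.to_le (preimageAlong_le U')) hPlt) le_rfl fun x => rfl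
      have hconjg : MulAut.congr h₂ g ∈ gens C θ E' p R :=
        h.gens_transport hP (h.liftIso_isFIso hh₂.1) (fun a ha =>
          h.congr_autInducedBy_of_extends (h.liftIso_isFIso hψ) (le_normalizerIn hPU) le_rfl
            (fun x => hψx x _) ha) hg
      have heq : ((h₁.symm.trans e).trans h₂ : MulAut R) =
          MulAut.congr h₂ g * ((h₁.symm.trans (MulEquiv.refl Q)).trans h₂ : MulAut R) := by
        refine MulEquiv.ext fun r => ?_
        show h₂ (e (h₁.symm r)) = h₂ (g (h₂.symm (h₂ (h₁.symm r))))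
        rw [MulEquiv.symm_apply_apply]
        exact congrArg h₂ (Subtype.ext (hx _))
      rw [heq]
      exact Subgroup.mul_mem _ hconjg hdiff
    · have hM : P < normalizerIn X P :=
        lt_normalizerIn (h.pGroup.to_le (hXU.trans (preimageAlong_le U'))) hlt
      obtain ⟨M', f, -, hf, hfx⟩ :=
        (LiftIso.aut hX le_rfl g hg g fun _ => rfl).exists_restrict (W := normalizerIn X P)
          (normalizerIn_le X P)
      exact h.cross hR hRn hbig hh₁ hh₂ hf hM (inf_le_inf_right _ hXU) fun x =>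
        (hfx _).trans (hx x).symm
  | @trans P Q W e f he hf ihe ihf =>
    intro hP hconj h₁ hh₁ h₂ hh₂
    obtain ⟨e', he', -⟩ := h.liftIso_over he hP.1
    have hQ : Fam Z θ E' Q := h.fam_transport hP (h.liftIso_isFIso he)
    have hQc : E'.IsConj (dn θ Q) (dn θ R) := isConj_trans (isConj_symm he'.isConj) hconj
    obtain ⟨h₃, hh₃⟩ := h.exists_normExt hQ hR hRn hQc
    have h1 := Subgroup.mul_mem _ (ihf hQ hQc h₃ hh₃ h₂ hh₂) (ihe hP hconj h₁ hh₁ h₃ hh₃)
    have heq : ((h₁.symm.trans (e.trans f)).trans h₂ : MulAut R) =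
        ((h₃.symm.trans f).trans h₂ : MulAut R) * ((h₁.symm.trans e).trans h₃ : MulAut R) :=
      MulEquiv.ext fun r => by
        show h₂ (f (e (h₁.symm r))) = h₂ (f (h₃.symm (h₃ (e (h₁.symm r)))))
        rw [MulEquiv.symm_apply_apply]
    rw [heq]
    exact h1

/-- **The lift meets the displacements in inner automorphisms.** -/
theorem good [Finite S] [Fact p.Prime] {P : Subgroup Ω} (hP : Fam Z θ E' P) :
    Good C Z θ E' p P := by
  suffices key : ∀ (n : ℕ) (P : Subgroup Ω), Fam Z θ E' P →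
      Nat.card (up θ U') ≤ Nat.card P + n → Good C Z θ E' p P from
    key _ P hP (Nat.le_add_left _ _)
  intro n
  induction n using Nat.strong_induction_on with
  | _ n ih =>
  intro P hP hn a ha had
  have hPU := h.fam_le hP
  have hFU := h.finite_le_up (P := up θ U') le_rfl
  have hFP := h.finite_le_up hPU
  rcases eq_or_lt_of_le hPU with rfl | hlt
  · obtain ⟨g, hg, hgx⟩ := h.normExt_top ha le_rfl
    have hag : a = g := MulEquiv.ext fun x => Subtype.ext (hgx x x.2)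
    subst hag
    exact h.gens_inf_disp hP ⟨hg, had⟩
  · have := h.finU'
    obtain ⟨R', hPR', hR'n⟩ := exists_isFullyNormalized E' hP.2.2.1
    have hR'c : E'.IsCentric R' := CentricExtend.centric_of_isConj hP.2.2 hPR'
    have hdn : dn θ (up θ R') = R' := h.dn_up (hR'c.1.trans h.U'_le)
    have hR : Fam Z θ E' (up θ R') :=
      ⟨h.Z_le_up R', preimageAlong_le R', by rw [hdn]; exact hR'c⟩
    have hRn : E'.IsFullyNormalized (dn θ (up θ R')) := by rw [hdn]; exact hR'n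
    have hconj : E'.IsConj (dn θ P) (dn θ (up θ R')) := by rw [hdn]; exact hPR'
    obtain ⟨h₀, hh₀⟩ := h.exists_normExt hP hR hRn hconj
    have hcard : Nat.card P = Nat.card (up θ R') := Nat.card_congr h₀.toEquiv
    have hltc : Nat.card P < Nat.card (up θ U') := lt_of_not_ge fun hge =>
      hlt.ne (Subgroup.eq_of_le_of_card_ge hPU hge)
    have hbig : ∀ X : Subgroup Ω, Fam Z θ E' X → Nat.card (up θ R') < Nat.card X →
        Good C Z θ E' p X := fun X hX hc => by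
      have hXle : Nat.card X ≤ Nat.card (up θ U') := Subgroup.card_le_of_le (h.fam_le hX)
      exact ih (Nat.card (up θ U') - Nat.card X) (by omega) X hX (by omega)
    have h1 := h.chain hR hRn hbig (hcard ▸ hltc) ha hP hconj h₀ hh₀ h₀ hh₀
    have h2 : ((h₀.symm.trans (a : P ≃* P)).trans h₀ : MulAut (up θ R')) = MulAut.congr h₀ a :=
      MulEquiv.ext fun r => rfl
    rw [h2] at h1
    have h3 := inn_transport h₀.symm
      (h.gens_inf_disp hR ⟨h1, h.disp_transport (h.liftIso_isFIso hh₀.1) had⟩)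
    have h4 : MulAut.congr h₀.symm (MulAut.congr h₀ a) = a :=
      MulEquiv.ext fun x => by simp
    rwa [h4] at h3

/-- Two lifts of one isomorphism differ by an inner automorphism. -/
theorem liftIso_unique [Finite S] [Fact p.Prime] {P Q : Subgroup Ω} (hP : Fam Z θ E' P)
    {e f : P ≃* Q} (he : LiftIso C Z θ E' p e) (hf : LiftIso C Z θ E' p f)
    {e' : (dn θ P) ≃* (dn θ Q)} (heo : Over θ e e') (hfo : Over θ f e') :
    ∃ u : P, ∀ x : P, f x = e (u * x * u⁻¹) := by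
  have hQS := (h.liftIso_isFIso he).le_right
  set a : MulAut P := f.trans e.symm with ha
  have haL : LiftIso C Z θ E' p (a : P ≃* P) := hf.trans he.symm
  have had : a ∈ disp C Z P := by
    have ho : Over θ a (e'.trans e'.symm) := Over.trans hfo (Over.symm heo hP.2.1) hQS
    rw [MulEquiv.self_trans_symm] at ho
    have := h.disp_of_over_aut hP.2.1 (one_mem _)
      ((mem_autGroup_iff hP.2.1).2 (h.liftIso_isFIso haL)) (c' := 1) (over_refl θ P _) ho
    rwa [inv_one, one_mul] at this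
  have h1 := h.good hP a haL had
  rw [inn_eq_autInducedBy] at h1
  obtain ⟨u, hu, huP, hau⟩ := exists_eq_conjAut h1
  refine ⟨⟨u, huP⟩, fun x => ?_⟩
  have h2 : a x = ⟨u, huP⟩ * x * ⟨u, huP⟩⁻¹ := by rw [hau]; exact Subtype.ext rfl
  rw [← h2, ha, MulEquiv.trans_apply, MulEquiv.apply_symm_apply]

end LSetting

end CfsgLib.Fusion.CentralLift
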