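import Cfsg.Agent.Lib.Fusion.CentralLift.Normal
import Cfsg.Agent.Lib.Fusion.CentralLift.CoreSystems
import Cfsg.Agent.Lib.Fusion.ResidualConstrained
import Cfsg.Agent.Lib.Fusion.TransportComp
import Cfsg.Agent.Lib.Transfer.Tate
import Cfsg.Agent.S5086
import Cfsg.Agent.S5256
import Cfsg.Agent.S5342

/-!
A saturated system is constrained exactly when it has no component.
-/

set_option autoImplicit false
open Cfsg Cfsg.FusionSystem CfsgLib.Fusion CfsgLib.FusionQuot

namespace CfsgLib.Fusion.Components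

variable {Ω : Type*} [Group Ω] {p : ℕ}

theorem subnormal_sub {T U : Subgroup Ω} {C : Cfsg.FusionSystem T} {D : Cfsg.FusionSystem U}
    (h : C.IsSubnormalIn D p) : C.IsSubsystemOf D := by
  induction h with
  | refl => exact fun _ => subset_rfl
  | step _ hn ih => exact fun P => (ih P).trans (hn.1.2.2.1 P)

theorem subnormal_trans {T U V : Subgroup Ω} {C : Cfsg.FusionSystem T} {D : Cfsg.FusionSystem U}
    {F : Cfsg.FusionSystem V} (h₁ : C.IsSubnormalIn D p) (h₂ : D.IsSubnormalIn F p) :
    C.IsSubnormalIn F p := by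
  induction h₂ with
  | refl => exact h₁
  | step _ hn ih => exact .step (ih h₁) hn

variable {S : Subgroup Ω} {F : Cfsg.FusionSystem S}

theorem stronglyClosed_center [Finite S] (F : Cfsg.FusionSystem S) : F.StronglyClosed F.center :=
  ⟨center_le F, fun _ hR φ hφ x => by rw [apply_eq_self_of_center hφ x (hR x.2)]; exact hR x.2⟩

theorem not_isConstrained_of_center_eq [Finite S] (h : ¬ F.IsConstrained p) (hF : F.IsSaturated p) :
    F.center ≠ S := by
  intro heq
  have hc := isCentral_center F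
  rw [heq] at hc
  refine h ⟨hF, S, ⟨le_rfl, fun P φ hφ => ?_⟩, isCentric_top F⟩
  obtain ⟨ψ, hψ, hag, hfix⟩ := hc.2 P φ hφ
  refine ⟨ψ, hψ, hag, ?_⟩
  ext y
  rw [mem_map_subgroupOf]
  constructor
  · rintro ⟨x, hx, hxS, rfl⟩
    exact map_mem hψ _
  · intro hy
    exact ⟨y, Subgroup.mem_sup_right hy, hy, hfix ⟨y, hy⟩⟩

/-- A simple factor system of a quasisimple system is never constrained. -/
theorem not_quasisimple_of_constrained [Finite S] [Fact p.Prime] (hS : IsPGroup p S)
    (hc : F.IsConstrained p) : ¬ F.Quasisimple p := by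
  rintro ⟨hsat, hhyp, hsimple⟩
  have hKsc := stronglyClosed_center F
  obtain ⟨E, hE⟩ := exists_factorSystem_quotient F F.center hKsc
  obtain ⟨hEs, hne, hsimp⟩ := hsimple E hE
  obtain ⟨-, Q, hQ, hQc⟩ := isConstrained_factor_center hS hc le_rfl hKsc hE
  have hS' : IsPGroup p (⊤ : Subgroup (S ⧸ (F.center).subgroupOf S)) :=
    isPGroup_of_isFactorSystem hS hE
  have : Finite (⊤ : Subgroup (S ⧸ (F.center).subgroupOf S)) := finite_of_isFactorSystem hE
  rcases hsimp Q _ (NormalPieces.inner_isNormalIn hS' hEs hQ) with hbot | ⟨htop, heq⟩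
  · refine hne (le_bot_iff.1 fun x hx => ?_)
    have h1 : x ∈ centralizerIn (⊤ : Subgroup (S ⧸ (F.center).subgroupOf S)) Q :=
      ⟨hx, Subgroup.mem_centralizer_iff.2 fun y hy => by
        rw [hbot] at hy
        rw [(Subgroup.mem_bot.1 hy), one_mul, mul_one]⟩
    have h2 := hQc.2 Q (isConj_refl E hQ.1) h1
    rwa [hbot] at h2
  · -- the factor system is inner, so its hyperfocal subgroup is trivial
    have hhypE : E.hyperfocalSubgroup p = ⊥ := by
      refine le_bot_iff.1 ((Subgroup.closure_le _).2 ?_)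
      rintro _ ⟨P, α, x, hP, hα, rfl⟩
      have hp : IsPGroup p (E.autGroup P) := by
        refine (isPGroup_autInducedBy hS' P).to_le fun β hβ => ?_
        have h1 := (mem_autGroup_iff_hom hP).1 hβ
        rw [← heq] at h1
        obtain ⟨-, g, hg, hv⟩ := h1
        exact mem_autInducedBy_iff.2 ⟨g, Subgroup.mem_top g, hv⟩
      have : Finite P := finite_of_le hP
      have : Finite (MulAut P) := finite_mulAut
      rw [CfsgLib.Transfer.pResidual_eq_bot_of_isPGroup hp, Subgroup.mem_bot] at hα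
      rw [hα]
      show (x : S ⧸ (F.center).subgroupOf S)⁻¹ * x ∈ (⊥ : Subgroup _)
      simp
    have h3 := Cfsg.Agent.S5256.result p hS F hsat F.center hKsc _ E hE
    rw [hhypE, hhyp, Subgroup.subgroupOf_self, ← MonoidHom.range_eq_map, hE.2.2.1] at h3
    exact hne h3.symm

theorem not_component_of_constrained [Finite S] [Fact p.Prime] (hS : IsPGroup p S)
    (hc : F.IsConstrained p) {T : Subgroup Ω} {C : Cfsg.FusionSystem T}
    (hC : C.IsSubnormalIn F p) : ¬ C.Quasisimple p := by
  have hT := Transport.subnormal_le hC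
  have : Finite T := finite_of_le hT
  exact not_quasisimple_of_constrained (hS.to_le hT) (Cfsg.Agent.S5342.result p hS F hc C hC)

/-- A system equal to `F` or a proper one. -/
theorem hom_eq_or_aut_lt [Finite S] {T : Subgroup Ω} {E : Cfsg.FusionSystem T}
    (hE : E.IsInvariantIn F) (hT : T = S) :
    (∀ P, E.Hom P = F.Hom P) ∨ Nat.card (E.autGroup T) < Nat.card (F.autGroup S) := by
  subst hT
  by_cases hle : F.autGroup T ≤ E.autGroup T
  · exact Or.inl (hom_eq_of_autGroup_top_le hE hle)
  · refine Or.inr (lt_of_not_ge fun hge => hle ?_)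
    have : Finite (MulAut T) := finite_mulAut
    exact (Subgroup.eq_of_le_of_card_ge (autGroup_le_of_subsystem hE.1 T) hge).ge

/-- The core of a system whose proper normal subsystems are constrained is central. -/
theorem core_le_center [Finite S] [Fact p.Prime] (hS : IsPGroup p S) (hF : F.IsSaturated p)
    (hnc : ¬ F.IsConstrained p)
    (hmin : ∀ (T : Subgroup Ω) (E : Cfsg.FusionSystem T), E.IsNormalIn F p →
      (Nat.card T < Nat.card S ∨ (T = S ∧ Nat.card (E.autGroup T) < Nat.card (F.autGroup S))) →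
      E.IsConstrained p) : F.core ≤ F.center := by
  have hK := isNormal_core F
  have hD := NormalPieces.centralizer_isNormalIn hS hF hK
  have hXS : centralizerIn S F.core ≤ S := centralizerIn_le S _
  have key : ¬ (centralizerSystem F F.core hK.1).IsConstrained p := by
    intro hc
    obtain ⟨R, hRX, hR, hRc⟩ := exists_normal_of_constrained_weaklyNormal hS hF hD.1 hc
    refine hnc ⟨hF, F.core, hK, hK.1, fun Q hQ => ?_⟩
    rw [eq_of_isConj_of_stronglyClosed (stronglyClosed_of_isNormal hK) hQ]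
    intro x hx
    have hRK := le_core F hR
    exact hRK (hRc ⟨hx, Subgroup.centralizer_le (SetLike.coe_subset_coe.2 hRK) hx.2⟩)
  rcases lt_or_ge (Nat.card (centralizerIn S F.core)) (Nat.card S) with hlt | hge
  · exact absurd (hmin _ _ hD (Or.inl hlt)) key
  have hXeq : centralizerIn S F.core = S := Subgroup.eq_of_le_of_card_ge hXS hge
  rcases hom_eq_or_aut_lt hD.1.2.2 hXeq with heq | hlt
  · refine le_center F ⟨hK.1, fun P φ hφ => ?_⟩
    rw [← heq P] at hφ
    obtain ⟨-, -, -, ψ, hψ, hag, hfix⟩ := hφ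
    exact ⟨ψ, hψ, hag, hfix⟩
  · exact absurd (hmin _ _ hD (Or.inr ⟨hXeq, hlt⟩)) key

/-- A minimal non-constrained system is quasisimple. -/
theorem quasisimple_of_minimal [Finite S] [Fact p.Prime] (hS : IsPGroup p S) (hF : F.IsSaturated p)
    (hnc : ¬ F.IsConstrained p)
    (hmin : ∀ (T : Subgroup Ω) (E : Cfsg.FusionSystem T), E.IsNormalIn F p →
      (Nat.card T < Nat.card S ∨ (T = S ∧ Nat.card (E.autGroup T) < Nat.card (F.autGroup S))) →
      E.IsConstrained p) : F.Quasisimple p := by
  -- the hyperfocal subgroup is everything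
  have hhS := hyperfocalSubgroup_le_S F p
  have hhn : ∀ s ∈ S, ∀ a ∈ F.hyperfocalSubgroup p, s * a * s⁻¹ ∈ F.hyperfocalSubgroup p :=
    fun s hs a ha => hyperfocalSubgroup_conj_mem F p hs ha
  have hhyp : F.hyperfocalSubgroup p = S := by
    refine le_antisymm hhS ?_
    by_contra hne
    obtain ⟨D, hDs, hDi, -⟩ := PPowerIndex.exists_pPowerIndex hS hF hhS le_rfl
    have hn : ((F.hyperfocalSubgroup p).subgroupOf S).Normal :=
      ⟨fun a ha s => hhn s s.2 a ha⟩
    have hlt : Nat.card (F.hyperfocalSubgroup p) < Nat.card S := lt_of_not_ge fun hge =>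
      hne (Subgroup.eq_of_le_of_card_ge hhS hge).ge
    exact hnc (isConstrained_of_pPowerIndex hS hF hhS le_rfl hhn D hDs hDi
      (hmin _ D (PPowerIndex.isNormalIn_of_pPowerIndex hS hF hhS hn le_rfl hDs hDi) (Or.inl hlt)))
  refine ⟨hF, hhyp, fun E hE => ?_⟩
  have hKsc := stronglyClosed_center F
  set Z := F.center with hZ
  set θ := QuotientGroup.mk' (Z.subgroupOf S) with hθ
  have hSet : CentralLift.Setting F Z θ E p := ⟨hS, hF, le_rfl, hE⟩
  have hEs := hSet.sat'
  have := hSet.finite'
  refine ⟨hEs, fun htop => ?_, fun U' E' hE' => ?_⟩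
  · refine not_isConstrained_of_center_eq hnc hF (le_antisymm (center_le F) fun x hx => ?_)
    refine (hSet.ker ⟨x, hx⟩).1 ?_
    have h1 : θ ⟨x, hx⟩ ∈ (⊤ : Subgroup (S ⧸ Z.subgroupOf S)) := Subgroup.mem_top _
    rwa [htop, Subgroup.mem_bot] at h1
  have h : CentralLift.LSetting F Z θ E E' p := ⟨hSet, hE'⟩
  have hK := h.isNormalIn_lift
  have hUS : CentralLift.up θ U' ≤ S := preimageAlong_le U'
  rcases lt_or_ge (Nat.card (CentralLift.up θ U')) (Nat.card S) with hlt | hge
  · left
    exact U'_eq_bot h (hmin _ _ hK (Or.inl hlt))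
  · have hU : CentralLift.up θ U' = S := Subgroup.eq_of_le_of_card_ge hUS hge
    rcases hom_eq_or_aut_lt hK.1.2.2 hU with heq | hlt
    · right
      have hU' : U' = ⊤ := by
        rw [← h.dn_up_U, hU, CentralLift.dn, imageAlong_self, hSet.range_eq]
      refine ⟨hU', fun P' => Set.Subset.antisymm (h.sub P') fun φ' hφ' => ?_⟩
      obtain ⟨θ₀, hθ₀, hfac⟩ := h.exists_factor_lift
      refine (hfac.2.2.2 P' φ').2 ⟨by rw [hU']; exact le_top, ?_⟩
      obtain ⟨-, φ, hφ, hPS, hφS, hm, hval⟩ := (hE.2.2.2 P' φ').1 hφ'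
      have hpre : preimageAlong θ₀ P' = preimageAlong θ P' := by
        ext x
        refine mem_preimageAlong.trans (Iff.trans ?_ mem_preimageAlong.symm)
        constructor
        · rintro ⟨hx, hx'⟩
          exact ⟨hUS hx, by rw [hθ₀] at hx'; exact hx'⟩
        · rintro ⟨hx, hx'⟩
          exact ⟨hU.ge hx, by rw [hθ₀]; exact hx'⟩
      rw [hpre]
      refine ⟨φ, (heq _).ge hφ, fun x hx => hU.ge (hPS hx), fun x => hU.ge (hφS x),
        fun x => by rw [hθ₀]; exact hm x, fun x => ?_⟩
      simp only [hθ₀]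
      exact hval x
    · left
      exact U'_eq_bot h (hmin _ _ hK (Or.inr ⟨hU, hlt⟩))
where
  U'_eq_bot {θ : S →* S ⧸ (F.center).subgroupOf S}
      {E : Cfsg.FusionSystem (⊤ : Subgroup (S ⧸ (F.center).subgroupOf S))}
      {U' : Subgroup (S ⧸ (F.center).subgroupOf S)} {E' : Cfsg.FusionSystem U'}
      (h : CentralLift.LSetting F F.center θ E E' p)
      (hc : (CentralLift.liftSystem h).IsConstrained p) : U' = ⊥ := by
    have := h.finite'
    have hUS : CentralLift.up θ U' ≤ S := preimageAlong_le U'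
    have : Finite (CentralLift.up θ U') := finite_of_le hUS
    obtain ⟨θ₀, -, hfac⟩ := h.exists_factor_lift
    have hZc : F.center ≤ (CentralLift.liftSystem h).center := by
      refine le_center _ ⟨h.Z_le_up U', fun P φ hφ => ?_⟩
      obtain ⟨Q, e, he, hex⟩ := hφ
      obtain ⟨X, Y, f, hPX, hZX, hf, hfx⟩ := h.liftIso_extend he
      have hle : P ⊔ F.center ≤ X := sup_le hPX hZX
      refine ⟨(Y.subtype.comp f.toMonoidHom).comp (Subgroup.inclusion hle),
        restrict_mem (show _ ∈ (CentralLift.liftSystem h).Hom X from ⟨Y, f, hf, fun _ => rfl⟩) hle,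
        fun x => (hfx x).trans (hex x).symm, fun z => ?_⟩
      exact h.fix (h.liftIso_isFIso hf) ⟨z, hZX z.2⟩ z.2
    have hZsc : (CentralLift.liftSystem h).StronglyClosed F.center :=
      ⟨h.Z_le_up U', fun R hR φ hφ x => by
        rw [h.fix (h.liftSystem_sub R hφ) x (hR x.2)]; exact hR x.2⟩
    have hE'c : E'.IsConstrained p :=
      isConstrained_factor_center (h.pGroup.to_le hUS) hc hZc hZsc hfac
    obtain ⟨R', hR'U, hR', hR'c⟩ :=
      exists_normal_of_constrained_weaklyNormal h.pGroup' h.sat' h.nor.1 hE'c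
    -- the preimage of `R'` is normal
    have hR : F.IsNormal (CentralLift.up θ R') := by
      refine (Cfsg.Agent.S5086.result p h.pGroup F h.sat _).2 ⟨⟨preimageAlong_le R', ?_⟩, ?_⟩
      · intro X hX φ hφ x
        obtain ⟨ψ, hψ, hψP, -⟩ := (isCentral_center F).2 X φ hφ
        have hXZ : X ⊔ F.center ≤ CentralLift.up θ R' := sup_le hX (h.Z_le_up R')
        obtain ⟨f, hf, hfv⟩ := exists_iso hψ rfl
        obtain ⟨f', hf', ho⟩ := h.exists_down le_sup_right hf
        obtain ⟨hxS, hxR⟩ := mem_preimageAlong.1 (hX x.2)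
        have hle : CentralLift.dn θ (X ⊔ F.center) ≤ R' :=
          (imageAlong_mono hXZ).trans (h.dn_up (le_top)).le
        have hm : θ ⟨(x : Ω), hxS⟩ ∈ CentralLift.dn θ (X ⊔ F.center) :=
          apply_mem_imageAlong _ (Subgroup.mem_sup_left x.2)
        refine mem_preimageAlong.2 ⟨map_mem hφ x, ?_⟩
        have h1 := (stronglyClosed_of_isNormal hR').2 _ hle _ hf' ⟨_, hm⟩
        refine (congrArg (· ∈ R') ?_).mp h1
        show ((f' ⟨_, hm⟩ : _) : S ⧸ (F.center).subgroupOf S) = _
        refine (ho (Subgroup.inclusion le_sup_left x) hxS (range_le hψ (f _).2) hm).trans ?_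
        refine congrArg θ (Subtype.ext ?_)
        exact (hfv _).trans (hψP x)
      · intro X hXc hXr
        obtain ⟨hZX, hX'c, hX'r⟩ := h.centric_radical_down hXc hXr
        have h2 := ((Cfsg.Agent.S5086.result p h.pGroup' E h.sat' R').1 hR').2 _ hX'c hX'r
        exact (preimageAlong_mono h2).trans (h.up_dn hXc.1 hZX).le
    have hRZ : CentralLift.up θ R' ≤ F.center := (le_core F hR).trans (hcore h hc)
    have hR'bot : R' = ⊥ := by
      refine le_bot_iff.1 fun y hy => ?_
      rw [← h.dn_up (P' := R') le_top] at hy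
      obtain ⟨x, hx, hxR, rfl⟩ := h.dn_mem hy
      exact Subgroup.mem_bot.2 ((h.ker ⟨x, hx⟩).2 (hRZ hxR))
    refine le_bot_iff.1 fun y hy => ?_
    have h3 := hR'c ⟨hy, Subgroup.mem_centralizer_iff.2 fun z hz => by
      rw [hR'bot] at hz
      rw [Subgroup.mem_bot.1 hz, one_mul, mul_one]⟩
    rwa [hR'bot] at h3
  hcore {θ : S →* S ⧸ (F.center).subgroupOf S}
      {E : Cfsg.FusionSystem (⊤ : Subgroup (S ⧸ (F.center).subgroupOf S))}
      {U' : Subgroup (S ⧸ (F.center).subgroupOf S)} {E' : Cfsg.FusionSystem U'}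
      (h : CentralLift.LSetting F F.center θ E E' p)
      (_ : (CentralLift.liftSystem h).IsConstrained p) : F.core ≤ F.center :=
    core_le_center h.pGroup h.sat hnc hmin

/-- A system that is not constrained has a component. -/
theorem exists_component_of_not_constrained [Fact p.Prime] : ∀ (T : Subgroup Ω)
    (F : Cfsg.FusionSystem T), Finite T → IsPGroup p T → F.IsSaturated p → ¬ F.IsConstrained p →
    ∃ (U : Subgroup Ω) (C : Cfsg.FusionSystem U), C.IsComponentIn F p := by
  suffices key : ∀ (n m : ℕ) (T : Subgroup Ω) (F : Cfsg.FusionSystem T), Nat.card T = n →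
      Nat.card (F.autGroup T) = m → Finite T → IsPGroup p T → F.IsSaturated p →
      ¬ F.IsConstrained p → ∃ (U : Subgroup Ω) (C : Cfsg.FusionSystem U), C.IsComponentIn F p from
    fun T F => key _ _ T F rfl rfl
  intro n
  induction n using Nat.strong_induction_on with
  | _ n ihn =>
  intro m
  induction m using Nat.strong_induction_on with
  | _ m ihm =>
  intro T F hn hm hfin hT hF hnc
  by_contra hno
  refine hno ⟨T, F, .refl F p, quasisimple_of_minimal hT hF hnc fun U E hE hsmall => ?_⟩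
  by_contra hEc
  have hUT : U ≤ T := hE.1.2.2.2.1.1
  have hfinU : Finite U := finite_of_le hUT
  obtain ⟨V, C, hC, hCq⟩ : ∃ (V : Subgroup Ω) (C : Cfsg.FusionSystem V), C.IsComponentIn E p := by
    rcases hsmall with hlt | ⟨hUeq, hlt⟩
    · exact ihn _ (hn ▸ hlt) _ U E rfl rfl hfinU (hT.to_le hUT) hE.1.1 hEc
    · exact ihm _ (hm ▸ hlt) U E (hUeq ▸ hn) rfl hfinU (hT.to_le hUT) hE.1.1 hEc
  exact hno ⟨V, C, subnormal_trans hC (.step (.refl E p) hE), hCq⟩

theorem isConstrained_iff_no_component [Finite S] [Fact p.Prime] (hS : IsPGroup p S)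
    (hF : F.IsSaturated p) :
    F.IsConstrained p ↔ ¬ ∃ (T : Subgroup Ω) (C : Cfsg.FusionSystem T), C.IsComponentIn F p := by
  refine ⟨fun hc ⟨T, C, hC, hq⟩ => not_component_of_constrained hS hc hC hq, fun hno => ?_⟩
  by_contra hnc
  exact hno (exists_component_of_not_constrained S F inferInstance hS hF hnc)

end CfsgLib.Fusion.Components
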