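import Cfsg.Agent.Lib.Fusion.CentralLift.Central
import Cfsg.Agent.Lib.Transfer.Focal
import Cfsg.Agent.Lib.Transfer.PResidual

/-!
The automorphisms that generate the lift of a normal subsystem of a central factor system: those
induced by the preimage, and those of order prime to `p` lying over the subsystem.
-/

set_option autoImplicit false
open Cfsg Cfsg.FusionSystem CfsgLib.Fusion CfsgLib.FusionQuot CfsgLib.Transfer
open scoped commutatorElement

namespace CfsgLib.Fusion.CentralLift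

variable {Ω Ω' : Type*} [Group Ω] [Group Ω'] {S Z : Subgroup Ω} {C : Cfsg.FusionSystem S}
  {S' U' : Subgroup Ω'} {θ : S →* Ω'} {C' : Cfsg.FusionSystem S'} {E' : Cfsg.FusionSystem U'}
  {p : ℕ}

/-- The generators of the lifted automizer. -/
def gens (C : Cfsg.FusionSystem S) (θ : S →* Ω') (E' : Cfsg.FusionSystem U') (p : ℕ)
    (P : Subgroup Ω) : Subgroup (MulAut P) :=
  autInducedBy (up θ U') P ⊔ (pResidual p (big C θ E' P)).map (big C θ E' P).subtype

theorem autInducedBy_le_gens (P : Subgroup Ω) : autInducedBy (up θ U') P ≤ gens C θ E' p P :=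
  le_sup_left

theorem coprime_mem_gens {P : Subgroup Ω} {g : MulAut P} (hg : g ∈ big C θ E' P)
    (ho : (orderOf g).Coprime p) : g ∈ gens C θ E' p P :=
  Subgroup.mem_sup_right ⟨⟨g, hg⟩, mem_pResidual_of_coprime (by rwa [Subgroup.orderOf_mk]), rfl⟩

namespace LSetting

variable (h : LSetting C Z θ C' E' p)
include h

theorem gens_le_big [Finite S] {P : Subgroup Ω} (hP : P ≤ S) (hPU : dn θ P ≤ U') :
    gens C θ E' p P ≤ big C θ E' P :=
  sup_le (h.autInducedBy_le_big hP hPU) (Subgroup.map_subtype_le _)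

theorem gens_le [Finite S] {P : Subgroup Ω} (hP : Fam Z θ E' P) :
    gens C θ E' p P ≤ C.autGroup P :=
  (h.gens_le_big hP.2.1 hP.2.2.1).trans fun _ hg => hg.1

theorem gens_transport [Finite S] {P Q : Subgroup Ω} (hP : Fam Z θ E' P) {e : P ≃* Q}
    (he : IsFIso C e)
    (hind : ∀ a ∈ autInducedBy (up θ U') P, MulAut.congr e a ∈ autInducedBy (up θ U') Q)
    {g : MulAut P} (hg : g ∈ gens C θ E' p P) : MulAut.congr e g ∈ gens C θ E' p Q := by
  let f : big C θ E' P →* big C θ E' Q :=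
    (((MulAut.congr e).toMonoidHom).comp (big C θ E' P).subtype).codRestrict (big C θ E' Q)
      fun g => h.big_transport hP he g.2
  have hle : (gens C θ E' p P).map (MulAut.congr e).toMonoidHom ≤ gens C θ E' p Q := by
    rw [gens, Subgroup.map_sup]
    refine sup_le ?_ ?_
    · rintro _ ⟨a, ha, rfl⟩
      exact Subgroup.mem_sup_left (hind a ha)
    · rintro _ ⟨_, ⟨x, hx, rfl⟩, rfl⟩
      exact Subgroup.mem_sup_right ⟨f x, map_pResidual_le f ⟨x, hx, rfl⟩, rfl⟩
  exact hle ⟨g, hg, rfl⟩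

/-- A map on the normalizer in the preimage transports the induced automorphisms. -/
theorem congr_autInducedBy_of_extends [Finite S] {P Q N : Subgroup Ω} {e : P ≃* Q}
    {ψ : N →* Ω} (hψ : ψ ∈ C.Hom N) (hPN : P ≤ N) (hN : normalizerIn (up θ U') P ≤ N)
    (hag : ∀ x : P, ψ ⟨x, hPN x.2⟩ = (e x : Ω)) {a : MulAut P}
    (ha : a ∈ autInducedBy (up θ U') P) : MulAut.congr e a ∈ autInducedBy (up θ U') Q := by
  obtain ⟨g, hg, hgU, rfl⟩ := exists_eq_conjAut ha
  rw [congr_conjAut_eq_of_extends hPN hag (hN ⟨hgU, hg⟩) hg]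
  exact conjAut_mem_autInducedBy (stronglyClosed_apply_mem h.sc hψ _ hgU) _

/-- Strong closure: an induced automorphism conjugated into `Aut_S(R)` lands in `Aut_U(R)`. -/
theorem conj_autInducedBy_of_receptive [Finite S] {R : Subgroup Ω} (hR : C.IsReceptive R)
    (hRU : R ≤ up θ U') {u a : MulAut R} (hu : u ∈ C.autGroup R)
    (ha : a ∈ autInducedBy (up θ U') R) (hua : u * a * u⁻¹ ∈ autInducedBy S R) :
    u * a * u⁻¹ ∈ autInducedBy (up θ U') R := by
  obtain ⟨v, hv, hvU, rfl⟩ := exists_eq_conjAut ha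
  set N := ((((autInducedBy S R).comap (MulAut.conj u).toMonoidHom).comap
    R.normalizerMonoidHom).map (Subgroup.normalizer (R : Set Ω)).subtype) ⊓ up θ U' with hNdef
  have hNn : N ≤ normalizerIn S R := by
    rintro g ⟨⟨⟨g, hgn⟩, -, rfl⟩, hgU⟩
    exact ⟨preimageAlong_le U' hgU, hgn⟩
  have hiso : IsFIso C (u : R ≃* R) := (mem_autGroup_iff hR.1).1 hu
  have hRN : R ≤ N := fun r hr => by
    refine ⟨⟨⟨r, Subgroup.le_normalizer hr⟩, ?_, rfl⟩, hRU hr⟩
    show u * conjAut R r _ * u⁻¹ ∈ autInducedBy S R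
    refine inn_le_autInducedBy hR.1 ((inn_normal R).conj_mem _ ?_ u)
    rw [inn_eq_autInducedBy]
    exact conjAut_mem_autInducedBy hr _
  obtain ⟨ψ, hψ, -, hag⟩ := hiso.exists_extension hR hRN hNn fun g hg => by
    obtain ⟨⟨⟨g', hgn⟩, hgm, rfl⟩, -⟩ := hg
    exact hgm
  have hvN : v ∈ N := ⟨⟨⟨v, hv⟩, hua, rfl⟩, hvU⟩
  have h1 := congr_conjAut_eq_of_extends (e := (u : R ≃* R)) hRN hag hvN hv
  rw [show u * conjAut R v hv * u⁻¹ = MulAut.congr (u : R ≃* R) (conjAut R v hv) from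
    MulEquiv.ext fun x => rfl, h1]
  exact conjAut_mem_autInducedBy (stronglyClosed_apply_mem h.sc hψ _ hvU) _

theorem gens_inf_disp_of_fn [Finite S] [Fact p.Prime] {R : Subgroup Ω} (hR : Fam Z θ E' R)
    (hRn : C.IsFullyNormalized R) : gens C θ E' p R ⊓ disp C Z R ≤ Cfsg.Inn R := by
  have hRS := hR.2.1
  have hRU := h.fam_le hR
  have : Finite R := finite_of_le hRS
  have : Finite (MulAut R) := finite_mulAut
  have hrec := isReceptive_of_isFullyNormalized h.pGroup h.sat hRn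
  set B := big C θ E' R with hB
  set A := autInducedBy (up θ U') R with hA
  have hAB : A ≤ B := h.autInducedBy_le_big hRS hR.2.2.1
  have hIA : Cfsg.Inn R ≤ A := by
    rw [inn_eq_autInducedBy]; exact autInducedBy_mono hRU R
  obtain ⟨T, hT⟩ := h.sylow_big hR hRn
  have hTS : ∀ t : B, t ∈ (T : Subgroup B) → (t : MulAut R) ∈ autInducedBy S R := by
    intro t ht
    rw [hT] at ht
    exact sup_le (autInducedBy_mono (preimageAlong_le U') R)
      (fun a ha => h.exists_conj_of_disp hRn ha) ht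
  have hfoc : (T : Subgroup B).focalSubgroup ≤ A.subgroupOf B := by
    rw [Subgroup.focalSubgroup_def, Subgroup.closure_le]
    rintro g ⟨hgT, x, hxT, u, rfl⟩
    have h2 : u * x⁻¹ * u⁻¹ ∈ (T : Subgroup B) := by
      have := mul_mem (inv_mem hxT) hgT
      rwa [commutatorElement_def, show x⁻¹ * (x * u * x⁻¹ * u⁻¹) = u * x⁻¹ * u⁻¹ by group] at this
    have hx' : (x : MulAut R) ∈ A ⊔ disp C Z R := by
      have := hxT
      rw [hT] at this
      exact this
    obtain ⟨a, ha, d, hd, had⟩ : ∃ a ∈ A, ∃ d ∈ disp C Z R, a * d = (x : MulAut R) := by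
      have hn : A ≤ Subgroup.normalizer (disp C Z R : Set (MulAut R)) := fun a ha =>
        Subgroup.mem_normalizer_iff.2 fun d => by
          have haC := (hAB ha).1
          refine ⟨h.disp_conj hRS haC, fun hd => ?_⟩
          have := h.disp_conj hRS (inv_mem haC) hd
          simpa [mul_assoc] using this
      rw [← SetLike.mem_coe, Subgroup.coe_mul_of_left_le_normalizer_right A _ hn] at hx'
      exact Set.mem_mul.1 hx'
    have hu := u.2
    set d' := (u : MulAut R) * d⁻¹ * (u : MulAut R)⁻¹ with hd'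
    have hd'D : d' ∈ disp C Z R := h.disp_conj hRS hu.1 (Subgroup.inv_mem _ hd)
    set a' := (u : MulAut R) * a⁻¹ * (u : MulAut R)⁻¹ with ha'
    have ha'A : a' ∈ A := by
      refine h.conj_autInducedBy_of_receptive hrec hRU hu.1 (Subgroup.inv_mem _ ha) ?_
      have h3 := hTS _ h2
      have h4 : ((u * x⁻¹ * u⁻¹ : B) : MulAut R) = d' * a' := by
        rw [Subgroup.coe_mul, Subgroup.coe_mul, Subgroup.coe_inv, Subgroup.coe_inv, ← had, hd', ha']
        group
      rw [h4] at h3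
      have h5 := Subgroup.mul_mem _ (Subgroup.inv_mem _ (h.exists_conj_of_disp hRn hd'D)) h3
      rwa [inv_mul_cancel_left] at h5
    have hdd : d * d' ∈ Cfsg.Inn R := by
      have h6 := h.comm_disp R hR _ hu _ (Subgroup.inv_mem _ hd)
      rw [inv_inv] at h6
      rw [h.disp_comm hRS hd hd'D]
      exact h6
    show ((⁅x, u⁆ : B) : MulAut R) ∈ A
    have h7 : ((⁅x, u⁆ : B) : MulAut R) = a * (d * d') * a' := by
      rw [commutatorElement_def]
      simp only [Subgroup.coe_mul, Subgroup.coe_inv]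
      rw [← had, hd', ha']
      group
    rw [h7]
    exact A.mul_mem (A.mul_mem ha (hIA hdd)) ha'A
  intro g hg
  obtain ⟨hgG, hgD⟩ := hg
  have hgB : g ∈ B := h.disp_le hR.2.2.1 hgD
  have hsup : (⟨g, hgB⟩ : B) ∈ pResidual p B ⊔ A.subgroupOf B := by
    have h8 : (pResidual p B ⊔ A.subgroupOf B).map B.subtype = gens C θ E' p R := by
      rw [Subgroup.map_sup, Subgroup.map_subgroupOf_eq_of_le hAB, sup_comm]
      rfl
    obtain ⟨x, hx, hxg⟩ := h8.ge hgG
    exact (Subtype.ext hxg : x = ⟨g, hgB⟩) ▸ hx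
  have : (pResidual p B).Normal := pResidual_normal
  rw [← SetLike.mem_coe, Subgroup.normal_mul] at hsup
  obtain ⟨o, ho, a, ha, hoa⟩ := hsup
  have hoT : o ∈ (T : Subgroup B) := by
    have h9 : o = ⟨g, hgB⟩ * a⁻¹ := by rw [← hoa]; simp
    rw [h9, hT]
    exact Subgroup.mul_mem _ (Subgroup.mem_sup_right hgD)
      (Subgroup.inv_mem _ (Subgroup.mem_sup_left ha))
  have hoA : (o : MulAut R) ∈ A := hfoc (sylow_inf_pResidual_le_focal T ⟨hoT, ho⟩)
  refine h.aut_inf_disp hR ⟨?_, hgD⟩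
  have h10 : g = (o : MulAut R) * (a : MulAut R) := congrArg Subtype.val hoa.symm
  rw [h10]
  exact A.mul_mem hoA ha

/-- A displacement in the generated automizer is inner. -/
theorem gens_inf_disp [Finite S] [Fact p.Prime] {P : Subgroup Ω} (hP : Fam Z θ E' P) :
    gens C θ E' p P ⊓ disp C Z P ≤ Cfsg.Inn P := by
  obtain ⟨R, hPR, hRn⟩ := exists_isFullyNormalized C hP.2.1
  obtain ⟨e, he, ψ, hψ, -, hag⟩ := exists_normalizer_map h.pGroup h.sat hRn hPR
  rintro g ⟨hgG, hgD⟩
  have h1 := h.gens_inf_disp_of_fn (h.fam_transport hP he) hRn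
    ⟨h.gens_transport hP he (fun a ha => h.congr_autInducedBy_of_extends hψ
      (le_normalizerIn hP.2.1) (inf_le_inf_right _ (preimageAlong_le U')) hag ha) hgG,
      h.disp_transport he hgD⟩
  have h2 := inn_transport e.symm h1
  have h3 : MulAut.congr e.symm (MulAut.congr e g) = g :=
    MulEquiv.ext fun x => by simp [congr_apply]
  rwa [h3] at h2

/-- The generated automizer maps onto the automizer of the subsystem. -/
theorem gens_surj [Finite S] [Fact p.Prime] {R : Subgroup Ω} (hR : Fam Z θ E' R)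
    (hRn : E'.IsFullyNormalized (dn θ R)) {α' : MulAut (dn θ R)}
    (hα' : α' ∈ E'.autGroup (dn θ R)) : ∃ g ∈ gens C θ E' p R, Over θ g α' := by
  have := h.finU'
  have hRS := hR.2.1
  have : Finite R := finite_of_le hRS
  have : Finite (MulAut R) := finite_mulAut
  have : Finite (dn θ R) := finite_of_le hR.2.2.1
  have : Finite (MulAut (dn θ R)) := finite_mulAut
  let M : Subgroup (E'.autGroup (dn θ R)) :=
    { carrier := {a | ∃ g ∈ gens C θ E' p R, Over θ g (a : MulAut (dn θ R))}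
      one_mem' := ⟨1, one_mem _, over_refl θ R _⟩
      mul_mem' := fun ⟨g, hg, hgo⟩ ⟨k, hk, hko⟩ =>
        ⟨g * k, Subgroup.mul_mem _ hg hk, Over.trans hko hgo hRS⟩
      inv_mem' := fun ⟨g, hg, hgo⟩ => ⟨g⁻¹, Subgroup.inv_mem _ hg, Over.symm hgo hRS⟩ }
  obtain ⟨-, T, hT⟩ := isFullyAutomized_of_isFullyNormalized h.pU' h.satE hRn
  suffices hM : M = ⊤ from (hM.ge (Subgroup.mem_top ⟨α', hα'⟩) :)
  refine top_le_iff.1 ((sylow_sup_pResidual T).ge.trans (sup_le ?_ ((Subgroup.closure_le _).2 ?_)))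
  · intro a ha
    rw [hT] at ha
    obtain ⟨u', hu', hu'U, he⟩ := exists_eq_conjAut (show (a : MulAut (dn θ R)) ∈ _ from ha)
    obtain ⟨⟨u, huS⟩, rfl⟩ := h.range_eq.ge (h.U'_le hu'U)
    have hu : u ∈ Subgroup.normalizer (R : Set Ω) := (h.mem_normalizer_iff hRS hR.1 huS).2 hu'
    refine ⟨conjAut R u hu, autInducedBy_le_gens R
      (conjAut_mem_autInducedBy (mem_preimageAlong.2 ⟨huS, hu'U⟩) hu), ?_⟩
    rw [he]
    intro x hx hy hm
    show θ ⟨u, huS⟩ * θ ⟨x, hx⟩ * (θ ⟨u, huS⟩)⁻¹ = θ ⟨u * x * u⁻¹, hy⟩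
    rw [← map_inv, ← map_mul, ← map_mul]
    rfl
  · intro a ha
    obtain ⟨g₀, hg₀, hg₀o⟩ := h.exists_big hRS hR.1 a.2 hR.2.2.1
    obtain ⟨j, hj, hja⟩ := PSolv.exists_pPrime_part g₀ a (show (orderOf a).Coprime p from ha)
    have hpow : ∀ i : ℕ, Over θ (g₀ ^ i) ((a : MulAut (dn θ R)) ^ i) := by
      intro i
      induction i with
      | zero => exact over_refl θ R _
      | succ i ih => rw [pow_succ, pow_succ]; exact Over.trans hg₀o ih hRS
    refine ⟨g₀ ^ j, coprime_mem_gens (Subgroup.pow_mem _ hg₀ j) hj, ?_⟩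
    have := hpow j
    rwa [← SubmonoidClass.coe_pow, hja] at this

end LSetting

end CfsgLib.Fusion.CentralLift
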