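import Cfsg.Agent.Lib.Fusion.CentralLift.Gens
import Cfsg.Agent.Lib.Fusion.Alperin
import Cfsg.Agent.Lib.Fusion.Normal

/-!
The isomorphisms of the lift: composites of restrictions of the generating automorphisms.
-/

set_option autoImplicit false
open Cfsg Cfsg.FusionSystem CfsgLib.Fusion CfsgLib.FusionQuot

namespace CfsgLib.Fusion.CentralLift

variable {Ω Ω' : Type*} [Group Ω] [Group Ω'] {S Z : Subgroup Ω} {C : Cfsg.FusionSystem S}
  {S' U' : Subgroup Ω'} {θ : S →* Ω'} {C' : Cfsg.FusionSystem S'} {E' : Cfsg.FusionSystem U'}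
  {p : ℕ}

/-- Composites of restrictions of generating automorphisms. -/
inductive LiftIso (C : Cfsg.FusionSystem S) (Z : Subgroup Ω) (θ : S →* Ω')
    (E' : Cfsg.FusionSystem U') (p : ℕ) : ∀ {P Q : Subgroup Ω}, (P ≃* Q) → Prop
  | aut {R P Q : Subgroup Ω} (hR : Fam Z θ E' R) (hPR : P ≤ R) (g : MulAut R)
      (hg : g ∈ gens C θ E' p R) (e : P ≃* Q) (he : ∀ x : P, (e x : Ω) = (g ⟨x, hPR x.2⟩ : R)) :
      LiftIso C Z θ E' p e
  | trans {P Q R : Subgroup Ω} {e : P ≃* Q} {f : Q ≃* R} :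
      LiftIso C Z θ E' p e → LiftIso C Z θ E' p f → LiftIso C Z θ E' p (e.trans f)

theorem LiftIso.symm {P Q : Subgroup Ω} {e : P ≃* Q} (he : LiftIso C Z θ E' p e) :
    LiftIso C Z θ E' p e.symm := by
  induction he with
  | @aut R P Q hR hPR g hg e hx =>
    have hQR : Q ≤ R := fun y hy => by
      have h1 := hx (e.symm ⟨y, hy⟩)
      rw [MulEquiv.apply_symm_apply] at h1
      exact (show y = _ from h1) ▸ (g _).2
    refine LiftIso.aut hR hQR g⁻¹ (Subgroup.inv_mem _ hg) _ fun y => ?_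
    have h1 := hx (e.symm y)
    rw [MulEquiv.apply_symm_apply] at h1
    have h2 : (⟨(y : Ω), hQR y.2⟩ : R) = g ⟨(e.symm y : Ω), hPR (e.symm y).2⟩ := Subtype.ext h1
    rw [h2, MulAut.inv_apply_self]
  | trans _ _ ihe ihf => exact ihf.trans ihe

/-- Restriction to a pair of corresponding subgroups. -/
theorem LiftIso.restrict {P Q : Subgroup Ω} {e : P ≃* Q} (he : LiftIso C Z θ E' p e) :
    ∀ {P₀ Q₀ : Subgroup Ω} (hP : P₀ ≤ P) (e₀ : P₀ ≃* Q₀),
      (∀ x : P₀, (e₀ x : Ω) = e ⟨x, hP x.2⟩) → LiftIso C Z θ E' p e₀ := by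
  induction he with
  | @aut R P Q hR hPR g hg e hx =>
    intro P₀ Q₀ hP e₀ h₀
    exact LiftIso.aut hR (hP.trans hPR) g hg e₀ fun x => (h₀ x).trans (hx _)
  | @trans P Q R e f _ _ ihe ihf =>
    intro P₀ Q₀ hP e₀ h₀
    set φ : P₀ →* Ω := (Q.subtype.comp e.toMonoidHom).comp (Subgroup.inclusion hP) with hφ
    have hinj : Function.Injective φ := fun a b hab =>
      Subgroup.inclusion_injective hP (e.injective (Subtype.ext hab))
    have h1 := ihe hP (isoOfInjective hinj rfl) fun x => rfl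
    have hW : φ.range ≤ Q := by rintro _ ⟨x, rfl⟩; exact (e _).2
    have h2 := ihf hW ((isoOfInjective hinj rfl).symm.trans e₀) fun y => by
      obtain ⟨_, x, rfl⟩ := y
      have h3 : (⟨φ x, x, rfl⟩ : φ.range) = isoOfInjective hinj rfl x := Subtype.ext rfl
      simp only [MulEquiv.trans_apply, h3, MulEquiv.symm_apply_apply, h₀]
      rfl
    have h4 : e₀ = (isoOfInjective hinj rfl).trans ((isoOfInjective hinj rfl).symm.trans e₀) :=
      MulEquiv.ext fun x => by simp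
    rw [h4]
    exact h1.trans h2

/-- The restriction to an arbitrary subgroup of the source. -/
theorem LiftIso.exists_restrict {P Q W : Subgroup Ω} {e : P ≃* Q} (he : LiftIso C Z θ E' p e)
    (hW : W ≤ P) : ∃ (Y : Subgroup Ω) (f : W ≃* Y), Y ≤ Q ∧ LiftIso C Z θ E' p f ∧
      ∀ x : W, (f x : Ω) = e ⟨x, hW x.2⟩ := by
  have hinj : Function.Injective
      ((Q.subtype.comp e.toMonoidHom).comp (Subgroup.inclusion hW)) := fun a b hab =>
    Subgroup.inclusion_injective hW (e.injective (Subtype.ext hab))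
  refine ⟨_, isoOfInjective hinj rfl, ?_, he.restrict hW _ fun x => rfl, fun x => rfl⟩
  rintro _ ⟨x, rfl⟩
  exact (e _).2

namespace LSetting

variable (h : LSetting C Z θ C' E' p)
include h

theorem liftIso_isFIso [Finite S] {P Q : Subgroup Ω} {e : P ≃* Q}
    (he : LiftIso C Z θ E' p e) : IsFIso C e := by
  induction he with
  | @aut R P Q hR hPR g hg e hx =>
    exact IsFIso.restrict ((mem_autGroup_iff hR.2.1).1 (h.gens_le hR hg)) hPR e hx
  | trans _ _ ihe ihf => exact ihe.trans ihf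

theorem liftIso_le [Finite S] {P Q : Subgroup Ω} {e : P ≃* Q} (he : LiftIso C Z θ E' p e) :
    P ≤ up θ U' ∧ Q ≤ up θ U' := by
  induction he with
  | @aut R P Q hR hPR g hg e hx =>
    refine ⟨hPR.trans (h.fam_le hR), fun y hy => ?_⟩
    have h1 := hx (e.symm ⟨y, hy⟩)
    rw [MulEquiv.apply_symm_apply] at h1
    exact h.fam_le hR ((show y = _ from h1) ▸ (g _).2)
  | trans _ _ ihe ihf => exact ⟨ihe.1, ihf.2⟩

/-- Every isomorphism of the lift extends to subgroups containing `Z`. -/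
theorem liftIso_extend [Finite S] {P Q : Subgroup Ω} {e : P ≃* Q} (he : LiftIso C Z θ E' p e) :
    ∃ (X Y : Subgroup Ω) (f : X ≃* Y) (hPX : P ≤ X), Z ≤ X ∧ LiftIso C Z θ E' p f ∧
      ∀ x : P, (f ⟨x, hPX x.2⟩ : Ω) = e x := by
  induction he with
  | @aut R P Q hR hPR g hg e hx =>
    exact ⟨R, R, g, hPR, hR.1, LiftIso.aut hR le_rfl g hg g fun _ => rfl, fun x => (hx x).symm⟩
  | @trans P Q R e f he hf ihe ihf =>
    obtain ⟨X₁, Y₁, f₁, hP, hZ₁, hf₁, h₁⟩ := ihe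
    obtain ⟨X₂, Y₂, f₂, hQ, hZ₂, hf₂, h₂⟩ := ihf
    have hQY : Q ≤ Y₁ := fun y hy => by
      have h3 := h₁ (e.symm ⟨y, hy⟩)
      rw [MulEquiv.apply_symm_apply] at h3
      exact (show _ = y from h3) ▸ (f₁ _).2
    have hZY : Z ≤ Y₁ := h.Z_le_of_iso hZ₁ (h.liftIso_isFIso hf₁)
    set W := Y₁ ⊓ X₂ with hW
    obtain ⟨X, g₁, hXX, hg₁, hg₁x⟩ := hf₁.symm.exists_restrict (W := W) inf_le_left
    obtain ⟨Y, g₂, -, hg₂, hg₂x⟩ := hf₂.exists_restrict (W := W) inf_le_right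
    have hPX : P ≤ X := fun x hx => by
      have hm : (e ⟨x, hx⟩ : Ω) ∈ W := ⟨hQY (e _).2, hQ (e _).2⟩
      have h4 := hg₁x ⟨_, hm⟩
      have h5 : (⟨(e ⟨x, hx⟩ : Ω), inf_le_left (b := X₂) hm⟩ : Y₁) = f₁ ⟨x, hP hx⟩ :=
        Subtype.ext (h₁ ⟨x, hx⟩).symm
      rw [h5, MulEquiv.symm_apply_apply] at h4
      exact (show _ = x from h4) ▸ (g₁ _).2
    refine ⟨X, Y, g₁.symm.trans g₂, hPX, h.Z_le_of_iso (le_inf hZY hZ₂) (h.liftIso_isFIso hg₁),
      hg₁.symm.trans hg₂, fun x => ?_⟩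
    have hm : (e x : Ω) ∈ W := ⟨hQY (e x).2, hQ (e x).2⟩
    have h6 : g₁.symm ⟨x, hPX x.2⟩ = ⟨_, hm⟩ := by
      rw [MulEquiv.symm_apply_eq]
      refine Subtype.ext ?_
      refine Eq.trans ?_ (hg₁x ⟨_, hm⟩).symm
      have h5 : (⟨(e x : Ω), inf_le_left (b := X₂) hm⟩ : Y₁) = f₁ ⟨x, hP x.2⟩ :=
        Subtype.ext (h₁ x).symm
      rw [h5, MulEquiv.symm_apply_apply]
    simp only [MulEquiv.trans_apply, h6]
    rw [hg₂x]
    exact h₂ (e x)

/-- An isomorphism of the lift lies over an isomorphism of the subsystem. -/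
theorem liftIso_over [Finite S] {P Q : Subgroup Ω} {e : P ≃* Q} (he : LiftIso C Z θ E' p e) :
    Z ≤ P → ∃ e' : (dn θ P) ≃* (dn θ Q), IsFIso E' e' ∧ Over θ e e' := by
  induction he with
  | @aut R P Q hR hPR g hg e hx =>
    intro hZ
    have hiso := h.liftIso_isFIso (LiftIso.aut hR hPR g hg e hx)
    obtain ⟨g', hg', hgo⟩ := (h.gens_le_big hR.2.1 hR.2.2.1 hg).2 hR.2.1
    obtain ⟨e', -, ho⟩ := h.exists_down hZ hiso
    refine ⟨e', IsFIso.restrict ((mem_autGroup_iff hR.2.2.1).1 hg') (imageAlong_mono hPR) e' ?_, ho⟩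
    rintro ⟨y, hy⟩
    obtain ⟨x, hxS, hxP, rfl⟩ := h.dn_mem hy
    refine (ho ⟨x, hxP⟩ hxS (hiso.le_right (e _).2) hy).trans ?_
    refine Eq.trans ?_ (hgo ⟨x, hPR hxP⟩ hxS (hR.2.1 (g _).2) (imageAlong_mono hPR hy)).symm
    exact congrArg θ (Subtype.ext (hx ⟨x, hxP⟩))
  | @trans P Q R e f he hf ihe ihf =>
    intro hZ
    obtain ⟨e', he', ho⟩ := ihe hZ
    have hie := h.liftIso_isFIso he
    obtain ⟨f', hf', hfo⟩ := ihf (h.Z_le_of_iso hZ hie)
    exact ⟨e'.trans f', he'.trans hf', Over.trans ho hfo hie.le_right⟩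

theorem fam_U [Finite S] : Fam Z θ E' (up θ U') := by
  have := h.finU'
  refine ⟨h.Z_le_up U', preimageAlong_le U', ?_⟩
  rw [h.dn_up_U]
  exact isCentric_top E'

theorem liftIso_conj [Finite S] {P Q : Subgroup Ω} (hP : P ≤ up θ U') {g : Ω} (hg : g ∈ up θ U')
    (e : P ≃* Q) (he : ∀ x : P, (e x : Ω) = g * x * g⁻¹) : LiftIso C Z θ E' p e :=
  LiftIso.aut h.fam_U hP (conjAut (up θ U') g (Subgroup.le_normalizer hg))
    (autInducedBy_le_gens _ (conjAut_mem_autInducedBy hg _)) e he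

theorem liftIso_one [Finite S] {P : Subgroup Ω} (hP : P ≤ up θ U') :
    LiftIso C Z θ E' p (MulEquiv.refl P) :=
  h.liftIso_conj hP (Subgroup.one_mem _) _ fun x => by simp

end LSetting

/-- The maps of the lift. -/
def liftHom (C : Cfsg.FusionSystem S) (Z : Subgroup Ω) (θ : S →* Ω') (E' : Cfsg.FusionSystem U')
    (p : ℕ) (P : Subgroup Ω) : Set (P →* Ω) :=
  {φ | ∃ (Q : Subgroup Ω) (e : P ≃* Q), LiftIso C Z θ E' p e ∧ ∀ x : P, φ x = e x}

/-- The lift of a normal subsystem of a central factor system. -/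
noncomputable def liftSystem [Finite S] (h : LSetting C Z θ C' E' p) :
    Cfsg.FusionSystem (up θ U') where
  Hom P := liftHom C Z θ E' p P
  le_of_mem := by
    rintro P φ ⟨Q, e, he, hφ⟩
    exact ⟨(h.liftIso_le he).1, fun x => hφ x ▸ (h.liftIso_le he).2 (e x).2⟩
  injective_of_mem := by
    rintro P φ ⟨Q, e, -, hφ⟩ a b hab
    rw [hφ, hφ] at hab
    exact e.injective (Subtype.ext hab)
  conj_mem := by
    intro P g hP hg
    have hinj : Function.Injective (conjHom P g) := fun a b hab =>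
      Subtype.ext (mul_left_cancel (mul_right_cancel hab))
    exact ⟨_, isoOfInjective hinj rfl,
      h.liftIso_conj hP hg _ (fun x => rfl), fun x => rfl⟩
  comp_mem := by
    rintro P R φ ψ ⟨Q, e, he, hφ⟩ ⟨W, f, hf, hψ⟩ hle
    have hQR : Q ≤ R := fun y hy => by
      have := hle (e.symm ⟨y, hy⟩)
      rw [hφ, MulEquiv.apply_symm_apply] at this
      exact this
    obtain ⟨Y, f₀, -, hf₀, hf₀x⟩ := hf.exists_restrict hQR
    refine ⟨Y, e.trans f₀, he.trans hf₀, fun x => ?_⟩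
    show ψ _ = _
    rw [hψ]
    simp only [MulEquiv.trans_apply]
    rw [hf₀x]
    exact congrArg (fun z : R => (f z : Ω)) (Subtype.ext (hφ x))
  inv_mem := by
    rintro P φ ⟨Q, e, he, hφ⟩
    have hr : φ.range = Q := by
      ext y
      constructor
      · rintro ⟨x, rfl⟩; rw [hφ]; exact (e x).2
      · intro hy; exact ⟨e.symm ⟨y, hy⟩, by rw [hφ, MulEquiv.apply_symm_apply]⟩
    subst hr
    refine ⟨P.subtype.comp e.symm.toMonoidHom, ⟨P, e.symm, he.symm, fun _ => rfl⟩, fun x => ?_⟩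
    have h1 : (⟨φ x, x, rfl⟩ : φ.range) = e x := Subtype.ext (hφ x)
    show (e.symm ⟨φ x, x, rfl⟩ : Ω) = x
    rw [h1, MulEquiv.symm_apply_apply]

theorem isFIso_liftSystem [Finite S] (h : LSetting C Z θ C' E' p) {P Q : Subgroup Ω} {e : P ≃* Q} :
    IsFIso (liftSystem h) e ↔ LiftIso C Z θ E' p e := by
  refine ⟨?_, fun he => ⟨Q, e, he, fun _ => rfl⟩⟩
  rintro ⟨Q', e', he', hx⟩
  have hQ : Q' = Q := le_antisymm
    (fun y hy => by
      have := hx (e'.symm ⟨y, hy⟩)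
      rw [MulEquiv.apply_symm_apply] at this
      exact (show _ = y from this) ▸ (e _).2)
    (fun y hy => by
      have := hx (e.symm ⟨y, hy⟩)
      simp only [MonoidHom.coe_comp, Subgroup.coe_subtype, MulEquiv.coe_toMonoidHom,
        Function.comp_apply, MulEquiv.apply_symm_apply] at this
      exact (show y = _ from this) ▸ (e' _).2)
  subst hQ
  rwa [show e = e' from MulEquiv.ext fun x => Subtype.ext (hx x)]

theorem mem_autGroup_liftSystem [Finite S] (h : LSetting C Z θ C' E' p) {P : Subgroup Ω}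
    (hP : P ≤ up θ U') {a : MulAut P} :
    a ∈ (liftSystem h).autGroup P ↔ LiftIso C Z θ E' p (a : P ≃* P) :=
  (mem_autGroup_iff hP).trans (isFIso_liftSystem h)

namespace LSetting

variable (h : LSetting C Z θ C' E' p)
include h

theorem gens_surj' [Finite S] [Fact p.Prime] {R' : Subgroup Ω'} (hRc : E'.IsCentric R')
    (hRn : E'.IsFullyNormalized R') {α' : MulAut R'} (hα' : α' ∈ E'.autGroup R') :
    ∃ g ∈ gens C θ E' p (up θ R'), Over θ g α' := by
  have hR'S : R' ≤ S' := hRc.1.trans h.U'_le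
  have hd : dn θ (up θ R') = R' := h.dn_up hR'S
  have hR : Fam Z θ E' (up θ R') := ⟨h.Z_le_up R', preimageAlong_le R', by rw [hd]; exact hRc⟩
  have key : ∀ (X : Subgroup Ω'), X = dn θ (up θ R') → E'.IsFullyNormalized X →
      ∀ α : MulAut X, α ∈ E'.autGroup X → ∃ g ∈ gens C θ E' p (up θ R'), Over θ g α := by
    rintro X rfl hXn α hα
    exact h.gens_surj hR hXn hα
  exact key R' hd.symm hRn α' hα'

/-- A map of the subsystem has a lift. -/
def Lifts (Y : Subgroup Ω') (φ : Y →* Ω') : Prop :=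
  ∃ (W : Subgroup Ω) (e : up θ Y ≃* W), LiftIso C Z θ E' p e ∧
    ∀ (x : up θ Y) (hx : (x : Ω) ∈ S) (hm : θ ⟨x, hx⟩ ∈ Y) (hy : (e x : Ω) ∈ S),
      φ ⟨_, hm⟩ = θ ⟨(e x : Ω), hy⟩

end LSetting

/-- The maps of the subsystem that have lifts. -/
noncomputable def liftedSystem [Finite S] (h : LSetting C Z θ C' E' p) :
    Cfsg.FusionSystem U' where
  Hom Y := {φ | φ ∈ E'.Hom Y ∧ LSetting.Lifts (C := C) (Z := Z) (θ := θ) (E' := E') (p := p) Y φ}
  le_of_mem hφ := E'.le_of_mem hφ.1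
  injective_of_mem hφ := E'.injective_of_mem hφ.1
  conj_mem := by
    intro Y u' hY hu'
    refine ⟨E'.conj_mem hY hu', ?_⟩
    obtain ⟨⟨u, huS⟩, rfl⟩ := h.range_eq.ge (h.U'_le hu')
    have hu : u ∈ up θ U' := mem_preimageAlong.2 ⟨huS, hu'⟩
    have hinj : Function.Injective (conjHom (up θ Y) u) := fun a b hab =>
      Subtype.ext (mul_left_cancel (mul_right_cancel hab))
    refine ⟨_, isoOfInjective hinj rfl,
      h.liftIso_conj (preimageAlong_mono hY) hu _ (fun x => rfl), fun x hx hm hy => ?_⟩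
    show θ ⟨u, huS⟩ * θ ⟨x, hx⟩ * (θ ⟨u, huS⟩)⁻¹ = θ ⟨u * x * u⁻¹, hy⟩
    rw [← map_inv, ← map_mul, ← map_mul]
    rfl
  comp_mem := by
    rintro Y R φ ψ ⟨hφ, W, e, he, hex⟩ ⟨hψ, W₂, f, hf, hfx⟩ hle
    refine ⟨E'.comp_mem hφ hψ hle, ?_⟩
    have hWR : W ≤ up θ R := fun w hw => by
      set x := e.symm ⟨w, hw⟩ with hx
      obtain ⟨hxS, hxY⟩ := mem_preimageAlong.1 x.2
      have hwS : w ∈ S := preimageAlong_le U' ((h.liftIso_le he).2 hw)
      have hew : (e x : Ω) = w := by rw [hx, MulEquiv.apply_symm_apply]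
      have h1 := hex x hxS hxY (hew ▸ hwS)
      refine mem_preimageAlong.2 ⟨hwS, ?_⟩
      have h2 := hle ⟨_, hxY⟩
      rw [h1] at h2
      convert h2 using 3
      exact hew.symm
    obtain ⟨W₃, f₀, -, hf₀, hf₀x⟩ := hf.exists_restrict hWR
    refine ⟨W₃, e.trans f₀, he.trans hf₀, fun x hx hm hy => ?_⟩
    have hexS : (e x : Ω) ∈ S := preimageAlong_le R (hWR (e x).2)
    have h1 := hex x hx hm hexS
    have hmR : θ ⟨(e x : Ω), hexS⟩ ∈ R := h1 ▸ hle ⟨_, hm⟩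
    show ψ _ = _
    rw [show (φ.codRestrict R hle ⟨_, hm⟩ : R) = ⟨_, hmR⟩ from Subtype.ext h1]
    have hy' : (f ⟨(e x : Ω), hWR (e x).2⟩ : Ω) ∈ S := by
      rw [← hf₀x]; exact hy
    refine (hfx ⟨(e x : Ω), hWR (e x).2⟩ hexS hmR hy').trans (congrArg θ (Subtype.ext ?_))
    exact (hf₀x (e x)).symm
  inv_mem := by
    rintro Y φ ⟨hφ, W, e, he, hex⟩
    obtain ⟨ψ, hψ, hψx⟩ := E'.inv_mem hφ
    refine ⟨ψ, ⟨hψ, ?_⟩, hψx⟩
    have hU := (h.liftIso_le he).2
    have hle : up θ φ.range ≤ W := by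
      intro w hw
      obtain ⟨hwS, y, hy⟩ := mem_preimageAlong.1 hw
      obtain ⟨⟨x, hxS⟩, hxy⟩ := h.range_eq.ge (h.U'_le ((E'.le_of_mem hφ).1 y.2))
      have hxY : θ ⟨x, hxS⟩ ∈ Y := hxy ▸ y.2
      have hxm : x ∈ up θ Y := mem_preimageAlong.2 ⟨hxS, hxY⟩
      have hexS : (e ⟨x, hxm⟩ : Ω) ∈ S := preimageAlong_le U' (hU (e _).2)
      have h1 := hex ⟨x, hxm⟩ hxS hxY hexS
      rw [show (⟨_, hxY⟩ : Y) = y from Subtype.ext hxy, hy] at h1
      have hZW : Z ≤ W := h.Z_le_of_iso (h.Z_le_up Y) (h.liftIso_isFIso he)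
      refine (h.mem_dn_iff (hU.trans (preimageAlong_le U')) hZW hwS).1 ?_
      rw [h1]
      exact apply_mem_imageAlong _ (e _).2
    obtain ⟨W₂, f, -, hf, hfx⟩ := he.symm.exists_restrict hle
    refine ⟨W₂, f, hf, fun x hx hm hy => ?_⟩
    have hxW : (x : Ω) ∈ W := hle x.2
    obtain ⟨x₀, hx₀⟩ : ∃ x₀, e x₀ = ⟨(x : Ω), hxW⟩ := e.surjective _
    obtain ⟨hx₀S, hx₀Y⟩ := mem_preimageAlong.1 x₀.2
    have h1 := hex x₀ hx₀S hx₀Y (by rw [hx₀]; exact hx)
    have h2 : (⟨θ ⟨(x : Ω), hx⟩, hm⟩ : φ.range) = ⟨φ ⟨_, hx₀Y⟩, _, rfl⟩ := by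
      refine Subtype.ext ?_
      refine Eq.trans ?_ h1.symm
      exact congrArg θ (Subtype.ext (congrArg Subtype.val hx₀).symm)
    rw [h2, hψx]
    refine congrArg θ (Subtype.ext ?_)
    rw [hfx, ← hx₀, MulEquiv.symm_apply_apply]

namespace LSetting

variable (h : LSetting C Z θ C' E' p)
include h

theorem le_liftedSystem [Finite S] [Fact p.Prime] : E' ≤ liftedSystem h := by
  have := h.finU'
  refine alperin h.pU' h.satE _ fun R' hR' α hα => ?_
  have hc : E'.IsCentric R' ∧ E'.IsFullyNormalized R' := by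
    rcases hR' with rfl | hess
    · exact ⟨isCentric_top E', isFullyNormalized_top E'⟩
    · exact ⟨hess.1, hess.2.1⟩
  obtain ⟨g, hg, hgo⟩ := h.gens_surj' hc.1 hc.2 hα
  have hR : Fam Z θ E' (up θ R') :=
    ⟨h.Z_le_up R', preimageAlong_le R', by rw [h.dn_up (hc.1.1.trans h.U'_le)]; exact hc.1⟩
  refine (mem_autGroup_iff_hom hc.1.1).2 ⟨(mem_autGroup_iff_hom hc.1.1).1 hα, ?_⟩
  exact ⟨up θ R', g, LiftIso.aut hR le_rfl g hg g (fun _ => rfl),
    fun x hx hm hy => hgo x hx hy hm⟩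

/-- Every isomorphism of the subsystem lifts. -/
theorem exists_lift [Finite S] [Fact p.Prime] {P Q : Subgroup Ω} (hP : P ≤ up θ U') (hZP : Z ≤ P)
    (hQ : Q ≤ up θ U') (hZQ : Z ≤ Q) {e' : (dn θ P) ≃* (dn θ Q)} (he' : IsFIso E' e') :
    ∃ e : P ≃* Q, LiftIso C Z θ E' p e ∧ Over θ e e' := by
  have hPS := hP.trans (preimageAlong_le U')
  have hQS := hQ.trans (preimageAlong_le U')
  obtain ⟨-, W, f, hf, hfx⟩ := h.le_liftedSystem _ he'
  have hpre : up θ (dn θ P) = P := h.up_dn hPS hZP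
  have hWS : W ≤ S := (h.liftIso_le hf).2.trans (preimageAlong_le U')
  have hWQ : W = Q := by
    have hZW : Z ≤ W := h.Z_le_of_iso (h.Z_le_up _) (h.liftIso_isFIso hf)
    refine le_antisymm (fun w hw => ?_) (fun q hq => ?_)
    · obtain ⟨hxS, hxm⟩ := mem_preimageAlong.1 (f.symm ⟨w, hw⟩).2
      have h1 := hfx _ hxS hxm (by rw [MulEquiv.apply_symm_apply]; exact hWS hw)
      refine (h.mem_dn_iff hQS hZQ (hWS hw)).1 ?_
      have h2 : (⟨(f (f.symm ⟨w, hw⟩) : Ω), by rw [MulEquiv.apply_symm_apply]; exact hWS hw⟩ : S) =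
          ⟨w, hWS hw⟩ := Subtype.ext (congrArg Subtype.val (f.apply_symm_apply ⟨w, hw⟩) :)
      rw [← h2, ← h1]
      exact (e' _).2
    · obtain ⟨x, hx, hxP, hxe⟩ := h.dn_mem (e'.symm ⟨_, apply_mem_imageAlong (hQS hq) hq⟩).2
      have hxm : x ∈ up θ (dn θ P) := hpre.ge hxP
      have h1 := hfx ⟨x, hxm⟩ hx (apply_mem_imageAlong _ hxP) (hWS (f _).2)
      refine (h.mem_dn_iff hWS hZW (hQS hq)).1 ?_
      have h2 : (⟨_, apply_mem_imageAlong hx hxP⟩ : dn θ P) =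
          e'.symm ⟨_, apply_mem_imageAlong (hQS hq) hq⟩ := Subtype.ext hxe
      rw [h2] at h1
      simp only [MonoidHom.coe_comp, Subgroup.coe_subtype, MulEquiv.coe_toMonoidHom,
        Function.comp_apply, MulEquiv.apply_symm_apply] at h1
      rw [h1]
      exact apply_mem_imageAlong _ (f _).2
  subst hWQ
  refine ⟨(MulEquiv.subgroupCongr hpre.symm).trans f, hf.restrict hpre.ge _ (fun x => rfl),
    fun x hx hy hm => ?_⟩
  exact hfx ⟨x, hpre.ge x.2⟩ hx hm hy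

end LSetting

end CfsgLib.Fusion.CentralLift
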