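import Cfsg.Agent.Lib.Fusion.CentralLift.Saturated
import Cfsg.Agent.Lib.Fusion.Invariant
import Cfsg.Agent.S5251

/-!
The lift is a normal subsystem.
-/

set_option autoImplicit false
open Cfsg Cfsg.FusionSystem CfsgLib.Fusion CfsgLib.FusionQuot

namespace CfsgLib.Fusion.CentralLift

variable {Ω Ω' : Type*} [Group Ω] [Group Ω'] {S Z : Subgroup Ω} {C : Cfsg.FusionSystem S}
  {S' U' : Subgroup Ω'} {θ : S →* Ω'} {C' : Cfsg.FusionSystem S'} {E' : Cfsg.FusionSystem U'}
  {p : ℕ}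

namespace Setting

variable (h : Setting C Z θ C' p)
include h

/-- The image of a centric radical subgroup is centric radical. -/
theorem centric_radical_down [Finite S] [Fact p.Prime] {X : Subgroup Ω} (hXc : C.IsCentric X)
    (hXr : C.IsRadical p X) : Z ≤ X ∧ C'.IsCentric (dn θ X) ∧ C'.IsRadical p (dn θ X) := by
  have := h.finite'
  have hXS := hXc.1
  have hZX : Z ≤ X := h.le_center.trans (center_le_of_centric hXc)
  have : Finite X := finite_of_le hXS
  have : Finite (MulAut X) := finite_mulAut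
  have : Finite (dn θ X) := finite_of_le (h.dn_le X)
  have : Finite (MulAut (dn θ X)) := finite_mulAut
  choose π hπo using fun a : C.autGroup X => h.exists_autDown hXS hZX a
  let f : C.autGroup X →* C'.autGroup (dn θ X) :=
    { toFun := π
      map_one' := Subtype.ext (h.over_unique hXS hXS (hπo 1) (over_refl θ X _))
      map_mul' := fun a b => Subtype.ext (h.over_unique hXS hXS (hπo (a * b))
        (Over.trans (hπo b) (hπo a) hXS)) }
  have hsurj : Function.Surjective f := by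
    intro β
    obtain ⟨b, hb, hbo⟩ := h.exists_up hXS hZX hXS hZX ((mem_autGroup_iff (h.dn_le X)).1 β.2)
    exact ⟨⟨b, (mem_autGroup_iff hXS).2 hb⟩, Subtype.ext (h.over_unique hXS hXS (hπo _) hbo)⟩
  -- automorphisms displacing into `Z` form a normal `p`-subgroup
  have hker : ∀ a : C.autGroup X, a ∈ f.ker → ∀ x : X, (x : Ω)⁻¹ * ((a : MulAut X) x : X) ∈ Z := by
    intro a ha x
    have h1 : (π a : MulAut (dn θ X)) = 1 := congrArg Subtype.val ha
    exact h.disp_of_over hXS hXS (e := (1 : MulAut X)) (f := (a : MulAut X))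
      (e' := (1 : MulAut (dn θ X))) (fun _ _ _ _ => rfl) (h1 ▸ hπo a) x
  have hkerp : IsPGroup p f.ker := by
    refine Stability.isPGroup_of_coprime_eq_one fun a ha =>
      Subtype.ext (Subtype.ext (MulEquiv.ext fun x => ?_))
    refine Stability.eq_self_of_disp_fixed (isPGroup_of_le h.pGroup hXS) _
      (by rw [Subgroup.orderOf_coe, Subgroup.orderOf_coe]; exact ha) (Subtype.ext ?_)
    exact h.fix ((mem_autGroup_iff_hom hXS).1 a.1.2) _ (hker a.1 a.2 x)
  have hinn : ∀ a : C.autGroup X, (a : MulAut X) ∈ Cfsg.Inn X →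
      (f a : MulAut (dn θ X)) ∈ Cfsg.Inn (dn θ X) := by
    intro a ha
    rw [inn_eq_autInducedBy] at ha ⊢
    obtain ⟨u, hu, huX, hau⟩ := exists_eq_conjAut ha
    refine mem_autInducedBy_iff.2 ⟨θ ⟨u, hXS huX⟩, apply_mem_imageAlong _ huX, ?_⟩
    rintro ⟨y, hy⟩
    obtain ⟨x, hx, hxX, rfl⟩ := h.dn_mem hy
    refine (hπo a ⟨x, hxX⟩ hx (hXS (Subtype.prop _)) hy).trans ?_
    show _ = θ ⟨u, hXS huX⟩ * θ ⟨x, hx⟩ * (θ ⟨u, hXS huX⟩)⁻¹
    rw [← map_inv, ← map_mul, ← map_mul]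
    refine congrArg θ (Subtype.ext ?_)
    show (((a : MulAut X) ⟨x, hxX⟩ : X) : Ω) = u * x * u⁻¹
    rw [hau]
    rfl
  refine ⟨hZX, ⟨h.dn_le X, fun Q' hQ' c' hc' => ?_⟩, h.dn_le X, le_antisymm ?_ ?_⟩
  · have hQ'S := isConj_le_right hQ'
    have hQdn : dn θ (up θ Q') = Q' := h.dn_up hQ'S
    set Q := up θ Q' with hQdef
    obtain ⟨e', he'⟩ := exists_iso_of_isConj (show C'.IsConj (dn θ X) (dn θ Q) by rwa [hQdn])
    obtain ⟨e, he, -⟩ := h.exists_up hXS hZX (h.up_le Q') (h.Z_le_up Q') he'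
    obtain ⟨⟨c, hcS⟩, rfl⟩ := h.range_eq.ge hc'.1
    have hQS : Q ≤ S := h.up_le Q'
    have hcn : c ∈ Subgroup.normalizer (Q : Set Ω) := by
      refine (h.mem_normalizer_iff hQS (h.Z_le_up Q') hcS).2 ?_
      rw [hQdn]
      exact centralizer_le_normalizer Q' hc'.2
    set α := conjAut Q c hcn with hα
    have hαC : α ∈ C.autGroup Q := autInducedBy_le_autGroup C hQS (conjAut_mem_autInducedBy hcS hcn)
    set β : C.autGroup X := ⟨MulAut.congr e.symm α, IsFIso.congr_mem he.symm hαC⟩ with hβ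
    have hβd : ∀ x : X, (x : Ω)⁻¹ * ((β : MulAut X) x : X) ∈ Z := by
      intro x
      show (x : Ω)⁻¹ * (e.symm (α (e x)) : Ω) ∈ Z
      set y := e x with hy
      have hyS : (y : Ω) ∈ S := hQS y.2
      have hz : ((y⁻¹ * α y : Q) : Ω) ∈ Z := by
        show (y : Ω)⁻¹ * (c * y * c⁻¹) ∈ Z
        refine (h.ker ((⟨y, hyS⟩ : S)⁻¹ * (⟨c, hcS⟩ * ⟨y, hyS⟩ * ⟨c, hcS⟩⁻¹))).1 ?_
        have hcy := Subgroup.mem_centralizer_iff.1 hc'.2 _ (mem_preimageAlong.1 y.2).2
        rw [map_mul, map_mul, map_mul, map_inv, map_inv, ← hcy, mul_inv_cancel_right, inv_mul_cancel]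
      have h1 : (e.symm (y⁻¹ * α y) : Ω) = ((y⁻¹ * α y : Q) : Ω) := h.fix he.symm _ hz
      rw [map_mul, map_inv, hy, MulEquiv.symm_apply_apply] at h1
      rw [show (x : Ω)⁻¹ * (e.symm (α y) : Ω) = _ from h1]
      exact hz
    have hβk : β ∈ f.ker := by
      refine Subtype.ext (h.over_unique hXS hXS (hπo β) fun x hx hy hm => ?_)
      show θ ⟨x, hx⟩ = θ ⟨((β : MulAut X) x : X), hy⟩
      rw [← inv_mul_eq_one, ← map_inv, ← map_mul]
      exact (h.ker _).2 (hβd x)
    have hβI : (β : MulAut X) ∈ Cfsg.Inn X :=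
      hXr.2.le ⟨β, CfsgLib.Solvable.le_pCore inferInstance hkerp hβk, rfl⟩
    have h2 : α ∈ Cfsg.Inn Q := by
      have h3 := LSetting.inn_transport e hβI
      have h4 : MulAut.congr e (MulAut.congr e.symm α) = α := MulEquiv.ext fun x => by simp
      rwa [h4] at h3
    rw [inn_eq_autInducedBy] at h2
    obtain ⟨q, hq, hqQ, hαq⟩ := exists_eq_conjAut h2
    have hcent : q⁻¹ * c ∈ centralizerIn S Q := by
      refine ⟨S.mul_mem (S.inv_mem (hQS hqQ)) hcS, Subgroup.mem_centralizer_iff.2 fun y hy => ?_⟩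
      have h5 : c * y * c⁻¹ = q * y * q⁻¹ :=
        congrArg (fun a : MulAut Q => ((a ⟨y, hy⟩ : Q) : Ω)) hαq
      calc y * (q⁻¹ * c) = q⁻¹ * (q * y * q⁻¹) * c := by group
        _ = q⁻¹ * (c * y * c⁻¹) * c := by rw [h5]
        _ = q⁻¹ * c * y := by group
    have h6 : c ∈ Q := by simpa using Q.mul_mem hqQ (hXc.2 Q he.isConj hcent)
    exact (mem_preimageAlong.1 h6).2
  · rintro _ ⟨β, hβ, rfl⟩
    obtain ⟨a, rfl⟩ := hsurj β
    refine hinn a (hXr.2.le ⟨a, CfsgLib.Solvable.le_pCore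
      ((CfsgLib.Solvable.pCore_normal p _).comap f) ?_ hβ, rfl⟩)
    exact (CfsgLib.Solvable.pCore_isPGroup (p := p) _).comap_of_ker_isPGroup f hkerp
  · exact SatCriterion.inn_le_coreAut h.pGroup' (h.dn_le X)

end Setting

namespace LSetting

variable (h : LSetting C Z θ C' E' p)
include h

/-- Invariance under the automorphisms of the preimage. -/
theorem liftIso_transport [Finite S] {α : MulAut (up θ U')} (hα : α ∈ C.autGroup (up θ U'))
    {P Q : Subgroup Ω} {e : P ≃* Q} (he : LiftIso C Z θ E' p e) :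
    ∀ (hP : P ≤ up θ U') (hQ : Q ≤ up θ U') {P₁ Q₁ : Subgroup Ω} (a : P ≃* P₁) (b : Q ≃* Q₁),
      (∀ x : P, (a x : Ω) = (α ⟨x, hP x.2⟩ : up θ U')) →
      (∀ x : Q, (b x : Ω) = (α ⟨x, hQ x.2⟩ : up θ U')) →
      LiftIso C Z θ E' p ((a.symm.trans e).trans b) := by
  have hαC : ((up θ U').subtype.comp α.toMonoidHom) ∈ C.Hom (up θ U') :=
    (mem_autGroup_iff_hom (preimageAlong_le U')).1 hα
  induction he with
  | @aut R P Q hR hPR g hg e hx =>
    intro hP hQ P₁ Q₁ a b ha hb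
    have hRU := h.fam_le hR
    obtain ⟨r, hr, hrx⟩ := exists_iso (restrict_mem hαC hRU) rfl
    have hg₂ : MulAut.congr r g ∈ gens C θ E' p _ :=
      h.gens_transport hR hr (fun c hc => h.congr_autInducedBy_of_extends hαC hRU
        (normalizerIn_le _ _) (fun x => (hrx x).symm) hc) hg
    have hP₁ : P₁ ≤ ((((up θ U').subtype.comp α.toMonoidHom)).comp (Subgroup.inclusion hRU)).range := by
      intro y hy
      refine ⟨⟨_, hPR (a.symm ⟨y, hy⟩).2⟩, ?_⟩
      have h1 := ha (a.symm ⟨y, hy⟩)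
      rw [MulEquiv.apply_symm_apply] at h1
      exact h1.symm
    refine LiftIso.aut (h.fam_transport hR hr) hP₁ _ hg₂ _ fun y => ?_
    rw [MulEquiv.trans_apply, MulEquiv.trans_apply, hb, congr_apply]
    have h2 : r.symm ⟨(y : Ω), hP₁ y.2⟩ = ⟨_, hPR (a.symm y).2⟩ := by
      rw [MulEquiv.symm_apply_eq]
      refine Subtype.ext ?_
      have h1 := ha (a.symm y)
      rw [MulEquiv.apply_symm_apply] at h1
      exact h1.trans (hrx ⟨_, hPR (a.symm y).2⟩).symm
    rw [h2, hrx]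
    exact congrArg (fun z : up θ U' => ((α z : up θ U') : Ω)) (Subtype.ext (hx (a.symm y)))
  | @trans P Q W e f he hf ihe ihf =>
    intro hP hW P₁ W₁ a b ha hb
    have hQ : Q ≤ up θ U' := (h.liftIso_le he).2
    obtain ⟨c, -, hcx⟩ := exists_iso (restrict_mem hαC hQ) rfl
    have h1 := (ihe hP hQ a c ha fun x => hcx x).trans (ihf hQ hW c b (fun x => hcx x) hb)
    have h2 : (a.symm.trans (e.trans f)).trans b =
        ((a.symm.trans e).trans c).trans ((c.symm.trans f).trans b) :=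
      MulEquiv.ext fun y => by
        show b (f (e (a.symm y))) = b (f (c.symm (c (e (a.symm y)))))
        rw [MulEquiv.symm_apply_apply]
    rw [h2]
    exact h1

theorem autInvariant_lift [Finite S] : IsAutInvariant (liftSystem h) C := by
  intro P hPU φ hφ α hα
  obtain ⟨Q, e, he, hex⟩ := hφ
  have hQU : Q ≤ up θ U' := (h.liftIso_le he).2
  have hαC : ((up θ U').subtype.comp α.toMonoidHom) ∈ C.Hom (up θ U') :=
    (mem_autGroup_iff_hom (preimageAlong_le U')).1 hα
  obtain ⟨a, -, hax⟩ := exists_iso (restrict_mem hαC hPU)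
    (range_comp_inclusion (φ := (up θ U').subtype.comp α.toMonoidHom) hPU)
  obtain ⟨b, -, hbx⟩ := exists_iso (restrict_mem hαC hQU) rfl
  refine ⟨_, (isFIso_liftSystem h).2
    (h.liftIso_transport hα he hPU hQU a b (fun x => hax x) fun x => hbx x), fun x hφx hαx => ?_⟩
  show (((a.symm.trans e).trans b) ⟨_, hαx⟩ : Ω) = _
  have h1 : a.symm ⟨_, hαx⟩ = x := by
    rw [MulEquiv.symm_apply_eq]
    exact Subtype.ext (hax x).symm
  rw [MulEquiv.trans_apply, MulEquiv.trans_apply, h1, hbx]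
  exact congrArg (fun z : up θ U' => ((α z : up θ U') : Ω)) (Subtype.ext (hex x).symm)

/-- Pure factorization up to a displacement. -/
theorem exists_pure [Finite S] [Fact p.Prime] {P Q : Subgroup Ω} (hZ : Z ≤ P) (hP : P ≤ up θ U')
    {e : P ≃* Q} (he : IsFIso C e) :
    ∃ e₁ : P ≃* Q, IsFIso C e₁ ∧ Factors (liftSystem h) C (Q.subtype.comp e₁.toMonoidHom) ∧
      (e.trans e₁.symm : MulAut P) ∈ disp C Z P := by
  have hPS := hP.trans (preimageAlong_le U')
  have hQS := he.le_right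
  have hQU : Q ≤ up θ U' := fun y hy => by
    have h1 := stronglyClosed_apply_mem h.sc he (e.symm ⟨y, hy⟩) (hP (e.symm ⟨y, hy⟩).2)
    simpa using h1
  have hZQ := h.Z_le_of_iso hZ he
  have hP'U : dn θ P ≤ U' := (imageAlong_mono hP).trans h.dn_up_U.le
  obtain ⟨e', he', heo⟩ := h.exists_down hZ he
  obtain ⟨α', hα', φ₀', hφ₀', hfac⟩ := h.inv.2.2.2 (dn θ P) hP'U _ he'
  obtain ⟨f', hf', hf'x⟩ := exists_iso hφ₀' rfl
  have hW'U : φ₀'.range ≤ U' := hf'.le_right
  set W := up θ φ₀'.range with hW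
  have hWdn : dn θ W = φ₀'.range := h.dn_up (hW'U.trans h.U'_le)
  have hWU : W ≤ up θ U' := preimageAlong_mono hW'U
  obtain ⟨f'', hf'', hf''x⟩ := exists_iso (Q := dn θ W) hφ₀' hWdn.symm
  obtain ⟨k, hk, hko⟩ := h.exists_lift hP hZ hWU (h.Z_le_up _) hf''
  obtain ⟨α₁', hα₁', hα₁v⟩ := cast_autGroup h.dn_up_U.symm hα'
  obtain ⟨α, hα, hαo⟩ := h.exists_up (preimageAlong_le U') (h.Z_le_up U') (preimageAlong_le U')
    (h.Z_le_up U') ((mem_autGroup_iff (h.dn_le _)).1 hα₁')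
  have hαA : (α : MulAut (up θ U')) ∈ C.autGroup (up θ U') :=
    (mem_autGroup_iff (preimageAlong_le U')).2 hα
  obtain ⟨T, a, ha, hax⟩ : ∃ (T : Subgroup Ω) (a : W ≃* T), IsFIso C a ∧
      ∀ w : W, (a w : Ω) = ((α ⟨w, hWU w.2⟩ : up θ U') : Ω) := by
    obtain ⟨a, ha, hax⟩ := exists_iso (restrict_mem (show _ ∈ C.Hom (up θ U') from hα) hWU) rfl
    exact ⟨_, a, ha, fun w => hax w⟩
  -- the composite has the same image as `e`
  have himg : ∀ (x : P) (hy : ((a (k x)) : Ω) ∈ S),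
      θ ⟨(a (k x) : Ω), hy⟩ = θ ⟨(e x : Ω), hQS (e x).2⟩ := by
    intro x hy
    have hm : θ ⟨(x : Ω), hPS x.2⟩ ∈ dn θ P := apply_mem_imageAlong _ x.2
    have hkS : (k x : Ω) ∈ S := preimageAlong_le U' (hWU (k x).2)
    rw [← heo x (hPS x.2) (hQS (e x).2) hm]
    have h1 := hko x (hPS x.2) hkS hm
    rw [hf''x] at h1
    have hmU : θ ⟨(k x : Ω), hkS⟩ ∈ U' := h1 ▸ map_mem hφ₀' _
    have hmU₂ : θ ⟨(k x : Ω), hkS⟩ ∈ dn θ (up θ U') := apply_mem_imageAlong _ (hWU (k x).2)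
    have h2 := hfac ⟨_, hm⟩ (h1 ▸ hmU)
    refine Eq.trans ?_ h2.symm
    rw [show (⟨φ₀' ⟨_, hm⟩, h1 ▸ hmU⟩ : U') = ⟨_, hmU⟩ from Subtype.ext h1]
    rw [← hα₁v ⟨_, hmU₂⟩ ⟨_, hmU⟩ rfl]
    refine Eq.trans ?_ (hαo ⟨(k x : Ω), hWU (k x).2⟩ hkS
      (preimageAlong_le U' (α _).2) hmU₂).symm
    exact congrArg θ (Subtype.ext (hax (k x)))
  have hTS : T ≤ S := ha.le_right
  have hTQ : T = Q := by
    have hFQ : Finite Q := finite_of_le hQS
    refine Subgroup.eq_of_le_of_card_ge (fun y hy => ?_) ?_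
    · obtain ⟨x, hx⟩ := (k.trans a).surjective ⟨y, hy⟩
      have h1 := himg x (hTS (a (k x)).2)
      refine (h.mem_dn_iff hQS hZQ (hTS hy)).1 ?_
      have h2 : (⟨(a (k x) : Ω), hTS (a (k x)).2⟩ : S) = ⟨y, hTS hy⟩ :=
        Subtype.ext (congrArg Subtype.val hx :)
      rw [← h2, h1]
      exact apply_mem_imageAlong _ (e x).2
    · rw [← Nat.card_congr e.toEquiv, ← Nat.card_congr (k.trans a).toEquiv]
  obtain ⟨b, hb, hbx⟩ : ∃ b : W ≃* Q, IsFIso C b ∧ ∀ w : W, (b w : Ω) = a w :=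
    ⟨a.trans (MulEquiv.subgroupCongr hTQ), ha.trans (mem_of_restrict (subtype_mem C hTS) le_rfl _
      fun _ => rfl), fun w => rfl⟩
  refine ⟨k.trans b, (h.liftIso_isFIso hk).trans hb, ?_, ?_⟩
  · refine ⟨α, hαA, W.subtype.comp k.toMonoidHom, ⟨W, k, hk, fun _ => rfl⟩, fun x hx => ?_⟩
    show (b (k x) : Ω) = _
    rw [hbx, hax]
    rfl
  · have hiso := (h.liftIso_isFIso hk).trans hb
    refine ⟨(mem_autGroup_iff hPS).2 (he.trans hiso.symm), fun x => ?_⟩
    show (x : Ω)⁻¹ * ((k.trans b).symm (e x) : Ω) ∈ Z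
    set y := (k.trans b).symm (e x) with hy
    have hey : (k.trans b) y = e x := by rw [hy, MulEquiv.apply_symm_apply]
    have hz : ((k.trans b) x : Ω)⁻¹ * (e x : Ω) ∈ Z := by
      refine (h.ker ((⟨_, hQS ((k.trans b) x).2⟩ : S)⁻¹ * ⟨_, hQS (e x).2⟩)).1 ?_
      rw [map_mul, map_inv, inv_mul_eq_one]
      have h1 := himg x (hTS (a (k x)).2)
      refine Eq.trans (congrArg θ (Subtype.ext ?_)) h1
      exact hbx (k x)
    have hzQ : ((((k.trans b) x)⁻¹ * e x : Q) : Ω) ∈ Z := hz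
    have h3 : ((k.trans b).symm (((k.trans b) x)⁻¹ * e x) : Ω) = _ := h.fix hiso.symm _ hzQ
    rw [map_mul, map_inv, MulEquiv.symm_apply_apply] at h3
    exact (show (x : Ω)⁻¹ * (y : Ω) = _ from h3) ▸ hz

theorem factors_disp [Finite S] [Fact p.Prime] {P : Subgroup Ω} (hP : Fam Z θ E' P) {d : MulAut P}
    (hd : d ∈ disp C Z P) : Factors (liftSystem h) C (P.subtype.comp d.toMonoidHom) := by
  have hPU := h.fam_le hP
  have hinv := h.autInvariant_lift
  have hUS : up θ U' ≤ S := preimageAlong_le U'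
  obtain ⟨R, hPR, hRn⟩ := exists_isFullyNormalized C hP.2.1
  obtain ⟨e₀, he₀⟩ := exists_iso_of_isConj hPR
  obtain ⟨e, he, hef, -⟩ := h.exists_pure hP.1 hPU he₀
  have hR : Fam Z θ E' R := h.fam_transport hP he
  have hRU := h.fam_le hR
  obtain ⟨s, hs, hsS, hse⟩ := exists_eq_conjAut (h.exists_conj_of_disp hRn (h.disp_transport he hd))
  have hsU : s ∈ Subgroup.normalizer ((up θ U' : Subgroup Ω) : Set Ω) :=
    stronglyClosed_le_normalizer h.sc hsS
  have hmid : Factors (liftSystem h) C (R.subtype.comp (conjAut R s hs).toMonoidHom) :=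
    ⟨conjAut (up θ U') s hsU, autInducedBy_le_autGroup C hUS (conjAut_mem_autInducedBy hsS hsU),
      R.subtype, subtype_mem _ hRU, fun x hx => rfl⟩
  have hsymm : Factors (liftSystem h) C (P.subtype.comp e.symm.toMonoidHom) :=
    factors_symm hinv hUS h.sc he hPU hef
  have h1 : Factors (liftSystem h) C
      (R.subtype.comp (e.trans (conjAut R s hs : R ≃* R)).toMonoidHom) :=
    factors_comp hinv hUS (φ := R.subtype.comp e.toMonoidHom) (fun x => (e x).2) _
      (fun x => rfl) hef hmid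
  refine factors_comp hinv hUS (φ := R.subtype.comp (e.trans (conjAut R s hs : R ≃* R)).toMonoidHom)
    (fun x => ((e.trans (conjAut R s hs : R ≃* R)) x).2) _ (fun x => ?_) h1 hsymm
  show ((d x : P) : Ω) = (e.symm (conjAut R s hs (e x)) : Ω)
  rw [← hse, congr_apply, MulEquiv.symm_apply_apply, MulEquiv.symm_apply_apply]

theorem factors_fam [Finite S] [Fact p.Prime] {P Q : Subgroup Ω} (hP : Fam Z θ E' P) {e : P ≃* Q}
    (he : IsFIso C e) : Factors (liftSystem h) C (Q.subtype.comp e.toMonoidHom) := by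
  obtain ⟨e₁, he₁, hf₁, hd⟩ := h.exists_pure hP.1 (h.fam_le hP) he
  refine factors_comp h.autInvariant_lift (preimageAlong_le U')
    (φ := P.subtype.comp (e.trans e₁.symm).toMonoidHom) (fun x => ((e.trans e₁.symm) x).2) _
    (fun x => ?_) (h.factors_disp hP hd) hf₁
  show (e x : Ω) = (e₁ (e₁.symm (e x)) : Ω)
  rw [MulEquiv.apply_symm_apply]

end LSetting

/-- The maps of the ambient system factoring on their trace on the preimage. -/
noncomputable def traceSystem [Finite S] (h : LSetting C Z θ C' E' p) : Cfsg.FusionSystem S where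
  Hom X := {φ | φ ∈ C.Hom X ∧ Factors (liftSystem h) C
    (φ.comp (Subgroup.inclusion (inf_le_left : X ⊓ up θ U' ≤ X)))}
  le_of_mem hφ := C.le_of_mem hφ.1
  injective_of_mem hφ := C.injective_of_mem hφ.1
  conj_mem := by
    intro X g hX hg
    have hgU : g ∈ Subgroup.normalizer ((up θ U' : Subgroup Ω) : Set Ω) :=
      stronglyClosed_le_normalizer h.sc hg
    exact ⟨C.conj_mem hX hg, conjAut (up θ U') g hgU,
      autInducedBy_le_autGroup C (preimageAlong_le U') (conjAut_mem_autInducedBy hg hgU),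
      (X ⊓ up θ U').subtype, subtype_mem _ inf_le_right, fun x hx => rfl⟩
  comp_mem := by
    rintro X Y φ ψ ⟨hφ, hφf⟩ ⟨hψ, hψf⟩ hle
    refine ⟨C.comp_mem hφ hψ hle, ?_⟩
    refine factors_comp h.autInvariant_lift (preimageAlong_le U')
      (φ := φ.comp (Subgroup.inclusion (inf_le_left : X ⊓ up θ U' ≤ X)))
      (fun x => Subgroup.mem_inf.2 ⟨hle _, stronglyClosed_apply_mem h.sc hφ _ x.2.2⟩) _ (fun x => rfl) hφf hψf
  inv_mem := by
    rintro X φ ⟨hφ, hφf⟩
    obtain ⟨ψ, hψ, hψx⟩ := C.inv_mem hφ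
    refine ⟨ψ, ⟨hψ, ?_⟩, hψx⟩
    have hr : (φ.comp (Subgroup.inclusion (inf_le_left : X ⊓ up θ U' ≤ X))).range =
        φ.range ⊓ up θ U' := by
      ext y
      constructor
      · rintro ⟨x, rfl⟩
        exact ⟨⟨_, rfl⟩, stronglyClosed_apply_mem h.sc hφ _ x.2.2⟩
      · rintro ⟨⟨x, rfl⟩, hy⟩
        have h1 := stronglyClosed_apply_mem h.sc hψ ⟨φ x, x, rfl⟩ hy
        rw [hψx] at h1
        exact ⟨⟨x, x.2, h1⟩, rfl⟩
    obtain ⟨e, he, hex⟩ := exists_iso (restrict_mem hφ (inf_le_left : X ⊓ up θ U' ≤ X)) hr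
    have hφf' : Factors (liftSystem h) C ((φ.range ⊓ up θ U').subtype.comp e.toMonoidHom) :=
      factors_restrict le_rfl _ (fun x => hex x) hφf
    refine factors_restrict le_rfl _ (fun y => ?_)
      (factors_symm h.autInvariant_lift (preimageAlong_le U') h.sc he inf_le_right hφf')
    show ψ ⟨(y : Ω), _⟩ = (e.symm y : Ω)
    obtain ⟨x, rfl⟩ := e.surjective y
    rw [MulEquiv.symm_apply_apply, ← hψx ⟨(x : Ω), x.2.1⟩]
    exact congrArg ψ (Subtype.ext (hex x))

namespace LSetting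

variable (h : LSetting C Z θ C' E' p)
include h

theorem frattini_lift [Finite S] [Fact p.Prime] {P : Subgroup Ω} (hP : P ≤ up θ U') {φ : P →* Ω}
    (hφ : φ ∈ C.Hom P) : Factors (liftSystem h) C φ := by
  have := h.finite'
  suffices hle : C ≤ traceSystem h by
    obtain ⟨-, h1⟩ := hle P hφ
    exact factors_restrict (le_inf le_rfl hP) φ (fun x => rfl) h1
  refine alperin h.pGroup h.sat _ fun X hX β hβ => ?_
  have hXS : X ≤ S := by
    rcases hX with rfl | hess
    exacts [le_rfl, hess.1.1]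
  refine (mem_autGroup_iff_hom hXS).2 ⟨(mem_autGroup_iff_hom hXS).1 hβ, ?_⟩
  have hcr : C.IsCentric X ∧ C.IsRadical p X := by
    rcases hX with rfl | hess
    · exact ⟨isCentric_top C, isRadical_top h.pGroup h.sat⟩
    · exact ⟨hess.1, isRadical_of_isEssential h.pGroup h.sat hess⟩
  obtain ⟨hZX, hX'c, hX'r⟩ := h.centric_radical_down hcr.1 hcr.2
  have hfam : Fam Z θ E' (X ⊓ up θ U') := by
    refine ⟨le_inf hZX (h.Z_le_up U'), inf_le_left.trans hXS, ?_⟩
    rw [h.dn_inf (preimageAlong_le U') (h.Z_le_up U'), h.dn_up_U]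
    by_contra hnc
    exact (Agent.S5251.result p h.pGroup' C' h.sat' E' h.nor (dn θ X) hX'c hnc).2 hX'r
  obtain ⟨e, he, hex⟩ := exists_iso (restrict_mem ((mem_autGroup_iff_hom hXS).1 hβ)
    (inf_le_left : X ⊓ up θ U' ≤ X)) rfl
  exact factors_restrict le_rfl _ (fun x => (hex x).symm) (h.factors_fam hfam he)

/-- The extension condition. -/
theorem extension_lift [Finite S] [Fact p.Prime] {a : MulAut (up θ U')}
    (ha : a ∈ (liftSystem h).autGroup (up θ U')) :
    ∃ β ∈ C.autGroup (up θ U' ⊔ centralizerIn S (up θ U')),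
      (∀ x : up θ U', ((β (Subgroup.inclusion le_sup_left x) :
        ↥(up θ U' ⊔ centralizerIn S (up θ U'))) : Ω) = ((a x : up θ U') : Ω)) ∧
      ∀ c : ↥(up θ U' ⊔ centralizerIn S (up θ U')), (c : Ω) ∈ centralizerIn S (up θ U') →
        (c : Ω)⁻¹ * ((β c : ↥(up θ U' ⊔ centralizerIn S (up θ U'))) : Ω) ∈
          up θ U' ⊓ Subgroup.centralizer ((up θ U' : Subgroup Ω) : Set Ω) := by
  obtain ⟨g, hg, hgx⟩ := h.normExt_top ((mem_autGroup_liftSystem h le_rfl).1 ha) le_rfl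
  obtain rfl : a = g := MulEquiv.ext fun x => Subtype.ext (hgx x x.2)
  clear ha hgx
  set U := up θ U' with hU
  set M := U ⊔ centralizerIn S U with hM
  have hUS : U ≤ S := preimageAlong_le U'
  have hMS : M ≤ S := sup_le hUS (centralizerIn_le S U)
  have : Finite M := finite_of_le hMS
  have : Finite U := finite_of_le hUS
  have : Finite (MulAut U) := finite_mulAut
  have hfamU : Fam Z θ E' U := h.fam_U
  -- the automorphisms with such an extension form a subgroup
  let G : Subgroup (MulAut U) :=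
    { carrier := {a | ∃ β ∈ C.autGroup M,
        (∀ x : U, ((β (Subgroup.inclusion le_sup_left x) : M) : Ω) = ((a x : U) : Ω)) ∧
        ∀ c : M, (c : Ω) ∈ centralizerIn S U →
          (c : Ω)⁻¹ * ((β c : M) : Ω) ∈ U ⊓ Subgroup.centralizer (U : Set Ω)}
      one_mem' := ⟨1, one_mem _, fun _ => rfl, fun c _ => by simp⟩
      mul_mem' := by
        rintro a b ⟨β, hβ, hβx, hβc⟩ ⟨γ, hγ, hγx, hγc⟩
        refine ⟨β * γ, mul_mem hβ hγ, fun x => ?_, fun c hc => ?_⟩
        · show ((β (γ (Subgroup.inclusion le_sup_left x)) : M) : Ω) = ((a (b x) : U) : Ω)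
          rw [← hβx (b x)]
          exact congrArg (fun z : M => ((β z : M) : Ω)) (Subtype.ext (hγx x))
        · have hz := hγc c hc
          have h1 : γ c = c * Subgroup.inclusion le_sup_left (⟨_, hz.1⟩ : U) :=
            Subtype.ext (mul_inv_cancel_left _ _).symm
          show (c : Ω)⁻¹ * ((β (γ c) : M) : Ω) ∈ _
          rw [h1, map_mul, Subgroup.coe_mul, hβx, ← mul_assoc]
          refine Subgroup.mul_mem _ (hβc c hc) ⟨(a _).2, Subgroup.mem_centralizer_iff.2 fun y hy => ?_⟩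
          obtain ⟨x, hx⟩ := a.surjective ⟨y, hy⟩
          have h2 : x * ⟨_, hz.1⟩ = ⟨_, hz.1⟩ * x :=
            Subtype.ext (Subgroup.mem_centralizer_iff.1 hz.2 _ x.2)
          have h3 := congrArg (fun z : U => ((a z : U) : Ω)) h2
          simp only [map_mul, hx, Subgroup.coe_mul] at h3
          exact h3
      inv_mem' := by
        rintro a ⟨β, hβ, hβx, hβc⟩
        refine ⟨β⁻¹, inv_mem hβ, fun x => ?_, fun c hc => ?_⟩
        · have h1 : β (Subgroup.inclusion le_sup_left (a⁻¹ x)) = Subgroup.inclusion le_sup_left x :=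
            Subtype.ext ((hβx _).trans (by rw [MulAut.apply_inv_self]; rfl))
          rw [← h1, MulAut.inv_apply_self]
          rfl
        · have hz := hβc c hc
          have h1 : β c = c * Subgroup.inclusion le_sup_left (⟨_, hz.1⟩ : U) :=
            Subtype.ext (mul_inv_cancel_left _ _).symm
          have h2 : β (Subgroup.inclusion le_sup_left (a⁻¹ ⟨_, hz.1⟩)) =
              Subgroup.inclusion le_sup_left (⟨_, hz.1⟩ : U) :=
            Subtype.ext ((hβx _).trans (by rw [MulAut.apply_inv_self]; rfl))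
          set z : U := ⟨_, hz.1⟩ with hzdef
          have h3 : β⁻¹ c = c * (Subgroup.inclusion le_sup_left (a⁻¹ z))⁻¹ := by
            apply β.injective
            rw [MulAut.apply_inv_self, map_mul, map_inv, h1, h2, mul_inv_cancel_right]
          show (c : Ω)⁻¹ * ((β⁻¹ c : M) : Ω) ∈ _
          rw [h3, Subgroup.coe_mul, Subgroup.coe_inv, inv_mul_cancel_left]
          refine ⟨U.inv_mem (a⁻¹ z).2, Subgroup.inv_mem _ (Subgroup.mem_centralizer_iff.2 fun y hy => ?_)⟩
          have h4 : a ⟨y, hy⟩ * z = z * a ⟨y, hy⟩ :=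
            Subtype.ext (Subgroup.mem_centralizer_iff.1 hz.2 _ (a ⟨y, hy⟩).2)
          have h5 := congrArg (fun w : U => ((a⁻¹ w : U) : Ω)) h4
          simp only [map_mul, MulAut.inv_apply_self, Subgroup.coe_mul] at h5
          exact h5 }
  suffices hG : gens C θ E' p U ≤ G from hG hg
  clear hg a
  refine sup_le (fun c hc => ?_) (Subgroup.map_le_iff_le_comap.2 ((Subgroup.closure_le _).2 ?_))
  · obtain ⟨u, hu, huU, rfl⟩ := exists_eq_conjAut hc
    have huM : u ∈ M := Subgroup.mem_sup_left huU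
    refine ⟨conjAut M u (Subgroup.le_normalizer huM),
      autInducedBy_le_autGroup C hMS (conjAut_mem_autInducedBy (hUS huU) _), fun x => rfl,
      fun c hc => ?_⟩
    show (c : Ω)⁻¹ * (u * c * u⁻¹) ∈ _
    rw [Subgroup.mem_centralizer_iff.1 hc.2 u huU, mul_inv_cancel_right, inv_mul_cancel]
    exact Subgroup.one_mem _
  · intro g hg
    show (g : MulAut U) ∈ G
    obtain ⟨g', hg', hgo⟩ := g.2.2 hUS
    obtain ⟨g₂, hg₂, hg₂v⟩ := cast_autGroup (F := E') h.dn_up_U hg'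
    set W' := U' ⊔ centralizerIn S' U' with hW'
    obtain ⟨β₀, hβ₀, hβ₀U, hβ₀C⟩ : ∃ β ∈ C'.autGroup W',
        (∀ x : U', ((β (Subgroup.inclusion le_sup_left x) : W') : Ω') = ((g₂ x : U') : Ω')) ∧
        ∀ c : W', (c : Ω') ∈ centralizerIn S' U' →
          (c : Ω')⁻¹ * ((β c : W') : Ω') ∈ U' ⊓ Subgroup.centralizer (U' : Set Ω') := h.nor.2 g₂ hg₂
    have hW'S : W' ≤ S' := sup_le h.U'_le inf_le_left
    set V := up θ W' with hV
    have hVS : V ≤ S := preimageAlong_le W'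
    have : Finite V := finite_of_le hVS
    have : Finite (MulAut V) := finite_mulAut
    obtain ⟨b', hb', hbv⟩ := cast_autGroup (h.dn_up hW'S).symm hβ₀
    obtain ⟨b₀, hb₀, hb₀o⟩ := h.exists_up hVS (h.Z_le_up W') hVS (h.Z_le_up W')
      ((mem_autGroup_iff (h.dn_le _)).1 hb')
    have hUV : U ≤ V := preimageAlong_mono le_sup_left
    -- `β₀` is trivial modulo `U'`
    have htriv : ∀ w : W', (w : Ω')⁻¹ * ((β₀ w : W') : Ω') ∈ U' := by
      intro w
      have hn : centralizerIn S' U' ≤ Subgroup.normalizer (U' : Set Ω') := fun c hc =>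
        centralizer_le_normalizer U' hc.2
      have hw : (w : Ω') ∈ ((U' ⊔ centralizerIn S' U' : Subgroup Ω') : Set Ω') := w.2
      rw [Subgroup.coe_mul_of_right_le_normalizer_left U' _ hn] at hw
      obtain ⟨u, hu, c, hc, huc⟩ := hw
      have huc' : w = Subgroup.inclusion le_sup_left (⟨u, hu⟩ : U') *
          ⟨c, Subgroup.mem_sup_right hc⟩ := Subtype.ext huc.symm
      rw [huc', map_mul, Subgroup.coe_mul, Subgroup.coe_mul, hβ₀U]
      have hz := (hβ₀C ⟨c, Subgroup.mem_sup_right hc⟩ hc).1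
      show (u * c)⁻¹ * (((g₂ ⟨u, hu⟩ : U') : Ω') * _) ∈ U'
      rw [show (u * c)⁻¹ * (((g₂ ⟨u, hu⟩ : U') : Ω') * ((β₀ ⟨c, _⟩ : W') : Ω')) =
        (c⁻¹ * (u⁻¹ * ((g₂ ⟨u, hu⟩ : U') : Ω')) * c) * (c⁻¹ * ((β₀ ⟨c, Subgroup.mem_sup_right hc⟩ : W') : Ω'))
        by group]
      refine U'.mul_mem ?_ hz
      exact (Subgroup.mem_normalizer_iff''.1 (hn hc) _).1 (U'.mul_mem (U'.inv_mem hu) (g₂ _).2)
    -- automorphisms of `V` trivial modulo `U`
    let St : Subgroup (MulAut V) :=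
      { carrier := {b | ∀ v : V, (v : Ω)⁻¹ * ((b v : V) : Ω) ∈ U}
        one_mem' := fun v => by simp
        mul_mem' := fun {b c} hb hc v => by
          have h1 := U.mul_mem (hc v) (hb (c v))
          rwa [mul_assoc, mul_inv_cancel_left] at h1
        inv_mem' := fun {b} hb v => by
          have h1 := U.inv_mem (hb (b⁻¹ v))
          rwa [MulAut.apply_inv_self, mul_inv_rev, inv_inv] at h1 }
    have hstab : ∀ (b : St) (v : V), (v : Ω) ∈ U → (((b : MulAut V) v : V) : Ω) ∈ U := fun b v hv => by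
      have := U.mul_mem hv (b.2 v)
      rwa [mul_inv_cancel_left] at this
    let res : St →* MulAut U :=
      { toFun := fun b =>
          { toFun := fun x => ⟨(b : MulAut V) (Subgroup.inclusion hUV x), hstab b _ x.2⟩
            invFun := fun x => ⟨(b⁻¹ : St).1 (Subgroup.inclusion hUV x), hstab b⁻¹ _ x.2⟩
            left_inv := fun x => Subtype.ext (congrArg Subtype.val
              (MulAut.inv_apply_self _ (b : MulAut V) (Subgroup.inclusion hUV x)) :)
            right_inv := fun x => Subtype.ext (congrArg Subtype.val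
              (MulAut.apply_inv_self _ (b : MulAut V) (Subgroup.inclusion hUV x)) :)
            map_mul' := fun x y => Subtype.ext (congrArg Subtype.val
              (map_mul (b : MulAut V) (Subgroup.inclusion hUV x) (Subgroup.inclusion hUV y)) :) }
        map_one' := rfl
        map_mul' := fun _ _ => rfl }
    have hb₀St : (b₀ : MulAut V) ∈ St := by
      intro v
      obtain ⟨hvS, hvW⟩ := mem_preimageAlong.1 v.2
      have hm : θ ⟨(v : Ω), hvS⟩ ∈ dn θ V := apply_mem_imageAlong _ v.2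
      have h1 := hb₀o v hvS (hVS (b₀ v).2) hm
      rw [hbv ⟨_, hm⟩ ⟨_, hvW⟩ rfl] at h1
      refine mem_preimageAlong.2 ⟨S.mul_mem (S.inv_mem hvS) (hVS (b₀ v).2), ?_⟩
      have h2 := htriv ⟨_, hvW⟩
      rw [h1, ← map_inv, ← map_mul] at h2
      exact h2
    have hres : ∀ (b : St), (b : MulAut V) ∈ C.autGroup V → res b ∈ C.autGroup U := fun b hb =>
      (mem_autGroup_iff_hom hUS).2
        (mem_of_restrict ((mem_autGroup_iff_hom hVS).1 hb) hUV _ fun _ => rfl)
    have hb₀A : (b₀ : MulAut V) ∈ C.autGroup V := (mem_autGroup_iff hVS).2 hb₀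
    -- same image on `U`
    have hd₀ : (g : MulAut U)⁻¹ * res ⟨b₀, hb₀St⟩ ∈ disp C Z U := by
      refine h.disp_of_over_aut hUS g.2.1 (hres ⟨b₀, hb₀St⟩ hb₀A) hgo fun x hx hy hm => ?_
      have hmW : θ ⟨(x : Ω), hx⟩ ∈ W' := Subgroup.mem_sup_left (h.dn_up_U.le hm)
      have hmV : θ ⟨(x : Ω), hx⟩ ∈ dn θ V := apply_mem_imageAlong _ (hUV x.2)
      have h1 := hb₀o (Subgroup.inclusion hUV x) hx hy hmV
      have h1' := hbv ⟨_, hmV⟩ ⟨_, hmW⟩ rfl
      replace h1 := h1'.symm.trans h1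
      refine Eq.trans ?_ h1
      exact ((hβ₀U ⟨_, h.dn_up_U.le hm⟩).trans (hg₂v ⟨_, h.dn_up_U.le hm⟩ ⟨_, hm⟩ rfl)).symm
    have hgo' : (orderOf (g : MulAut U)).Coprime p := by rw [Subgroup.orderOf_coe]; exact hg
    obtain ⟨j, hj, hjg⟩ := PSolv.exists_pPrime_part (⟨b₀, hb₀St⟩ : St) (g : MulAut U) hgo'
    set γ : St := ⟨b₀, hb₀St⟩ ^ j with hγ
    have hγA : (γ : MulAut V) ∈ C.autGroup V := by
      rw [hγ, Subgroup.coe_pow]; exact pow_mem hb₀A j
    -- compare modulo inner automorphisms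
    have hIn : (Cfsg.Inn U).Normal := inn_normal U
    let π := QuotientGroup.mk' (Cfsg.Inn U)
    have hcomm : ∀ d ∈ disp C Z U, Commute (π (g : MulAut U)) (π d) := by
      intro d hd
      have h1 := h.comm_disp U hfamU _ g.2 d hd
      have h2 : π ((g : MulAut U) * d * (g : MulAut U)⁻¹ * d⁻¹) = 1 :=
        (QuotientGroup.eq_one_iff _).2 h1
      rw [map_mul, map_mul, map_mul, map_inv, map_inv, mul_inv_eq_one, mul_inv_eq_iff_eq_mul] at h2
      exact h2
    set d := (g : MulAut U)⁻¹ * res γ with hd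
    have hdD : d ∈ disp C Z U := by
      have key : ∀ i : ℕ, ((g : MulAut U) ^ i)⁻¹ * res ⟨b₀, hb₀St⟩ ^ i ∈ disp C Z U := by
        intro i
        induction i with
        | zero => simp
        | succ i ih2 =>
          have h1 := h.disp_conj hUS (inv_mem (hres ⟨b₀, hb₀St⟩ hb₀A)) ih2
          rw [inv_inv] at h1
          have h2 : ((g : MulAut U) ^ (i + 1))⁻¹ * res ⟨b₀, hb₀St⟩ ^ (i + 1) =
              (g : MulAut U)⁻¹ * res ⟨b₀, hb₀St⟩ * ((res ⟨b₀, hb₀St⟩)⁻¹ *
                (((g : MulAut U) ^ i)⁻¹ * res ⟨b₀, hb₀St⟩ ^ i) * res ⟨b₀, hb₀St⟩) := by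
            rw [pow_succ (res _), pow_succ (g : MulAut U)]; group
          rw [h2]
          exact mul_mem hd₀ h1
      have h3 := key j
      rw [hjg] at h3
      rw [hd, hγ, map_pow]
      exact h3
    have hdI : d ∈ Cfsg.Inn U := by
      rw [← QuotientGroup.eq_one_iff]
      show π d = 1
      obtain ⟨i, hi⟩ := h.disp_isPGroup hUS ⟨d, hdD⟩
      have hi' : π d ^ p ^ i = 1 := by
        rw [← map_pow, show d ^ p ^ i = 1 from congrArg Subtype.val hi, map_one]
      have hcd : Commute (π (g : MulAut U))⁻¹ (π (res γ)) := by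
        have h4 : π (res γ) = π (g : MulAut U) * π d := by
          rw [← map_mul, hd]; congr 1; group
        rw [h4]
        exact ((Commute.refl _).mul_right (hcomm d hdD)).inv_left
      have hco : (orderOf (π d)).Coprime p := by
        have h5 : π d = (π (g : MulAut U))⁻¹ * π (res γ) := by rw [hd, map_mul, map_inv]
        rw [h5]
        refine Nat.Coprime.coprime_dvd_left hcd.orderOf_mul_dvd_mul_orderOf (Nat.Coprime.mul_left ?_ ?_)
        · rw [orderOf_inv]
          exact Nat.Coprime.coprime_dvd_left (orderOf_map_dvd _ _) hgo'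
        · exact Nat.Coprime.coprime_dvd_left
            ((orderOf_map_dvd π _).trans (orderOf_map_dvd res γ)) hj
      exact orderOf_eq_one_iff.1 (Nat.eq_one_of_dvd_coprimes (hco.pow_right i) dvd_rfl
        (orderOf_dvd_of_pow_eq_one hi'))
    rw [inn_eq_autInducedBy] at hdI
    obtain ⟨u, hu, huU, hdu⟩ := exists_eq_conjAut hdI
    -- undo the inner part
    have huV : u ∈ Subgroup.normalizer (V : Set Ω) := Subgroup.le_normalizer (hUV huU)
    set β₁ : MulAut V := (γ : MulAut V) * (conjAut V u huV)⁻¹ with hβ₁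
    have hcuSt : conjAut V u huV ∈ St := fun v => by
      show (v : Ω)⁻¹ * (u * v * u⁻¹) ∈ U
      have hvn : (v : Ω) ∈ Subgroup.normalizer (U : Set Ω) :=
        stronglyClosed_le_normalizer h.sc (hVS v.2)
      rw [← mul_assoc, ← mul_assoc]
      exact U.mul_mem ((Subgroup.mem_normalizer_iff''.1 hvn u).1 huU) (U.inv_mem huU)
    have hβ₁St : β₁ ∈ St := St.mul_mem γ.2 (St.inv_mem hcuSt)
    have hβ₁A : β₁ ∈ C.autGroup V :=
      mul_mem hγA (inv_mem (autInducedBy_le_autGroup C hVS (conjAut_mem_autInducedBy (hUS huU) huV)))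
    have hβ₁U : res ⟨β₁, hβ₁St⟩ = g := by
      have h6 : (⟨β₁, hβ₁St⟩ : St) = γ * (⟨_, hcuSt⟩ : St)⁻¹ := Subtype.ext rfl
      have h7 : res ⟨_, hcuSt⟩ = conjAut U u hu := MulEquiv.ext fun x => Subtype.ext rfl
      rw [h6, map_mul, map_inv, h7, ← hdu, hd]
      group
    have hMV : M ≤ V := sup_le hUV fun c hc => by
      refine mem_preimageAlong.2 ⟨hc.1, Subgroup.mem_sup_right
        ⟨h.range_eq ▸ ⟨_, rfl⟩, Subgroup.mem_centralizer_iff.2 fun y hy => ?_⟩⟩
      obtain ⟨x, hx, hxU, rfl⟩ := h.dn_mem (h.dn_up_U.ge hy)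
      rw [← map_mul, ← map_mul]
      exact congrArg θ (Subtype.ext (Subgroup.mem_centralizer_iff.1 hc.2 x hxU))
    have hmaps : ∀ m : M, (((β₁ (Subgroup.inclusion hMV m)) : V) : Ω) ∈ M := fun m => by
      have h8 := Subgroup.mem_sup_left (T := centralizerIn S U) (hβ₁St (Subgroup.inclusion hMV m))
      have h9 := M.mul_mem m.2 h8
      rwa [Subgroup.coe_inclusion, mul_inv_cancel_left] at h9
    obtain ⟨β, hβ, hβx⟩ := exists_aut
      (restrict_mem ((mem_autGroup_iff_hom hVS).1 hβ₁A) hMV)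
      (range_eq_of_le (hom_inj (restrict_mem ((mem_autGroup_iff_hom hVS).1 hβ₁A) hMV)) hmaps)
    refine ⟨β, hβ, fun x => ?_, fun c hc => ?_⟩
    · rw [hβx]
      exact congrArg (fun e : MulAut U => ((e x : U) : Ω)) hβ₁U
    · rw [hβx]
      refine ⟨hβ₁St (Subgroup.inclusion hMV c), Subgroup.mul_mem _ (Subgroup.inv_mem _ hc.2) ?_⟩
      refine Subgroup.mem_centralizer_iff.2 fun y hy => ?_
      obtain ⟨x, hx⟩ := (res ⟨β₁, hβ₁St⟩).surjective ⟨y, hy⟩
      have hx' : ((β₁ (Subgroup.inclusion hUV x) : V) : Ω) = y := congrArg Subtype.val hx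
      have h10 : Subgroup.inclusion hUV x * Subgroup.inclusion hMV c =
          Subgroup.inclusion hMV c * Subgroup.inclusion hUV x :=
        Subtype.ext (Subgroup.mem_centralizer_iff.1 hc.2 _ x.2)
      have h11 := congrArg (fun z : V => ((β₁ z : V) : Ω)) h10
      simp only [map_mul, Subgroup.coe_mul, hx'] at h11
      exact h11

/-- **The lift is normal.** -/
theorem isNormalIn_lift [Finite S] [Fact p.Prime] : (liftSystem h).IsNormalIn C p :=
  ⟨⟨h.isSaturated_lift, h.sat, h.liftSystem_sub, h.sc, h.autInvariant_lift,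
    fun _ hP _ hφ => h.frattini_lift hP hφ⟩, fun _ ha => h.extension_lift ha⟩

/-- The subsystem is the factor system of the lift. -/
theorem exists_factor_lift [Finite S] [Fact p.Prime] :
    ∃ θ₀ : up θ U' →* Ω', (∀ (x : up θ U'), θ₀ x = θ ⟨x, preimageAlong_le U' x.2⟩) ∧
      (liftSystem h).IsFactorSystem Z θ₀ E' := by
  have hUS : up θ U' ≤ S := preimageAlong_le U'
  refine ⟨θ.comp (Subgroup.inclusion hUS), fun x => rfl, h.Z_le_up U', fun x => h.ker _, ?_, ?_⟩
  · ext y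
    constructor
    · rintro ⟨x, rfl⟩
      exact (mem_preimageAlong.1 x.2).2
    · intro hy
      obtain ⟨⟨x, hxS⟩, rfl⟩ := h.range_eq.ge (h.U'_le hy)
      exact ⟨⟨x, mem_preimageAlong.2 ⟨hxS, hy⟩⟩, rfl⟩
  intro P' φ'
  have hpre : P' ≤ U' → preimageAlong (θ.comp (Subgroup.inclusion hUS)) P' = up θ P' := by
    intro hP'
    ext x
    refine mem_preimageAlong.trans (Iff.trans ?_ mem_preimageAlong.symm)
    exact ⟨fun ⟨hx, hm⟩ => ⟨hUS hx, hm⟩,
      fun ⟨hx, hm⟩ => ⟨mem_preimageAlong.2 ⟨hx, hP' hm⟩, hm⟩⟩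
  constructor
  · intro hφ'
    have hP' : P' ≤ U' := (E'.le_of_mem hφ').1
    refine ⟨hP', ?_⟩
    rw [hpre hP']
    obtain ⟨-, W, e, he, hex⟩ := h.le_liftedSystem _ hφ'
    refine ⟨W.subtype.comp e.toMonoidHom, ⟨W, e, he, fun _ => rfl⟩,
      preimageAlong_mono hP', fun x => (h.liftIso_le he).2 (e x).2,
      fun x => (mem_preimageAlong.1 x.2).2, fun x => ?_⟩
    exact hex x (hUS (preimageAlong_mono hP' x.2)) (mem_preimageAlong.1 x.2).2
      (hUS ((h.liftIso_le he).2 (e x).2))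
  · rintro ⟨hP', hex⟩
    rw [hpre hP'] at hex
    obtain ⟨φ, ⟨Q, e, he, hφ⟩, hPU, hφU, hm, hval⟩ := hex
    obtain ⟨e', he', ho⟩ := h.liftIso_over he (h.Z_le_up P')
    have hdn : P' ≤ dn θ (up θ P') := (h.dn_up (hP'.trans h.U'_le)).ge
    refine mem_of_restrict (show _ ∈ E'.Hom _ from he') hdn φ' ?_
    rintro ⟨y, hy⟩
    obtain ⟨x, hxS, hxP, rfl⟩ := h.dn_mem (hdn hy)
    show φ' _ = ((e' ⟨θ ⟨x, hxS⟩, hdn hy⟩ : dn θ Q) : Ω')
    rw [ho ⟨x, hxP⟩ hxS (hUS ((h.liftIso_le he).2 (e _).2)) (hdn hy)]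
    refine (hval ⟨x, hxP⟩).trans (congrArg θ (Subtype.ext ?_))
    exact hφ ⟨x, hxP⟩

end LSetting

end CfsgLib.Fusion.CentralLift
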