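import Cfsg.Agent.Lib.Fusion.CentralLift.Iso
import Cfsg.Agent.Lib.Fusion.LocalSaturation
import Cfsg.Agent.Lib.Fusion.SatCriterion.Pairs

/-!
The normalizer of a centric subgroup of the subsystem: its maps lift to isomorphisms of the lift
inducing generating automorphisms on the preimage of that subgroup.
-/

set_option autoImplicit false
open Cfsg Cfsg.FusionSystem CfsgLib.Fusion CfsgLib.FusionQuot CfsgLib.Transfer

namespace CfsgLib.Fusion.CentralLift

variable {Ω Ω' : Type*} [Group Ω] [Group Ω'] {S Z : Subgroup Ω} {C : Cfsg.FusionSystem S}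
  {S' U' : Subgroup Ω'} {θ : S →* Ω'} {C' : Cfsg.FusionSystem S'} {E' : Cfsg.FusionSystem U'}
  {p : ℕ}

/-- The displacements in the lifted automizer of `P` are inner. -/
def Good (C : Cfsg.FusionSystem S) (Z : Subgroup Ω) (θ : S →* Ω') (E' : Cfsg.FusionSystem U')
    (p : ℕ) (P : Subgroup Ω) : Prop :=
  ∀ a : MulAut P, LiftIso C Z θ E' p (a : P ≃* P) → a ∈ disp C Z P → a ∈ Cfsg.Inn P

/-- A map downstairs has a lift inducing a generating automorphism of `R`. -/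
def RelLifts (C : Cfsg.FusionSystem S) (Z : Subgroup Ω) (θ : S →* Ω') (E' : Cfsg.FusionSystem U')
    (p : ℕ) (R : Subgroup Ω) (Y : Subgroup Ω') (φ : Y →* Ω') : Prop :=
  ∃ (W : Subgroup Ω) (e : ↥(up θ Y ⊔ R) ≃* W), LiftIso C Z θ E' p e ∧
    (∀ (x : up θ Y) (hx : (x : Ω) ∈ S) (hm : θ ⟨x, hx⟩ ∈ Y)
      (hy : (e (Subgroup.inclusion le_sup_left x) : Ω) ∈ S),
      φ ⟨_, hm⟩ = θ ⟨(e (Subgroup.inclusion le_sup_left x) : Ω), hy⟩) ∧
    ∃ g ∈ gens C θ E' p R, ∀ x : R,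
      (e (Subgroup.inclusion le_sup_right x) : Ω) = (g x : R)

theorem mem_normalizerHom_sup {Ξ : Type*} [Group Ξ] {V Q : Subgroup Ξ} {F : Cfsg.FusionSystem V}
    {P : Subgroup Ξ} (hQ : Q ≤ V) {ψ : ↥(P ⊔ Q) →* Ξ} (hψ : ψ ∈ F.Hom (P ⊔ Q))
    (hP : P ≤ normalizerIn V Q) (hval : ∀ x : P, ψ (Subgroup.inclusion le_sup_left x) ∈ normalizerIn V Q)
    (hmap : (Q.subgroupOf (P ⊔ Q)).map ψ = Q) : ψ ∈ F.normalizerHom Q (P ⊔ Q) := by
  refine ⟨hψ, sup_le hP (le_normalizerIn hQ), forall_mem_of_sup hval fun x =>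
    le_normalizerIn hQ (mem_of_map_subgroupOf_sup_eq hmap x), _,
    restrict_mem hψ (sup_le le_rfl le_sup_right), fun x => rfl, ?_⟩
  ext y
  rw [mem_map_subgroupOf]
  constructor
  · rintro ⟨x, hx, hxQ, rfl⟩
    exact hmap.le (apply_mem_map_subgroupOf _ hxQ)
  · intro hy
    obtain ⟨x, hx, hxQ, rfl⟩ := mem_map_subgroupOf.1 (hmap.ge hy)
    exact ⟨x, le_sup_right (a := P ⊔ Q) hxQ, hxQ, rfl⟩

/-- A subgroup normalized is normal in its normalizer system. -/
theorem isNormal_normalizerSystem {Ξ : Type*} [Group Ξ] {V Q : Subgroup Ξ}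
    (F : Cfsg.FusionSystem V) (hQ : Q ≤ V) : (normalizerSystem F Q hQ).IsNormal Q := by
  refine ⟨le_normalizerIn hQ, ?_⟩
  rintro P φ ⟨-, hP, hval, ψ, hψ, hag, hmap⟩
  exact ⟨ψ, mem_normalizerHom_sup hQ hψ hP (fun x => hag x ▸ hval x) hmap, hag, hmap⟩

/-- The maps of the normalizer downstairs that have suitable lifts. -/
noncomputable def relSystem [Finite S] (h : LSetting C Z θ C' E' p) {R : Subgroup Ω}
    (hR : Fam Z θ E' R) : Cfsg.FusionSystem (normalizerIn U' (dn θ R)) where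
  Hom Y := {φ | φ ∈ (normalizerSystem E' (dn θ R) hR.2.2.1).Hom Y ∧ RelLifts C Z θ E' p R Y φ}
  le_of_mem hφ := (normalizerSystem E' (dn θ R) hR.2.2.1).le_of_mem hφ.1
  injective_of_mem hφ := (normalizerSystem E' (dn θ R) hR.2.2.1).injective_of_mem hφ.1
  conj_mem := by
    intro Y u' hY hu'
    refine ⟨(normalizerSystem E' (dn θ R) hR.2.2.1).conj_mem hY hu', ?_⟩
    obtain ⟨⟨u, huS⟩, rfl⟩ := h.range_eq.ge (h.U'_le hu'.1)
    have hu : u ∈ up θ U' := mem_preimageAlong.2 ⟨huS, hu'.1⟩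
    have hun : u ∈ Subgroup.normalizer (R : Set Ω) :=
      (h.mem_normalizer_iff hR.2.1 hR.1 huS).2 hu'.2
    have hle : up θ Y ⊔ R ≤ up θ U' :=
      sup_le (preimageAlong_mono (hY.trans (normalizerIn_le _ _))) (h.fam_le hR)
    have hinj : Function.Injective (conjHom (up θ Y ⊔ R) u) := fun a b hab =>
      Subtype.ext (mul_left_cancel (mul_right_cancel hab))
    refine ⟨_, isoOfInjective hinj rfl, h.liftIso_conj hle hu _ (fun x => rfl),
      fun x hx hm hy => ?_, conjAut R u hun,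
      autInducedBy_le_gens R (conjAut_mem_autInducedBy hu hun), fun x => rfl⟩
    show θ ⟨u, huS⟩ * θ ⟨x, hx⟩ * (θ ⟨u, huS⟩)⁻¹ = θ ⟨u * x * u⁻¹, hy⟩
    rw [← map_inv, ← map_mul, ← map_mul]
    rfl
  comp_mem := by
    rintro Y T φ ψ ⟨hφ, W, e, he, hex, g, hg, hge⟩ ⟨hψ, W₂, f, hf, hfx, k, hk, hke⟩ hle
    refine ⟨(normalizerSystem E' (dn θ R) hR.2.2.1).comp_mem hφ hψ hle, ?_⟩
    have hWS : W ≤ S := (h.liftIso_le he).2.trans (preimageAlong_le U')
    have hmem : ∀ x : ↥(up θ Y ⊔ R), (W.subtype.comp e.toMonoidHom) x ∈ up θ T ⊔ R :=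
      forall_mem_of_sup
        (fun x => by
          obtain ⟨hxS, hxY⟩ := mem_preimageAlong.1 x.2
          have h1 := hex x hxS hxY (hWS (e _).2)
          refine Subgroup.mem_sup_left (mem_preimageAlong.2 ⟨hWS (e _).2, ?_⟩)
          have h2 := hle ⟨_, hxY⟩
          rw [h1] at h2
          exact h2)
        (fun x => Subgroup.mem_sup_right (show (e _ : Ω) ∈ R from (hge x) ▸ (g x).2))
    have hWT : W ≤ up θ T ⊔ R := fun w hw => by
      have := hmem (e.symm ⟨w, hw⟩)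
      simpa using this
    obtain ⟨W₃, f₀, -, hf₀, hf₀x⟩ := hf.exists_restrict hWT
    refine ⟨W₃, e.trans f₀, he.trans hf₀, fun x hx hm hy => ?_, k * g, Subgroup.mul_mem _ hk hg,
      fun x => ?_⟩
    · have hexS : (e (Subgroup.inclusion le_sup_left x) : Ω) ∈ S := hWS (e _).2
      have h1 := hex x hx hm hexS
      have hmT : θ ⟨_, hexS⟩ ∈ T := h1 ▸ hle ⟨_, hm⟩
      have hmU : (e (Subgroup.inclusion le_sup_left x) : Ω) ∈ up θ T :=
        mem_preimageAlong.2 ⟨hexS, hmT⟩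
      show ψ _ = _
      rw [show (φ.codRestrict T hle ⟨_, hm⟩ : T) = ⟨_, hmT⟩ from Subtype.ext h1]
      have hy' : (f (Subgroup.inclusion le_sup_left ⟨_, hmU⟩) : Ω) ∈ S := by
        have h3 := hf₀x (e (Subgroup.inclusion le_sup_left x))
        show (f ⟨(e (Subgroup.inclusion le_sup_left x) : Ω), _⟩ : Ω) ∈ S
        rw [← h3]
        exact hy
      refine (hfx ⟨_, hmU⟩ hexS hmT hy').trans (congrArg θ (Subtype.ext ?_))
      exact (hf₀x _).symm
    · show (f₀ (e (Subgroup.inclusion le_sup_right x)) : Ω) = (k (g x) : R)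
      rw [hf₀x, ← hke (g x)]
      exact congrArg (fun z : ↥(up θ T ⊔ R) => (f z : Ω)) (Subtype.ext (hge x))
  inv_mem := by
    rintro Y φ ⟨hφ, W, e, he, hex, g, hg, hge⟩
    obtain ⟨ψ, hψ, hψx⟩ := (normalizerSystem E' (dn θ R) hR.2.2.1).inv_mem hφ
    refine ⟨ψ, ⟨hψ, ?_⟩, hψx⟩
    have hWS : W ≤ S := (h.liftIso_le he).2.trans (preimageAlong_le U')
    have hRW : R ≤ W := fun r hr => by
      have h1 := hge (g⁻¹ ⟨r, hr⟩)
      rw [MulAut.apply_inv_self] at h1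
      exact (show _ = r from h1) ▸ (e _).2
    have hle : up θ φ.range ⊔ R ≤ W := by
      refine sup_le (fun w hw => ?_) hRW
      obtain ⟨hwS, y, hy⟩ := mem_preimageAlong.1 hw
      obtain ⟨⟨x, hxS⟩, hxy⟩ :=
        h.range_eq.ge (h.U'_le (((normalizerSystem E' (dn θ R) hR.2.2.1).le_of_mem hφ).1 y.2).1)
      have hxY : θ ⟨x, hxS⟩ ∈ Y := hxy ▸ y.2
      have hxm : x ∈ up θ Y := mem_preimageAlong.2 ⟨hxS, hxY⟩
      have h1 := hex ⟨x, hxm⟩ hxS hxY (hWS (e _).2)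
      rw [show (⟨_, hxY⟩ : Y) = y from Subtype.ext hxy, hy] at h1
      refine (h.mem_dn_iff hWS (hR.1.trans hRW) hwS).1 ?_
      rw [h1]
      exact apply_mem_imageAlong _ (e _).2
    obtain ⟨W₂, f, -, hf, hfx⟩ := he.symm.exists_restrict hle
    refine ⟨W₂, f, hf, fun x hx hm hy => ?_, g⁻¹, Subgroup.inv_mem _ hg, fun x => ?_⟩
    · have hxW : (x : Ω) ∈ W := hle (Subgroup.mem_sup_left x.2)
      obtain ⟨⟨y, hyY⟩, hφy⟩ := MonoidHom.mem_range.1 hm
      obtain ⟨⟨x₀, hx₀S⟩, hx₀y⟩ :=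
        h.range_eq.ge (h.U'_le (((normalizerSystem E' (dn θ R) hR.2.2.1).le_of_mem hφ).1 hyY).1)
      have hx₀Y : θ ⟨x₀, hx₀S⟩ ∈ Y := hx₀y ▸ hyY
      have hx₀m : x₀ ∈ up θ Y := mem_preimageAlong.2 ⟨hx₀S, hx₀Y⟩
      have h1 := hex ⟨x₀, hx₀m⟩ hx₀S hx₀Y (hWS (e _).2)
      rw [show (⟨_, hx₀Y⟩ : Y) = ⟨y, hyY⟩ from Subtype.ext hx₀y, hφy] at h1
      -- the source element and the preimage differ by an element of `Z`
      set w₀ := e (Subgroup.inclusion le_sup_left ⟨x₀, hx₀m⟩) with hw₀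
      have hz : (w₀ : Ω)⁻¹ * x ∈ Z := by
        refine (h.ker ((⟨(w₀ : Ω), hWS w₀.2⟩ : S)⁻¹ * ⟨x, hx⟩)).1 ?_
        rw [map_mul, map_inv, ← h1, inv_mul_cancel]
      rw [show (⟨θ ⟨(x : Ω), hx⟩, hm⟩ : φ.range) = ⟨φ ⟨y, hyY⟩, _, rfl⟩ from Subtype.ext hφy.symm,
        hψx]
      show y = _
      rw [← hx₀y]
      have hfe : (f (Subgroup.inclusion le_sup_left x) : Ω) =
          (e.symm ⟨(x : Ω), hxW⟩ : Ω) := hfx _
      have hzW : (w₀ : Ω)⁻¹ * x ∈ W := W.mul_mem (W.inv_mem w₀.2) hxW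
      have h4 : e.symm ⟨(x : Ω), hxW⟩ =
          Subgroup.inclusion le_sup_left ⟨x₀, hx₀m⟩ * e.symm ⟨_, hzW⟩ := by
        rw [← e.symm_apply_apply (Subgroup.inclusion le_sup_left ⟨x₀, hx₀m⟩), ← map_mul, ← hw₀]
        exact congrArg e.symm (Subtype.ext (mul_inv_cancel_left _ _).symm)
      have h5 : (e.symm ⟨_, hzW⟩ : Ω) = (w₀ : Ω)⁻¹ * x :=
        h.fix (h.liftIso_isFIso he.symm) ⟨_, hzW⟩ hz
      have h6 : θ ⟨(f (Subgroup.inclusion le_sup_left x) : Ω), hy⟩ =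
          θ (⟨x₀, hx₀S⟩ * ⟨(w₀ : Ω)⁻¹ * x, h.Z_le hz⟩) := by
        refine congrArg θ (Subtype.ext ?_)
        rw [hfe, h4, Subgroup.coe_mul, h5]
        rfl
      rw [h6, map_mul, (h.ker ⟨(w₀ : Ω)⁻¹ * x, h.Z_le hz⟩).2 hz, mul_one]
    · rw [hfx]
      have h7 := hge (g⁻¹ x)
      rw [MulAut.apply_inv_self] at h7
      have h8 : (⟨((Subgroup.inclusion le_sup_right x : ↥(up θ φ.range ⊔ R)) : Ω),
          hle (Subgroup.mem_sup_right x.2)⟩ : W) = e (Subgroup.inclusion le_sup_right (g⁻¹ x)) :=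
        Subtype.ext h7.symm
      rw [h8, MulEquiv.symm_apply_apply]
      rfl

namespace LSetting

variable (h : LSetting C Z θ C' E' p)
include h

/-- An automorphism of an overgroup of `R` in the lift, fixing `R`, induces a generator. -/
theorem relAut [Finite S] [Fact p.Prime] {R X : Subgroup Ω} (hR : Fam Z θ E' R)
    (hRX : R ≤ X) (hXN : X ≤ normalizerIn (up θ U') R) (hgood : Good C Z θ E' p X)
    (hXn : (normalizerSystem E' (dn θ R) hR.2.2.1).IsFullyNormalized (dn θ X))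
    (hsat : (normalizerSystem E' (dn θ R) hR.2.2.1).IsSaturated p) {α : MulAut (dn θ X)}
    (hα : α ∈ (normalizerSystem E' (dn θ R) hR.2.2.1).autGroup (dn θ X)) :
    ∃ a : MulAut X, LiftIso C Z θ E' p (a : X ≃* X) ∧ Over θ a α ∧
      ∃ g ∈ gens C θ E' p R, ∀ x : R, ((a ⟨x, hRX x.2⟩ : X) : Ω) = (g x : R) := by
  have hXU : X ≤ up θ U' := hXN.trans (normalizerIn_le _ _)
  have hXS : X ≤ S := hXU.trans (preimageAlong_le U')
  have hZX : Z ≤ X := hR.1.trans hRX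
  have hX'U : dn θ X ≤ U' := (imageAlong_mono hXU).trans h.dn_up_U.le
  set N := normalizerSystem E' (dn θ R) hR.2.2.1 with hNdef
  have hX'N : dn θ X ≤ normalizerIn U' (dn θ R) := hXn.1
  have := h.finU'
  have hFX : Finite X := finite_of_le hXS
  have : Finite (MulAut X) := finite_mulAut
  have : Finite (normalizerIn U' (dn θ R)) := finite_of_le (normalizerIn_le _ _)
  have : Finite (dn θ X) := finite_of_le hX'U
  have : Finite (MulAut (dn θ X)) := finite_mulAut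
  -- automorphisms downstairs preserve the image of `R`
  have hpres' : ∀ β ∈ N.autGroup (dn θ X), ∀ y : dn θ X, (y : Ω') ∈ dn θ R →
      ((β y : dn θ X) : Ω') ∈ dn θ R := by
    intro β hβ y hy
    obtain ⟨-, -, -, ψ, -, hag, hmap⟩ := (mem_autGroup_iff_hom hXn.1).1 hβ
    have h1 := hag y
    rw [show Subgroup.inclusion le_sup_left y = Subgroup.inclusion le_sup_right ⟨(y : Ω'), hy⟩ from
      Subtype.ext rfl] at h1
    exact (show ψ _ = ((β y : dn θ X) : Ω') from h1) ▸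
      mem_of_map_subgroupOf_sup_eq hmap ⟨(y : Ω'), hy⟩
  let A : Subgroup (MulAut X) :=
    { carrier := {a | LiftIso C Z θ E' p (a : X ≃* X) ∧ a ∈ SatCriterion.setStab X R}
      one_mem' := ⟨h.liftIso_one hXU, one_mem _⟩
      mul_mem' := fun ⟨ha, ha'⟩ ⟨hb, hb'⟩ => ⟨hb.trans ha, mul_mem ha' hb'⟩
      inv_mem' := fun ⟨ha, ha'⟩ => ⟨ha.symm, inv_mem ha'⟩ }
  choose π hπ hπo using fun a : A => h.liftIso_over a.2.1 hZX
  have hπN : ∀ a : A, (π a : MulAut (dn θ X)) ∈ N.autGroup (dn θ X) := by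
    intro a
    refine (mem_autGroup_iff_hom hX'N).2 (mem_normalizerHom_of_aut (imageAlong_mono hRX) hX'N
      ((mem_autGroup_iff hX'U).2 (hπ a)) ?_)
    have hiff : ∀ y : dn θ X, ((π a y : dn θ X) : Ω') ∈ dn θ R ↔ (y : Ω') ∈ dn θ R := by
      rintro ⟨y, hy⟩
      obtain ⟨x, hx, hxX, rfl⟩ := h.dn_mem hy
      have hax : (((a : MulAut X) ⟨x, hxX⟩ : X) : Ω) ∈ S := hXS (Subtype.prop _)
      rw [hπo a ⟨x, hxX⟩ hx hax hy, h.mem_dn_iff hR.2.1 hR.1 hax, h.mem_dn_iff hR.2.1 hR.1 hx]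
      exact a.2.2 ⟨x, hxX⟩
    ext y
    constructor
    · rintro ⟨z, hz, rfl⟩
      exact (hiff z).2 hz
    · intro hy
      exact ⟨(π a : MulAut (dn θ X))⁻¹ y, (hiff _).1 (by rw [MulAut.apply_inv_self]; exact hy),
        MulAut.apply_inv_self _ _ _⟩
  let f : A →* N.autGroup (dn θ X) :=
    { toFun := fun a => ⟨π a, hπN a⟩
      map_one' := Subtype.ext (h.over_unique hXS hXS (hπo 1) (over_refl θ X _))
      map_mul' := fun a b => Subtype.ext (h.over_unique hXS hXS (hπo (a * b))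
        (Over.trans (hπo b) (hπo a) hXS)) }
  have hsurj : ∀ β ∈ N.autGroup (dn θ X), ∃ a : A, (π a : MulAut (dn θ X)) = β := by
    intro β hβ
    have hβE : β ∈ E'.autGroup (dn θ X) :=
      (mem_autGroup_iff_hom hX'U).2 ((mem_autGroup_iff_hom hX'N).1 hβ).1
    obtain ⟨a, ha, hao⟩ := h.exists_lift hXU hZX hXU hZX ((mem_autGroup_iff hX'U).1 hβE)
    have hstab : ∀ (b : MulAut X) (γ : MulAut (dn θ X)), γ ∈ N.autGroup (dn θ X) → Over θ b γ →
        ∀ x : X, (x : Ω) ∈ R → ((b x : X) : Ω) ∈ R := by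
      intro b γ hγ hbo x hx
      have hm : θ ⟨(x : Ω), hXS x.2⟩ ∈ dn θ X := apply_mem_imageAlong _ x.2
      have h1 := hpres' γ hγ ⟨_, hm⟩ (apply_mem_imageAlong _ hx)
      rw [hbo x (hXS x.2) (hXS (b x).2) hm] at h1
      exact (h.mem_dn_iff hR.2.1 hR.1 _).1 h1
    refine ⟨⟨a, ha, fun x => ⟨fun hx => ?_, hstab a β hβ hao x⟩⟩,
      h.over_unique hXS hXS (hπo _) hao⟩
    have h2 := hstab a.symm β⁻¹ (inv_mem hβ) (Over.symm hao hXS) (a x) hx
    rwa [MulEquiv.symm_apply_apply] at h2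
  -- the Sylow subgroup of `A`
  set M := normalizerIn (up θ U') R with hM
  have hW : ∀ w (hw : w ∈ M) (hwX : w ∈ Subgroup.normalizer (X : Set Ω)),
      conjAut X w hwX ∈ A := fun w hw hwX =>
    ⟨LiftIso.aut h.fam_U hXU (conjAut (up θ U') w (Subgroup.le_normalizer hw.1))
      (autInducedBy_le_gens _ (conjAut_mem_autInducedBy hw.1 _)) _ fun x => rfl,
      fun x => (Subgroup.mem_normalizer_iff.1 hw.2 x).symm⟩
  set W := (autInducedBy M X).subgroupOf A with hWdef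
  have hWp : IsPGroup p W := IsPGroup.comap_subtype
    (isPGroup_autInducedBy (h.pGroup.to_le ((normalizerIn_le _ _).trans (preimageAlong_le U'))) X)
  obtain ⟨T, hT⟩ := hWp.exists_le_sylow
  obtain ⟨-, T', hT'⟩ := isFullyAutomized_of_isFullyNormalized
    (h.pU'.to_le (normalizerIn_le _ _)) hsat hXn
  have hTW : W = (T : Subgroup A) := by
    refine Subgroup.eq_of_le_of_card_ge hT (card_le_of_map_card_le f _ _ ?_ ?_)
    · intro a ha
      have h1 : (π a : MulAut (dn θ X)) = 1 := congrArg Subtype.val ha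
      have hd : (a : MulAut X) ∈ disp C Z X := by
        have := h.disp_of_over_aut hXS (one_mem _) ((mem_autGroup_iff hXS).2 (h.liftIso_isFIso a.2.1))
          (c' := 1) (over_refl θ X _) (h1 ▸ hπo a)
        rwa [inv_one, one_mul] at this
      have h2 := hgood _ a.2.1 hd
      rw [inn_eq_autInducedBy] at h2
      exact autInducedBy_mono hXN X h2
    · obtain ⟨g, hg⟩ := exists_conj_le_sylow T' (T.2.map f)
      refine le_trans (?_ : _ ≤ Nat.card (T' : Subgroup (N.autGroup (dn θ X)))) ?_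
      · exact Nat.card_le_card_of_injective (fun u : (T : Subgroup A).map f =>
            (⟨g * u * g⁻¹, hg u u.2⟩ : (T' : Subgroup (N.autGroup (dn θ X)))))
          fun a b hab => Subtype.ext (mul_left_cancel (mul_right_cancel (Subtype.ext_iff.1 hab)))
      · refine Subgroup.card_le_of_le ?_
        intro β hβ
        rw [hT'] at hβ
        obtain ⟨u', hu', hu'M, he⟩ := exists_eq_conjAut (show (β : MulAut (dn θ X)) ∈ _ from hβ)
        obtain ⟨⟨u, huS⟩, rfl⟩ := h.range_eq.ge (h.U'_le hu'M.1)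
        have huX : u ∈ Subgroup.normalizer (X : Set Ω) := (h.mem_normalizer_iff hXS hZX huS).2 hu'
        have huM : u ∈ M := ⟨mem_preimageAlong.2 ⟨huS, hu'M.1⟩,
          (h.mem_normalizer_iff hR.2.1 hR.1 huS).2 hu'M.2⟩
        refine ⟨⟨_, hW u huM huX⟩, conjAut_mem_autInducedBy huM huX, Subtype.ext ?_⟩
        refine h.over_unique hXS hXS (hπo _) ?_
        rw [he]
        intro x hx hy hm'
        show θ ⟨u, huS⟩ * θ ⟨x, hx⟩ * (θ ⟨u, huS⟩)⁻¹ = θ ⟨u * x * u⁻¹, hy⟩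
        rw [← map_inv, ← map_mul, ← map_mul]
        rfl
  -- restriction to `R`
  let st : A →* SatCriterion.setStab X R :=
    A.subtype.codRestrict (SatCriterion.setStab X R) fun a => a.2.2
  let res : A →* MulAut R := (SatCriterion.resHom hRX).comp st
  have hrest : ∀ a : A, res a ∈ gens C θ E' p R := by
    suffices htop : (gens C θ E' p R).comap res = ⊤ from fun a => htop.ge (Subgroup.mem_top a)
    refine top_le_iff.1 ((sylow_sup_pResidual T).ge.trans (sup_le ?_ ((Subgroup.closure_le _).2 ?_)))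
    · intro a ha
      rw [← hTW] at ha
      obtain ⟨w, hwX, hwM, he⟩ := exists_eq_conjAut (show (a : MulAut X) ∈ _ from ha)
      refine autInducedBy_le_gens R (mem_autInducedBy_iff.2 ⟨w, hwM.1, fun x => ?_⟩)
      show (((a : MulAut X) ⟨x, hRX x.2⟩ : X) : Ω) = _
      rw [he]
      rfl
    · intro a ha
      have hiso : LiftIso C Z θ E' p (res a : R ≃* R) := a.2.1.restrict hRX _ fun x => rfl
      obtain ⟨r', hr', hro⟩ := h.liftIso_over hiso hR.1
      refine coprime_mem_gens ⟨(mem_autGroup_iff hR.2.1).2 (h.liftIso_isFIso hiso),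
        fun _ => ⟨r', (mem_autGroup_iff hR.2.2.1).2 hr', hro⟩⟩ ?_
      exact Nat.Coprime.coprime_dvd_left (orderOf_map_dvd res a) ha
  obtain ⟨a, ha⟩ := hsurj α hα
  exact ⟨a, a.2.1, ha ▸ hπo a, res a, hrest a, fun x => rfl⟩

theorem le_relSystem [Finite S] [Fact p.Prime] {R : Subgroup Ω} (hR : Fam Z θ E' R)
    (hRn : E'.IsFullyNormalized (dn θ R))
    (hbig : ∀ X : Subgroup Ω, Fam Z θ E' X → Nat.card R < Nat.card X → Good C Z θ E' p X) :
    normalizerSystem E' (dn θ R) hR.2.2.1 ≤ relSystem h hR := by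
  have := h.finU'
  have : Finite (normalizerIn U' (dn θ R)) := finite_of_le (normalizerIn_le _ _)
  have hNp : IsPGroup p (normalizerIn U' (dn θ R)) := h.pU'.to_le (normalizerIn_le _ _)
  have hsat : (normalizerSystem E' (dn θ R) hR.2.2.1).IsSaturated p :=
    isSaturated_normalizerSystem h.pU' h.satE hRn
      (isNormalizerSystem_normalizerSystem E' (dn θ R) hR.2.2.1)
  refine alperin hNp hsat _ fun X' hX' α hα => ?_
  have hc : dn θ R ≤ X' ∧ (normalizerSystem E' (dn θ R) hR.2.2.1).IsFullyNormalized X' := by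
    rcases hX' with rfl | hess
    · exact ⟨le_normalizerIn hR.2.2.1, isFullyNormalized_top _⟩
    · exact ⟨isNormal_le_of_centric_radical hNp (isNormal_normalizerSystem E' hR.2.2.1) hess.1
        (isRadical_of_isEssential hNp hsat hess), hess.2.1⟩
  obtain ⟨hR'X, hXn⟩ := hc
  have hX'U : X' ≤ U' := hXn.1.trans (normalizerIn_le _ _)
  have hX'S : X' ≤ S' := hX'U.trans h.U'_le
  have hXdn : dn θ (up θ X') = X' := h.dn_up hX'S
  have hRX : R ≤ up θ X' := fun r hr =>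
    mem_preimageAlong.2 ⟨hR.2.1 hr, hR'X (apply_mem_imageAlong _ hr)⟩
  have hXN : up θ X' ≤ normalizerIn (up θ U') R := by
    rw [h.normalizerIn_up hR.2.1 hR.1]
    exact preimageAlong_mono hXn.1
  have hXU : up θ X' ≤ up θ U' := hXN.trans (normalizerIn_le _ _)
  obtain ⟨a, ha, hao, g, hg, hga⟩ : ∃ a : MulAut (up θ X'), LiftIso C Z θ E' p (a : up θ X' ≃* _) ∧
      Over θ a α ∧ ∃ g ∈ gens C θ E' p R, ∀ x : R, ((a ⟨x, hRX x.2⟩ : up θ X') : Ω) = (g x : R) := by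
    have key : ∀ (Y' : Subgroup Ω'), Y' = dn θ (up θ X') →
        (normalizerSystem E' (dn θ R) hR.2.2.1).IsFullyNormalized Y' → ∀ β : MulAut Y',
        β ∈ (normalizerSystem E' (dn θ R) hR.2.2.1).autGroup Y' →
        ∃ a : MulAut (up θ X'), LiftIso C Z θ E' p (a : up θ X' ≃* _) ∧ Over θ a β ∧
          ∃ g ∈ gens C θ E' p R, ∀ x : R, ((a ⟨x, hRX x.2⟩ : up θ X') : Ω) = (g x : R) := by
      rintro Y' rfl hYn β hβ
      rcases eq_or_lt_of_le hRX with hEq | hlt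
      · subst hEq
        have hβE : β ∈ E'.autGroup (dn θ (up θ X')) :=
          (mem_autGroup_iff_hom hR.2.2.1).2 ((mem_autGroup_iff_hom hYn.1).1 hβ).1
        obtain ⟨g, hg, hgo⟩ := h.gens_surj hR hRn hβE
        exact ⟨g, LiftIso.aut hR le_rfl g hg g fun _ => rfl, hgo, g, hg, fun x => rfl⟩
      · have hXS : up θ X' ≤ S := preimageAlong_le X'
        have hFX : Finite (up θ X') := finite_of_le hXS
        have hcard : Nat.card R < Nat.card (up θ X') := lt_of_not_ge fun hge =>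
          hlt.ne (Subgroup.eq_of_le_of_card_ge hlt.le hge)
        exact h.relAut hR hRX hXN (hbig _ (h.fam_of_le hR hRX hXU) hcard) hYn hsat hβ
    exact key X' hXdn.symm hXn α hα
  refine (mem_autGroup_iff_hom hXn.1).2 ⟨(mem_autGroup_iff_hom hXn.1).1 hα, ?_⟩
  have hsup : up θ X' ⊔ R = up θ X' := sup_eq_left.2 hRX
  refine ⟨up θ X', (MulEquiv.subgroupCongr hsup).trans a, ha.restrict hsup.le _ (fun x => rfl),
    fun x hx hm hy => ?_, g, hg, fun x => hga x⟩
  exact hao x hx hy hm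

end LSetting

end CfsgLib.Fusion.CentralLift
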