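import Cfsg.Agent.Lib.Fusion.CentralLift.Claim
import Cfsg.Agent.Lib.Fusion.SatCriterion.Main

/-!
The lift is saturated.
-/

set_option autoImplicit false
open Cfsg Cfsg.FusionSystem CfsgLib.Fusion CfsgLib.FusionQuot

namespace CfsgLib.Fusion.CentralLift

variable {Ω Ω' : Type*} [Group Ω] [Group Ω'] {S Z : Subgroup Ω} {C : Cfsg.FusionSystem S}
  {S' U' : Subgroup Ω'} {θ : S →* Ω'} {C' : Cfsg.FusionSystem S'} {E' : Cfsg.FusionSystem U'}
  {p : ℕ}

namespace LSetting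

variable (h : LSetting C Z θ C' E' p)
include h

theorem liftSystem_sub [Finite S] : (liftSystem h).IsSubsystemOf C := by
  rintro P φ ⟨Q, e, he, hφ⟩
  exact mem_of_restrict (h.liftIso_isFIso he) le_rfl φ hφ

theorem liftSystem_isConj [Finite S] {P Q : Subgroup Ω} (hPQ : (liftSystem h).IsConj P Q) :
    ∃ e : P ≃* Q, LiftIso C Z θ E' p e := by
  obtain ⟨e, he⟩ := exists_iso_of_isConj hPQ
  exact ⟨e, (isFIso_liftSystem h).1 he⟩

theorem fullyAutomized_lift [Finite S] [Fact p.Prime] {R : Subgroup Ω} (hR : Fam Z θ E' R)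
    (hRn : E'.IsFullyNormalized (dn θ R)) :
    (liftSystem h).IsFullyAutomized p R := by
  have := h.finU'
  have hRU := h.fam_le hR
  have : Finite R := h.finite_le_up hRU
  have : Finite (MulAut R) := finite_mulAut
  have : Finite (dn θ R) := finite_of_le hR.2.2.1
  have : Finite (MulAut (dn θ R)) := finite_mulAut
  set A := (liftSystem h).autGroup R with hA
  set W := (autInducedBy (up θ U') R).subgroupOf A with hW
  have hWp : IsPGroup p W := IsPGroup.comap_subtype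
    (isPGroup_autInducedBy (h.pGroup.to_le (preimageAlong_le U')) R)
  obtain ⟨T, hT⟩ := hWp.exists_le_sylow
  refine ⟨hRU, T, (Subgroup.eq_of_le_of_card_ge hT ?_).symm⟩
  choose π hπ hπo using fun a : A =>
    h.liftIso_over ((mem_autGroup_liftSystem h hRU).1 a.2) hR.1
  let f : A →* E'.autGroup (dn θ R) :=
    { toFun := fun a => ⟨π a, (mem_autGroup_iff hR.2.2.1).2 (hπ a)⟩
      map_one' := Subtype.ext (h.over_unique hR.2.1 hR.2.1 (hπo 1) (over_refl θ R _))
      map_mul' := fun a b => Subtype.ext (h.over_unique hR.2.1 hR.2.1 (hπo (a * b))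
        (Over.trans (hπo b) (hπo a) hR.2.1)) }
  refine card_le_of_map_card_le f _ _ ?_ ?_
  · intro a ha
    have h1 : (π a : MulAut (dn θ R)) = 1 := congrArg Subtype.val ha
    have haL := (mem_autGroup_liftSystem h hRU).1 a.2
    have hd : (a : MulAut R) ∈ disp C Z R := by
      have := h.disp_of_over_aut hR.2.1 (one_mem _)
        ((mem_autGroup_iff hR.2.1).2 (h.liftIso_isFIso haL)) (c' := 1) (over_refl θ R _) (h1 ▸ hπo a)
      rwa [inv_one, one_mul] at this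
    have h2 := h.good hR _ haL hd
    rw [inn_eq_autInducedBy] at h2
    exact autInducedBy_mono hRU R h2
  · obtain ⟨-, T', hT'⟩ := isFullyAutomized_of_isFullyNormalized h.pU' h.satE hRn
    obtain ⟨g, hg⟩ := exists_conj_le_sylow T' (T.2.map f)
    refine le_trans (?_ : _ ≤ Nat.card (T' : Subgroup (E'.autGroup (dn θ R)))) ?_
    · exact Nat.card_le_card_of_injective (fun u : (T : Subgroup A).map f =>
          (⟨g * u * g⁻¹, hg u u.2⟩ : (T' : Subgroup (E'.autGroup (dn θ R)))))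
        fun a b hab => Subtype.ext (mul_left_cancel (mul_right_cancel (Subtype.ext_iff.1 hab)))
    · refine Subgroup.card_le_of_le ?_
      intro β hβ
      rw [hT'] at hβ
      obtain ⟨u', hu', hu'U, he⟩ := exists_eq_conjAut (show (β : MulAut (dn θ R)) ∈ _ from hβ)
      obtain ⟨⟨u, huS⟩, rfl⟩ := h.range_eq.ge (h.U'_le hu'U)
      have huR : u ∈ Subgroup.normalizer (R : Set Ω) :=
        (h.mem_normalizer_iff hR.2.1 hR.1 huS).2 hu'
      have huU : u ∈ up θ U' := mem_preimageAlong.2 ⟨huS, hu'U⟩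
      refine ⟨⟨_, autInducedBy_le_autGroup _ hRU (conjAut_mem_autInducedBy huU huR)⟩,
        conjAut_mem_autInducedBy huU huR, Subtype.ext ?_⟩
      refine h.over_unique hR.2.1 hR.2.1 (hπo _) ?_
      rw [he]
      intro x hx hy hm'
      show θ ⟨u, huS⟩ * θ ⟨x, hx⟩ * (θ ⟨u, huS⟩)⁻¹ = θ ⟨u * x * u⁻¹, hy⟩
      rw [← map_inv, ← map_mul, ← map_mul]
      rfl

theorem receptive_lift [Finite S] [Fact p.Prime] {Q : Subgroup Ω} (hQ : Fam Z θ E' Q) :
    (liftSystem h).IsReceptive Q := by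
  have := h.finU'
  refine ⟨h.fam_le hQ, fun P φ hφ hr => ?_⟩
  obtain ⟨Q₁, e, he, hex⟩ := hφ
  have hQ₁ : Q₁ = Q := by
    rw [← hr]
    ext y
    constructor
    · intro hy; exact ⟨e.symm ⟨y, hy⟩, by rw [hex, MulEquiv.apply_symm_apply]⟩
    · rintro ⟨x, rfl⟩; rw [hex]; exact (e x).2
  subst hQ₁
  have hP : Fam Z θ E' P := h.fam_transport hQ (h.liftIso_isFIso he).symm
  have hPU := h.fam_le hP
  set N := extender (up θ U') P φ with hN
  have hPN : P ≤ N := le_extender hPU fun x => hex x ▸ h.fam_le hQ (e x).2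
  have hNn : N ≤ normalizerIn (up θ U') P := extender_le_normalizerIn φ
  have hNU : N ≤ up θ U' := hNn.trans (normalizerIn_le _ _)
  have hNS : N ≤ S := hNU.trans (preimageAlong_le U')
  have hZN : Z ≤ N := hP.1.trans hPN
  obtain ⟨e', he', ho⟩ := h.liftIso_over he hP.1
  have hN'n : dn θ N ≤ normalizerIn U' (dn θ P) := by
    refine (imageAlong_mono hNn).trans ?_
    rw [h.normalizerIn_up hP.2.1 hP.1]
    exact (h.dn_up ((normalizerIn_le _ _).trans h.U'_le)).le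
  obtain ⟨ψ', hψ', -, hψ'x⟩ := he'.exists_extension (isReceptive_of_isCentric h.pU' h.satE hQ.2.2)
    (imageAlong_mono hPN) hN'n fun g' hg' => by
      obtain ⟨g, hgS, hgN, rfl⟩ := h.dn_mem hg'
      obtain ⟨hgU, hgn, k, hkU, hk⟩ := mem_extender_iff.1 hgN
      obtain ⟨hkS, hkU'⟩ := mem_preimageAlong.1 hkU
      refine mem_autInducedBy_iff.2 ⟨θ ⟨k, hkS⟩, hkU', ?_⟩
      rintro ⟨y, hy⟩
      obtain ⟨q, hqS, hqQ, rfl⟩ := h.dn_mem hy
      obtain ⟨x, hx⟩ := e.surjective ⟨q, hqQ⟩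
      have hxS : (x : Ω) ∈ S := hP.2.1 x.2
      have hxm : θ ⟨(x : Ω), hxS⟩ ∈ dn θ P := apply_mem_imageAlong _ x.2
      have h1 : e' ⟨_, hxm⟩ = ⟨θ ⟨q, hqS⟩, hy⟩ := by
        refine Subtype.ext ((ho x hxS (hQ.2.1 (e x).2) hxm).trans ?_)
        exact congrArg θ (Subtype.ext (congrArg Subtype.val hx :))
      have hc : g * (x : Ω) * g⁻¹ ∈ P := conj_mem_of_mem_normalizer hgn x.2
      have h2 := hk x hc
      rw [hex, hex, hx] at h2
      rw [congr_apply, ← h1, MulEquiv.symm_apply_apply]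
      have hm2 : θ ⟨g * (x : Ω) * g⁻¹, hP.2.1 hc⟩ ∈ dn θ P := apply_mem_imageAlong _ hc
      have h3 : conjAut (dn θ P) (θ ⟨g, hgS⟩) (hN'n hg').2 ⟨_, hxm⟩ = ⟨_, hm2⟩ := by
        refine Subtype.ext ?_
        show θ ⟨g, hgS⟩ * θ ⟨(x : Ω), hxS⟩ * (θ ⟨g, hgS⟩)⁻¹ = _
        rw [← map_inv, ← map_mul, ← map_mul]
        rfl
      rw [h3, h1]
      refine (ho ⟨_, hc⟩ (hP.2.1 hc) (hQ.2.1 (e _).2) hm2).trans ?_
      show _ = θ ⟨k, hkS⟩ * θ ⟨q, hqS⟩ * (θ ⟨k, hkS⟩)⁻¹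
      rw [← map_inv, ← map_mul, ← map_mul]
      exact congrArg θ (Subtype.ext h2)
  obtain ⟨-, W, f, hf, hfx⟩ := h.le_liftedSystem _ hψ'
  have hpre : up θ (dn θ N) = N := h.up_dn hNS hZN
  have hWS : W ≤ S := (h.liftIso_le hf).2.trans (preimageAlong_le U')
  obtain ⟨Y, f₀, hYW, hf₀, hf₀x⟩ := hf.exists_restrict (W := P) (hPN.trans hpre.ge)
  -- the lift restricted to `P` lies over `e'`
  have hval : ∀ (x : P) (hy : (f₀ x : Ω) ∈ S) (hm : θ ⟨(x : Ω), hP.2.1 x.2⟩ ∈ dn θ P),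
      θ ⟨(f₀ x : Ω), hy⟩ = ((e' ⟨_, hm⟩ : dn θ Q₁) : Ω') := by
    intro x hy hm
    rw [← hψ'x ⟨_, hm⟩]
    refine Eq.trans ?_ (hfx ⟨x, (hPN.trans hpre.ge) x.2⟩ (hP.2.1 x.2)
      (imageAlong_mono hPN hm) (hWS (f _).2)).symm
    exact congrArg θ (Subtype.ext (hf₀x x))
  have hY : Y = Q₁ := by
    have hFQ := h.finite_le_up (h.fam_le hQ)
    refine Subgroup.eq_of_le_of_card_ge (fun y hy => ?_) ?_
    · obtain ⟨x, hx⟩ := f₀.surjective ⟨y, hy⟩
      have hyS : y ∈ S := hWS (hYW hy)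
      have h1 := hval x (hWS (hYW (f₀ x).2)) (apply_mem_imageAlong _ x.2)
      have h2 : (⟨(f₀ x : Ω), hWS (hYW (f₀ x).2)⟩ : S) = ⟨y, hyS⟩ :=
        Subtype.ext (congrArg Subtype.val hx :)
      refine (h.mem_dn_iff hQ.2.1 hQ.1 hyS).1 ?_
      rw [← h2, h1]
      exact (e' _).2
    · rw [← Nat.card_congr f₀.toEquiv, ← Nat.card_congr e.toEquiv]
  subst hY
  obtain ⟨u, hu⟩ := h.liftIso_unique hP hf₀ he (e' := e')
    (fun x hx hy hm => (hval x hy hm).symm) ho
  -- precompose the lift with conjugation by `u`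
  have huN : (u : Ω) ∈ up θ (dn θ N) := hpre.ge (hPN u.2)
  have hinj : Function.Injective (conjHom N (u : Ω)) := fun a b hab =>
    Subtype.ext (mul_left_cancel (mul_right_cancel hab))
  set c := isoOfInjective hinj rfl with hc
  have hcL : LiftIso C Z θ E' p c := h.liftIso_conj hNU (hPU u.2) _ fun x => rfl
  have hcN : (conjHom N (u : Ω)).range ≤ up θ (dn θ N) := by
    rintro _ ⟨x, rfl⟩
    exact Subgroup.mul_mem _ (Subgroup.mul_mem _ huN (hpre.ge x.2)) (Subgroup.inv_mem _ huN)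
  obtain ⟨Y₁, f₁, -, hf₁, hf₁x⟩ := hf.exists_restrict hcN
  refine ⟨Y₁.subtype.comp (c.trans f₁).toMonoidHom, ⟨Y₁, c.trans f₁, hcL.trans hf₁, fun x => rfl⟩,
    fun x hxP hxN => ?_⟩
  rw [hex, hu ⟨x, hxP⟩, hf₀x]
  show ((c.trans f₁) ⟨x, hxN⟩ : Ω) = _
  rw [MulEquiv.trans_apply, hf₁x]
  exact congrArg (fun z : up θ (dn θ N) => (f z : Ω)) (Subtype.ext rfl)

/-- **The lift is saturated.** -/
theorem isSaturated_lift [Finite S] [Fact p.Prime] : (liftSystem h).IsSaturated p := by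
  have := h.finU'
  have hUS : up θ U' ≤ S := preimageAlong_le U'
  have : Finite (up θ U') := finite_of_le hUS
  have hUp : IsPGroup p (up θ U') := h.pGroup.to_le hUS
  refine SatCriterion.isSaturated_of_family hUp {P | Fam Z θ E' P} ?_ ?_ ?_ ?_
  · intro P hP Q hPQ
    obtain ⟨e, he⟩ := h.liftSystem_isConj hPQ
    exact h.fam_transport hP (h.liftIso_isFIso he)
  · intro P hP
    obtain ⟨R', hPR', hR'n⟩ := exists_isFullyNormalized E' hP.2.2.1
    have hR'c : E'.IsCentric R' := CentricExtend.centric_of_isConj hP.2.2 hPR'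
    have hdn : dn θ (up θ R') = R' := h.dn_up (hR'c.1.trans h.U'_le)
    have hR : Fam Z θ E' (up θ R') :=
      ⟨h.Z_le_up R', preimageAlong_le R', by rw [hdn]; exact hR'c⟩
    have hRn : E'.IsFullyNormalized (dn θ (up θ R')) := by rw [hdn]; exact hR'n
    obtain ⟨h₀, hh₀⟩ := h.exists_normExt hP hR hRn (by rw [hdn]; exact hPR')
    exact ⟨up θ R', ((isFIso_liftSystem h).2 hh₀.1).isConj, h.fullyAutomized_lift hR hRn,
      h.receptive_lift hR⟩
  · intro E hE P φ hφ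
    obtain ⟨Q, e, he, hex⟩ := hφ
    suffices IsFIso E e from mem_of_restrict this le_rfl φ hex
    clear hex φ
    induction he with
    | @aut R P Q hR hPR g hg e hx =>
      have h1 : IsFIso E (g : R ≃* R) :=
        hE R hR ⟨R, g, LiftIso.aut hR le_rfl g hg g fun _ => rfl, fun _ => rfl⟩
      exact h1.restrict hPR e hx
    | trans _ _ ihe ihf => exact ihe.trans ihf
  · intro P hPc hPH
    have hPU : P ≤ up θ U' := hPc.1
    have hPS := hPU.trans hUS
    have hZP : Z ≤ P := fun z hz => hPc.2 P (isConj_refl _ hPU)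
      ⟨h.Z_le_up U' hz, fun y hy => h.central hz (hPS hy)⟩
    have hP'U : dn θ P ≤ U' := (imageAlong_mono hPU).trans h.dn_up_U.le
    obtain ⟨Q', hQ', hCQ⟩ : ∃ Q', E'.IsConj (dn θ P) Q' ∧ ¬ centralizerIn U' Q' ≤ Q' := by
      by_contra hall
      push Not at hall
      exact hPH ⟨hZP, hPS, hP'U, hall⟩
    obtain ⟨c', hc', hc'Q⟩ := SetLike.not_le_iff_exists.1 hCQ
    have hQ'U := isConj_le_right hQ'
    have hQ'dn : dn θ (up θ Q') = Q' := h.dn_up (hQ'U.trans h.U'_le)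
    set Q := up θ Q' with hQdef
    have hQU : Q ≤ up θ U' := preimageAlong_mono hQ'U
    have hQS := hQU.trans hUS
    obtain ⟨e', he'⟩ := exists_iso_of_isConj (show E'.IsConj (dn θ P) (dn θ Q) by rwa [hQ'dn])
    obtain ⟨e, he, -⟩ := h.exists_lift hPU hZP hQU (h.Z_le_up Q') he'
    have hPQ : (liftSystem h).IsConj P Q := ((isFIso_liftSystem h).2 he).isConj
    refine ⟨Q, hPQ, fun hle => hc'Q ?_⟩
    obtain ⟨⟨c, hcS⟩, rfl⟩ := h.range_eq.ge (h.U'_le hc'.1)
    have hcU : c ∈ up θ U' := mem_preimageAlong.2 ⟨hcS, hc'.1⟩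
    have hcn : c ∈ Subgroup.normalizer (Q : Set Ω) := by
      refine (h.mem_normalizer_iff hQS (h.Z_le_up Q') hcS).2 ?_
      rw [hQ'dn]
      exact centralizer_le_normalizer Q' hc'.2
    set α := conjAut Q c hcn with hα
    have hαK : α ∈ (liftSystem h).autGroup Q :=
      autInducedBy_le_autGroup _ hQU (conjAut_mem_autInducedBy hcU hcn)
    have hαD : α ∈ disp C Z Q := by
      refine ⟨autInducedBy_le_autGroup C hQS (conjAut_mem_autInducedBy hcS hcn), fun x => ?_⟩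
      have hxS : (x : Ω) ∈ S := hQS x.2
      show (x : Ω)⁻¹ * (c * x * c⁻¹) ∈ Z
      refine (h.ker ((⟨x, hxS⟩ : S)⁻¹ * (⟨c, hcS⟩ * ⟨x, hxS⟩ * ⟨c, hcS⟩⁻¹))).1 ?_
      have hcx := Subgroup.mem_centralizer_iff.1 hc'.2 _ (mem_preimageAlong.1 x.2).2
      rw [map_mul, map_mul, map_mul, map_inv, map_inv, ← hcx, mul_inv_cancel_right, inv_mul_cancel]
    have hnorm : ((disp C Z Q).subgroupOf ((liftSystem h).autGroup Q)).Normal :=
      ⟨fun d hd g => h.disp_conj hQS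
        (autGroup_le_of_subsystem h.liftSystem_sub Q g.2) hd⟩
    have hcore : α ∈ SatCriterion.coreAut (liftSystem h) p Q := by
      refine ⟨⟨α, hαK⟩, ?_, rfl⟩
      have : Finite Q := finite_of_le hQS
      have : Finite (MulAut Q) := finite_mulAut
      exact CfsgLib.Solvable.le_pCore hnorm (h.disp_isPGroup hQS).comap_subtype
        (show (⟨α, hαK⟩ : (liftSystem h).autGroup Q) ∈ _ from hαD)
    have hinn := hle ⟨conjAut_mem_autInducedBy hcU hcn, hcore⟩
    rw [inn_eq_autInducedBy] at hinn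
    obtain ⟨q, hq, hqQ, hαq⟩ := exists_eq_conjAut hinn
    have hcent : q⁻¹ * c ∈ centralizerIn (up θ U') Q := by
      refine ⟨Subgroup.mul_mem _ (Subgroup.inv_mem _ (hQU hqQ)) hcU,
        Subgroup.mem_centralizer_iff.2 fun y hy => ?_⟩
      have h1 : c * y * c⁻¹ = q * y * q⁻¹ :=
        congrArg (fun a : MulAut Q => ((a ⟨y, hy⟩ : Q) : Ω)) hαq
      calc y * (q⁻¹ * c) = q⁻¹ * (q * y * q⁻¹) * c := by group
        _ = q⁻¹ * (c * y * c⁻¹) * c := by rw [h1]
        _ = q⁻¹ * c * y := by group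
    have h2 := hPc.2 Q hPQ hcent
    have h3 : c ∈ Q := by simpa using Q.mul_mem hqQ h2
    exact (mem_preimageAlong.1 h3).2

end LSetting

end CfsgLib.Fusion.CentralLift
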